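import Cfsg.Agent.Lib.Recog.OrdersFive.Count
import Cfsg.Agent.Lib.Small.A6Centralizer
import Cfsg.Agent.S2119

/-!
# Finite groups whose elements have order at most five and order divisible by nine
-/

set_option autoImplicit false
set_option linter.unusedSectionVars false
set_option linter.style.haveILetI false

namespace CfsgLib.Recog.OrdersFive

open Subgroup Cfsg Equiv

universe u

variable {G : Type*} [Group G] [Finite G]

theorem a6_support : ∀ σ : Perm (Fin 6), Perm.sign σ = 1 → σ * σ = 1 → σ ≠ 1 →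
    σ.support.card = 4 := by decide +kernel

theorem d4_facts : ∀ d : DihedralGroup 4, d * d ≠ 1 → (∃ b, b * d * b⁻¹ = d⁻¹) ∧
    ∀ x, x * d = d * x → x = 1 ∨ x = d ∨ x = d * d ∨ x = d * d * d := by decide

theorem a6_four (c : alternatingGroup (Fin 6)) (hc : c * c ≠ 1) (hc4 : c ^ 4 = 1) :
    (∃ b, b * c * b⁻¹ = c⁻¹) ∧
      ∀ x, x * c = c * x → x = 1 ∨ x = c ∨ x = c * c ∨ x = c * c * c := by
  set z := c * c with hz
  have hzz : z * z = 1 := by rw [hz, ← hc4]; simp [pow_succ, mul_assoc]
  haveI : Fact (Nat.Prime 2) := ⟨Nat.prime_two⟩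
  obtain ⟨e⟩ := CfsgLib.Small.a6_centralizer_equiv z
    (orderOf_eq_prime (by rw [pow_two, hzz]) hc)
    (a6_support _ (Perm.mem_alternatingGroup.1 z.2) (congrArg Subtype.val hzz)
      fun h => hc (Subtype.ext h))
  have hcz : c ∈ centralizer ({z} : Set (alternatingGroup (Fin 6))) :=
    mem_centralizer_singleton_iff.2 (by rw [hz, mul_assoc])
  obtain ⟨⟨b, hb⟩, hfac⟩ := d4_facts (e.symm ⟨c, hcz⟩) (fun h => hc (by
    have := congrArg (fun d => ((e d : centralizer _) : alternatingGroup (Fin 6))) h
    simpa using this))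
  refine ⟨⟨(e b : alternatingGroup (Fin 6)), ?_⟩, fun x hx => ?_⟩
  · simpa using congrArg (fun d => ((e d : centralizer _) : alternatingGroup (Fin 6))) hb
  · have hxz : x ∈ centralizer ({z} : Set (alternatingGroup (Fin 6))) :=
      mem_centralizer_singleton_iff.2 (by rw [hz]; exact (Commute.mul_right hx hx).eq)
    rcases hfac (e.symm ⟨x, hxz⟩) (by rw [← map_mul, ← map_mul]; exact congrArg e.symm (Subtype.ext hx))
      with h | h | h | h <;>
      have h' := congrArg (fun d => ((e d : centralizer _) : alternatingGroup (Fin 6))) h <;>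
      simp at h'
    · exact Or.inl h'
    · exact Or.inr (Or.inl h')
    · exact Or.inr (Or.inr (Or.inl h'))
    · exact Or.inr (Or.inr (Or.inr h'))

theorem a6_five : ∃ s y : alternatingGroup (Fin 6),
    s * s = 1 ∧ s ≠ 1 ∧ y ^ 5 = 1 ∧ y ≠ 1 ∧ s * y * s⁻¹ = y⁻¹ :=
  ⟨⟨swap 0 4 * swap 1 3, Perm.mem_alternatingGroup.2 (by decide +kernel)⟩,
    ⟨swap 0 1 * swap 1 2 * swap 2 3 * swap 3 4, Perm.mem_alternatingGroup.2 (by decide +kernel)⟩,
    by decide +kernel⟩

theorem dvd_sub_one_of_coprime (h : LeFive G) {W : Subgroup G} {q : ℕ} [Fact q.Prime] {y : G}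
    (hy : orderOf y = q) (hc : ¬ q ∣ Nat.card W) (hyW : y ∈ normalizer (W : Set G)) :
    q ∣ Nat.card W - 1 := by
  have hf := h.isFPF (A := zpowers y) (zpowers_le.2 hyW) (by
    rw [Nat.card_zpowers, hy]
    exact (Nat.Prime.coprime_iff_not_dvd Fact.out).2 hc)
  have := hf.card_dvd
  rwa [Nat.card_zpowers, hy] at this

/-- A nonsolvable group cannot have a Sylow `2`-subgroup acting without fixed points. -/
theorem no_fpf_two (h : LeFive G) (hns : ¬ Group.IsSolvable G) {D : Subgroup G} [D.Normal]
    {p : ℕ} [hp : Fact p.Prime] (hp2 : p ≠ 2) (hD : IsPGroup p D) (hne : D ≠ ⊥) : False := by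
  haveI : Fact (Nat.Prime 2) := ⟨Nat.prime_two⟩
  obtain ⟨h2, -, -⟩ := h.dvd_of_not_solvable hns
  obtain ⟨z₀, hz₀⟩ := exists_prime_orderOf_dvd_card' 2 h2
  obtain ⟨T, hT⟩ := (IsPGroup.of_card (n := 1) (by rw [Nat.card_zpowers, hz₀, pow_one]) :
    IsPGroup 2 (zpowers z₀)).exists_le_sylow
  have hf := h.isFPF_pGroup hp2.symm T.2 hD le_normalizer_of_normal
  have h2' : ∀ {t : G}, orderOf t = 2 → t ≠ 1 ∧ t * t = 1 := fun {t} ht =>
    ⟨fun e => by rw [e, orderOf_one] at ht; omega, by rw [← pow_two, ← ht, pow_orderOf_eq_one]⟩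
  have hiso : IsIsolatedInvolution z₀ := by
    refine CfsgLib.Involutions.isolated_of_sylow T hz₀ fun g hg => ?_
    have ho : orderOf (g * z₀ * g⁻¹) = 2 :=
      (orderOf_injective (MulAut.conj g).toMonoidHom (MulAut.conj g).injective z₀).trans hz₀
    exact hf.involution_unique hne hg (h2' ho).1 (h2' ho).2 (hT (mem_zpowers z₀)) (h2' hz₀).1 (h2' hz₀).2
  set O := oddCore G with hO
  haveI : O.Normal := pPrimeCore_normal 2 G
  have hOodd : (Nat.card O).Coprime 2 := CfsgLib.Base.pPrimeCore_coprime 2 G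
  haveI : Group.IsSolvable O := by
    refine CfsgLib.FgsB.FourOrbits.isSolvable_of_card_primeFactors_le_two ?_
    refine (Finset.card_le_card (t := {3, 5}) fun q hq => ?_).trans Finset.card_le_two
    obtain ⟨hq1, hq2, -⟩ := Nat.mem_primeFactors.1 hq
    haveI := Fact.mk hq1
    have hne2 : q ≠ 2 := fun e => Nat.prime_two.coprime_iff_not_dvd.1 hOodd.symm (e ▸ hq2)
    rcases ((h.subgroup O).prime_le hq2).resolve_left hne2 with e | e <;> simp [e]
  have hzO : z₀ ∉ O := fun hz => Nat.prime_two.coprime_iff_not_dvd.1 hOodd.symm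
    (hz₀ ▸ O.orderOf_dvd_natCard hz)
  set π := QuotientGroup.mk' O
  have hzo : orderOf (π z₀) = 2 := orderOf_eq_prime
    (by rw [← map_pow, ← hz₀, pow_orderOf_eq_one, map_one])
    (fun e => hzO ((QuotientGroup.eq_one_iff z₀).1 e))
  have htop : centralizer ({π z₀} : Set (G ⧸ O)) = ⊤ := eq_top_iff.2 fun q _ => by
    obtain ⟨g, rfl⟩ := QuotientGroup.mk'_surjective O q
    rw [mem_centralizer_singleton_iff]
    have hc := CfsgLib.Involutions.ZStar.centralModCore hiso g
    have h1 : π (z₀ * g * z₀⁻¹ * g⁻¹) = 1 := (QuotientGroup.eq_one_iff _).2 hc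
    rw [map_mul, map_mul, map_mul, map_inv, map_inv, mul_inv_eq_one, mul_inv_eq_iff_eq_mul] at h1
    exact h1.symm
  haveI : Group.IsSolvable (G ⧸ O) := by
    have hp' : IsPGroup 2 (G ⧸ O) := ((h.quotient O).isPGroup_centralizer hzo).of_equiv
      ((MulEquiv.subgroupCongr htop).trans topEquiv)
    haveI := hp'.isNilpotent
    infer_instance
  exact hns (Group.isSolvable_of_ker_le_range O.subtype π (by
    rw [QuotientGroup.ker_mk', range_subtype]))

/-- The alternating group of degree six has no proper extension with small element orders. -/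
theorem false_of_outer_six (h : LeFive G) {M : Subgroup G} [M.Normal] (hMt : M ≠ ⊤)
    (hcore : pCore 2 G = ⊥) (f : M ≃* alternatingGroup (Fin 6)) : False := by
  classical
  haveI : Fact (Nat.Prime 2) := ⟨Nat.prime_two⟩
  haveI : Fact (Nat.Prime 3) := ⟨Nat.prime_three⟩
  haveI : Fact (Nat.Prime 5) := ⟨by norm_num⟩
  haveI : IsSimpleGroup (alternatingGroup (Fin 6)) := alternatingGroup.isSimpleGroup (by simp)
  haveI : IsSimpleGroup M := f.isSimpleGroup
  have hM : Nat.card M = 360 := by rw [Nat.card_congr f.toEquiv, card_six]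
  obtain ⟨hn10, hsyl⟩ := CfsgLib.Small.card_sylow_three_of_card_360 hM
  -- Frattini
  have frattini : ∀ {p : ℕ} [Fact p.Prime] (R : Sylow p M),
      M.index ∣ Nat.card (normalizer (((R : Subgroup M).map M.subtype : Subgroup G) : Set G)) := by
    intro p _ R
    have htop := Sylow.normalizer_sup_eq_top R
    set N := normalizer (((R : Subgroup M).map M.subtype : Subgroup G) : Set G)
    have hr : M.relIndex N = M.index := by
      rw [← relIndex_top_right (H := M), ← htop, relIndex_sup_right]
    rw [← hr]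
    exact index_dvd_card _
  -- the index is a power of two
  obtain ⟨R⟩ : Nonempty (Sylow 3 M) := inferInstance
  obtain ⟨Y⟩ : Nonempty (Sylow 5 M) := inferInstance
  set R' := (R : Subgroup M).map M.subtype
  have hR9 : Nat.card R' = 9 :=
    (Subgroup.card_map_of_injective M.subtype_injective).trans (hsyl R).1
  have hR3 : IsPGroup 3 R' := R.2.map _
  have hY5 : ∀ Y : Sylow 5 M, Nat.card ((Y : Subgroup M).map M.subtype) = 5 := fun Y => by
    rw [Subgroup.card_map_of_injective M.subtype_injective, Sylow.card_eq_multiplicity, hM,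
      show (360 : ℕ).factorization 5 = 1 from ?_, pow_one]
    rw [show (360 : ℕ) = 5 * 72 from rfl, Nat.factorization_mul (by norm_num) (by norm_num)]
    simp [Nat.Prime.factorization_self (by norm_num : Nat.Prime 5),
      Nat.factorization_eq_zero_of_not_dvd (show ¬ 5 ∣ 72 by norm_num)]
  have hodd : ¬ 3 ∣ M.index ∧ ¬ 5 ∣ M.index := by
    refine ⟨fun h3 => ?_, fun h5 => ?_⟩
    · obtain ⟨y, hy⟩ := exists_prime_orderOf_dvd_card' (G := _) 3 (h3.trans (frattini Y))
      have := dvd_sub_one_of_coprime (q := 3) h (W := (Y : Subgroup M).map M.subtype) (y := (y : G))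
        (by rw [orderOf_coe, hy]) (by rw [hY5]; norm_num) y.2
      rw [hY5] at this; norm_num at this
    · obtain ⟨y, hy⟩ := exists_prime_orderOf_dvd_card' (G := _) 5 (h5.trans (frattini R))
      have := dvd_sub_one_of_coprime (q := 5) h (W := R') (y := (y : G))
        (by rw [orderOf_coe, hy]) (by rw [hR9]; norm_num) y.2
      rw [hR9] at this; norm_num at this
  -- the normalizer of a Sylow `3`-subgroup
  set NR := normalizer (R' : Set G) with hNR
  obtain ⟨K⟩ : Nonempty (Sylow 2 NR) := inferInstance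
  set K' := (K : Subgroup NR).map NR.subtype with hK'
  have hK2 : IsPGroup 2 K' := K.2.map _
  have hKN : K' ≤ NR := map_subtype_le _
  have hfK := h.isFPF_pGroup (by norm_num : (2 : ℕ) ≠ 3) hK2 hR3 hKN
  have hR'ne : R' ≠ ⊥ := fun e => by rw [e, card_bot] at hR9; omega
  have hK8 : Nat.card K' ∣ 8 := by have := hfK.card_dvd; rwa [hR9] at this
  -- its order
  have hidx2 : ∃ e, M.index = 2 ^ e := by
    refine ⟨M.index.factorization 2, ?_⟩
    have hsub : M.index.primeFactors ⊆ {2} := fun q hq => by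
      obtain ⟨hq1, hq2, -⟩ := Nat.mem_primeFactors.1 hq
      haveI := Fact.mk hq1
      rcases h.prime_le (hq2.trans (index_dvd_card M)) with e | e | e
      · simp [e]
      · exact absurd (e ▸ hq2) hodd.1
      · exact absurd (e ▸ hq2) hodd.2
    have := Nat.prod_primeFactors_pow_factorization (Subgroup.index_ne_zero_of_finite (H := M))
    rcases Finset.subset_singleton_iff.1 hsub with e | e
    · rw [e, Finset.prod_empty] at this
      rw [this]
      simp
    · rwa [e, Finset.prod_singleton] at this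
  have hrel : M.relIndex NR = M.index := by
    rw [← relIndex_top_right (H := M), ← Sylow.normalizer_sup_eq_top R, relIndex_sup_right]
  have hNcard : Nat.card NR = M.index * 36 := by
    rw [← card_inf_mul_relIndex M NR, hrel, mul_comm]
    congr 1
    rw [← (hsyl R).2]
    refine Eq.trans ?_ (Subgroup.card_map_of_injective M.subtype_injective)
    refine congrArg (fun H : Subgroup G => Nat.card H) ?_
    ext x
    simp only [mem_inf, Subgroup.mem_map]
    constructor
    · rintro ⟨hxM, hx⟩
      refine ⟨⟨x, hxM⟩, mem_normalizer_iff.2 fun r => ?_, rfl⟩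
      have := mem_normalizer_iff.1 hx (r : G)
      have key : ∀ a : M, (a : G) ∈ R' ↔ a ∈ (R : Subgroup M) := fun a =>
        mem_map_iff_mem M.subtype_injective
      exact (key r).symm.trans (this.trans (key (⟨x, hxM⟩ * r * ⟨x, hxM⟩⁻¹)))
    · rintro ⟨m, hm, rfl⟩
      refine ⟨m.2, mem_normalizer_iff_map_conj_eq.2 ?_⟩
      rw [Subgroup.map_map]
      conv_rhs => rw [show R' = ((R : Subgroup M).map (MulAut.conj m).toMonoidHom).map M.subtype by
        have e : (R : Subgroup M).map (MulAut.conj m).toMonoidHom = R :=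
          mem_normalizer_iff_map_conj_eq.1 hm
        rw [e]]
      rw [Subgroup.map_map]
      congr 1
  obtain ⟨e, he⟩ := hidx2
  have he0 : e ≠ 0 := fun e0 => hMt (index_eq_one.1 (by rw [he, e0, pow_zero]))
  have hKcard : Nat.card K' = 2 ^ (e + 2) := by
    rw [Subgroup.card_map_of_injective NR.subtype_injective, Sylow.card_eq_multiplicity, hNcard, he,
      show (2 : ℕ) ^ e * 36 = 2 ^ (e + 2) * 9 by ring, Nat.factorization_mul (by positivity) (by norm_num)]
    simp [Nat.Prime.factorization_pow Nat.prime_two,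
      Nat.factorization_eq_zero_of_not_dvd (show ¬ 2 ∣ 9 by norm_num)]
  have he1 : e = 1 := by
    have h8 := Nat.le_of_dvd (by norm_num) hK8
    rw [hKcard, show (8 : ℕ) = 2 ^ 3 from rfl] at h8
    have := (Nat.pow_le_pow_iff_right (by norm_num : 2 ≤ 2)).1 h8
    omega
  subst he1
  rw [pow_one] at he
  norm_num at hKcard
  have hcardG : Nat.card G = 720 := by rw [← card_mul_index M, hM, he]
  have hsplit : ∀ a b : G, a * b ∈ M ↔ (a ∈ M ↔ b ∈ M) := fun a b => mul_mem_iff_of_index_two he
  -- `K'` meets `M` in a cyclic group of order four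
  have hKM : Nat.card (M ⊓ K' : Subgroup G) = 4 := by
    have h1 := card_inf_mul_relIndex M K'
    have h2 : M.relIndex K' ∣ M.index := relIndex_dvd_index_of_normal M K'
    have h3 : M.relIndex K' ≠ 1 := fun e1 => by
      have hle : K' ≤ M := relIndex_eq_one.1 e1
      have : Nat.card K' ∣ Nat.card (M ⊓ NR : Subgroup G) := card_dvd_of_le (le_inf hle hKN)
      have h4 := card_inf_mul_relIndex M NR
      rw [hrel, hNcard, he] at h4
      rw [hKcard, show Nat.card (M ⊓ NR : Subgroup G) = 36 by omega] at this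
      norm_num at this
    rw [he] at h2
    rw [((Nat.dvd_prime Nat.prime_two).1 h2).resolve_left h3, hKcard] at h1
    omega
  have hinv : ∀ {t : G}, orderOf t = 2 → t ≠ 1 ∧ t * t = 1 := fun {t} ht =>
    ⟨fun e => by rw [e, orderOf_one] at ht; omega, by rw [← pow_two, ← ht, pow_orderOf_eq_one]⟩
  obtain ⟨z, hz⟩ := exists_prime_orderOf_dvd_card' (G := (M ⊓ K' : Subgroup G)) 2 (hKM ▸ by norm_num)
  have hzo : orderOf (z : G) = 2 := by rw [orderOf_coe, hz]
  -- involutions outside `M` normalize no such Sylow subgroup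
  have hR : ∀ t : G, t * t = 1 → t ≠ 1 → t ∈ NR → t ∈ M := by
    intro t htt ht1 htN
    obtain ⟨Kt, hKt⟩ := ((IsPGroup.of_card (n := 1) (by
      rw [Nat.card_zpowers, orderOf_eq_prime (by rw [pow_two, htt]) ht1, pow_one]) :
        IsPGroup 2 (zpowers t)).comap_subtype (K := NR)).exists_le_sylow
    obtain ⟨g, rfl⟩ := MulAction.exists_smul_eq NR K Kt
    have h1 := hKt (mem_subgroupOf.2 (mem_zpowers t) : (⟨t, htN⟩ : NR) ∈ _)
    rw [Sylow.coe_subgroup_smul, Subgroup.mem_pointwise_smul_iff_inv_smul_mem] at h1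
    set t' : G := (g : G)⁻¹ * t * g
    have htK : t' ∈ K' := ⟨_, h1, by simp [t', ← map_inv, MulAut.conj_apply]⟩
    have e1 : t' = z := hfK.involution_unique hR'ne htK
      (fun e => ht1 (by simpa [t', mul_assoc] using congrArg (fun w => (g : G) * w * (g : G)⁻¹) e))
      (by simp only [t']; calc (g : G)⁻¹ * t * g * ((g : G)⁻¹ * t * g) = (g : G)⁻¹ * (t * t) * g := by group
            _ = 1 := by rw [htt]; group)
      (mem_inf.1 z.2).2 (hinv hzo).1 (hinv hzo).2
    rw [show t = (g : G) * t' * (g : G)⁻¹ by simp only [t']; group, e1]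
    exact (inferInstance : M.Normal).conj_mem _ (mem_inf.1 z.2).1 g
  obtain ⟨s, y, hs, hs1, hy5, hy1, hsy⟩ := a6_five
  set y' : G := ((f.symm y : M) : G)
  set s' : G := ((f.symm s : M) : G)
  have hy'o : orderOf y' = 5 := by
    rw [orderOf_coe, MulEquiv.orderOf_eq, orderOf_eq_prime hy5 hy1]
  have hC5 : centralizer ({y'} : Set G) = zpowers y' := by
    refine (eq_of_le_of_card_ge (zpowers_le.2 (mem_centralizer_singleton_iff.2 rfl)) ?_).symm
    obtain ⟨n, hn⟩ := IsPGroup.iff_card.1 (h.isPGroup_centralizer hy'o)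
    have hd := card_subgroup_dvd_card (centralizer ({y'} : Set G))
    rw [hn, hcardG] at hd
    rw [Nat.card_zpowers, hy'o, hn]
    match n with
    | 0 => norm_num
    | 1 => norm_num
    | n + 2 =>
      exact absurd ((pow_dvd_pow 5 (by omega : 2 ≤ n + 2)).trans hd) (by norm_num)
  have hY : ∀ t : G, t * t = 1 → t * y' * t⁻¹ ∈ zpowers y' → t ∈ M := by
    intro t htt htN
    have hti : t⁻¹ = t := inv_eq_of_mul_eq_one_left htt
    have hs' : s' * y' * s'⁻¹ = y'⁻¹ := by
      simp only [s', y', ← InvMemClass.coe_inv, ← Subgroup.coe_mul, ← map_inv, ← map_mul, hsy]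
    obtain ⟨i, hi⟩ := (isOfFinOrder_of_finite y').mem_powers_iff_mem_zpowers.2 htN
    have hi' : y' ^ i = t * y' * t⁻¹ := hi
    have hy'' : y' = y' ^ (i * i) := by
      rw [pow_mul, hi', conj_pow, hi', hti]
      rw [show t * (t * y' * t) * t = (t * t) * y' * (t * t) by group, htt]
      simp
    have hmod : i * i ≡ 1 [MOD 5] := by
      rw [← hy'o, ← pow_eq_pow_iff_modEq, pow_one]; exact hy''.symm
    have hred : y' ^ i = y' ^ (i % 5) := by rw [← hy'o, pow_mod_orderOf]
    have h5 : i % 5 < 5 := Nat.mod_lt _ (by norm_num)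
    have hmod' : (i % 5) * (i % 5) % 5 = 1 := by
      rw [← Nat.mul_mod]; exact hmod
    have hcase : t * y' * t⁻¹ = y' ∨ t * y' * t⁻¹ = y'⁻¹ := by
      rw [← hi', hred]
      interval_cases hh : i % 5 <;> norm_num at hmod'
      · exact Or.inl (pow_one _)
      · refine Or.inr (eq_inv_of_mul_eq_one_left ?_)
        rw [← pow_succ]; exact orderOf_dvd_iff_pow_eq_one.1 hy'o.dvd
    have hmemM : y' ∈ M := (f.symm y).2
    rcases hcase with e | e
    · have : t ∈ centralizer ({y'} : Set G) :=
        mem_centralizer_singleton_iff.2 (mul_inv_eq_iff_eq_mul.1 e)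
      rw [hC5] at this
      exact zpowers_le.2 hmemM this
    · have : s' * t ∈ centralizer ({y'} : Set G) := mem_centralizer_singleton_iff.2 (by
        refine mul_inv_eq_iff_eq_mul.1 ?_
        calc s' * t * y' * (s' * t)⁻¹ = s' * (t * y' * t⁻¹) * s'⁻¹ := by group
          _ = (s' * y' * s'⁻¹)⁻¹ := by rw [e]; group
          _ = y' := by rw [hs', inv_inv])
      rw [hC5] at this
      exact ((hsplit s' t).1 (zpowers_le.2 hmemM this)).1 (f.symm s).2
  -- an involution outside `M`
  obtain ⟨w, hw, hwM⟩ : ∃ w : G, orderOf w = 2 ∧ w ∉ M := by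
    by_contra hall
    push Not at hall
    obtain ⟨k, hk, hkM⟩ := SetLike.not_le_iff_exists.1 (show ¬ K' ≤ M ⊓ K' from fun hle => by
      have := card_le_of_le hle
      omega)
    have hkM' : k ∉ M := fun h' => hkM (mem_inf.2 ⟨h', hk⟩)
    have hfour : ∀ g ∈ K', g ^ 4 = 1 := fun g hg => h.pow_four hK2 hg
    -- the only involution of `K'`
    have huni : ∀ g ∈ K', g * g = 1 → g = 1 ∨ g = z := fun g hg hgg => by
      rcases eq_or_ne g 1 with e1 | e1
      · exact Or.inl e1
      · exact Or.inr (hfK.involution_unique hR'ne hg e1 hgg (mem_inf.1 z.2).2 (hinv hzo).1 (hinv hzo).2)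
    obtain ⟨c, hc, hcz⟩ := SetLike.not_le_iff_exists.1
      (show ¬ (M ⊓ K' : Subgroup G) ≤ zpowers (z : G) from fun hle => by
        have := card_le_of_le hle
        rw [Nat.card_zpowers, hzo] at this
        omega)
    obtain ⟨hcM, hcK⟩ := mem_inf.1 hc
    have hcc : c * c ≠ 1 := fun e1 => by
      rcases huni c hcK e1 with e2 | e2
      · exact hcz (e2 ▸ one_mem _)
      · exact hcz (e2 ▸ mem_zpowers _)
    have hco : orderOf c = 4 := orderOf_eq_prime_pow (p := 2) (n := 1)
      (by rw [pow_one, pow_two]; exact hcc) (by norm_num; exact hfour c hcK)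
    have hcgen : zpowers c = M ⊓ K' := eq_of_le_of_card_ge (zpowers_le.2 hc)
      (by rw [Nat.card_zpowers, hco, hKM])
    have hkc : k * c * k⁻¹ ∈ zpowers c := by
      rw [hcgen]
      exact mem_inf.2 ⟨(inferInstance : M.Normal).conj_mem _ hcM k,
        mul_mem (mul_mem hk hcK) (inv_mem hk)⟩
    obtain ⟨i, hi⟩ := (isOfFinOrder_of_finite c).mem_powers_iff_mem_zpowers.2 hkc
    have hi' : c ^ (i % 4) = k * c * k⁻¹ := by rw [← hco, pow_mod_orderOf]; exact hi
    -- the facts in `M`
    have hc4 : c ^ 4 = 1 := hfour c hcK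
    obtain ⟨⟨b₀, hb₀⟩, hfac⟩ := a6_four (f ⟨c, hcM⟩)
      (fun e1 => hcc (congrArg Subtype.val (f.injective (show f (⟨c, hcM⟩ * ⟨c, hcM⟩) = f 1 by
        rw [map_mul, map_one]; exact e1))))
      (by rw [← map_pow, show (⟨c, hcM⟩ : M) ^ 4 = 1 from Subtype.ext hc4, map_one])
    set b : G := ((f.symm b₀ : M) : G)
    have hb : b * c * b⁻¹ = c⁻¹ := by
      have := congrArg (fun x => ((f.symm x : M) : G)) hb₀
      simpa [b] using this
    obtain ⟨v, hvM, hvc⟩ : ∃ v, v ∉ M ∧ v * c = c * v := by
      have h4 : i % 4 < 4 := Nat.mod_lt _ (by norm_num)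
      interval_cases hh : i % 4
      · exact absurd (show c = 1 by simpa [mul_assoc] using congrArg (fun x => k⁻¹ * x * k) hi'.symm)
          fun e1 => hcc (by rw [e1, mul_one])
      · exact ⟨k, hkM', (mul_inv_eq_iff_eq_mul.1 (by rw [← hi', pow_one]))⟩
      · exfalso
        have : orderOf (k * c * k⁻¹) = 4 :=
          (orderOf_injective (MulAut.conj k).toMonoidHom (MulAut.conj k).injective c).trans hco
        rw [← hi', orderOf_pow, hco] at this
        norm_num at this
      · have hk' : k * c * k⁻¹ = c⁻¹ := by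
          rw [← hi']
          exact eq_inv_of_mul_eq_one_left (by rw [← pow_succ]; exact hc4)
        refine ⟨k * b, fun hkb => hkM' (((hsplit k b).1 hkb).2 (f.symm b₀).2), ?_⟩
        refine mul_inv_eq_iff_eq_mul.1 ?_
        calc k * b * c * (k * b)⁻¹ = k * (b * c * b⁻¹) * k⁻¹ := by group
          _ = (k * c * k⁻¹)⁻¹ := by rw [hb]; group
          _ = c := by rw [hk', inv_inv]
    have hc1 : c ≠ 1 := fun e1 => hcc (by rw [e1, mul_one])
    haveI hCc : IsPGroup 2 (centralizer ({c} : Set G)) := h.isPGroup_centralizer_two hc1 hc4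
    have hv4 : v ^ 4 = 1 := h.pow_four hCc (mem_centralizer_singleton_iff.2 hvc)
    have hv1 : v ≠ 1 := fun e1 => hvM (e1 ▸ one_mem _)
    have hout : ∀ g : G, g * g = 1 → g ∈ M := fun g hgg => by
      rcases eq_or_ne g 1 with e1 | e1
      · exact e1 ▸ one_mem _
      · exact hall g (orderOf_eq_prime (by rw [pow_two, hgg]) e1)
    have hvvM : v * v ∈ M := (hsplit v v).2 Iff.rfl
    have hvv : (v * v) * (v * v) = 1 := by rw [← hv4]; simp [pow_succ, mul_assoc]
    have hvv1 : v * v ≠ 1 := fun e1 => hvM (hout v e1)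
    have hcomm : Commute v c := hvc
    rcases hfac (f ⟨v * v, hvvM⟩) (by
      rw [← map_mul, ← map_mul]
      exact congrArg f (Subtype.ext (hcomm.mul_left hcomm).eq)) with e1 | e1 | e1 | e1 <;>
      [skip; skip; skip; skip]
    · exact hvv1 (congrArg Subtype.val (f.injective (e1.trans f.map_one.symm)))
    · rw [EmbeddingLike.apply_eq_iff_eq, Subtype.mk.injEq] at e1
      exact hcc (by rw [← e1]; exact hvv)
    · rw [← map_mul, EmbeddingLike.apply_eq_iff_eq] at e1
      have e2 : v * v = c * c := congrArg Subtype.val e1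
      refine hvM ?_
      have hh : (v * c⁻¹) * (v * c⁻¹) = 1 := by
        rw [show v * c⁻¹ * (v * c⁻¹) = v * (c⁻¹ * v) * c⁻¹ by group, (hcomm.inv_right).eq.symm,
          show v * (v * c⁻¹) * c⁻¹ = (v * v) * (c * c)⁻¹ by group, e2, mul_inv_cancel]
      simpa using mul_mem (hout _ hh) hcM
    · rw [← map_mul, ← map_mul, EmbeddingLike.apply_eq_iff_eq] at e1
      have e2 : v * v = c * c * c := congrArg Subtype.val e1
      refine hcc ?_
      have : (c * c * c) * (c * c * c) = 1 := by rw [← e2]; exact hvv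
      calc c * c = (c * c * c * (c * c * c)) * (c ^ 4)⁻¹ := by simp [pow_succ, mul_assoc]
        _ = 1 := by rw [this, hc4]; simp
  -- Baer-Suzuki
  obtain ⟨hw1, hww⟩ := hinv hw
  obtain ⟨g, hg⟩ : ∃ g : G, ¬ IsPGroup 2 ↥(zpowers w ⊔ (zpowers w).map (MulAut.conj g).toMonoidHom) := by
    by_contra hall
    push Not at hall
    obtain ⟨N, hN, hN2, hle⟩ := CfsgLib.Involutions.baerSuzuki (zpowers w) hall
    haveI := hN
    exact hw1 (mem_bot.1 (hcore ▸ CfsgLib.Base.le_pCore hN2 (hle (mem_zpowers w))))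
  set w' := g * w * g⁻¹
  rw [MonoidHom.map_zpowers, show (MulAut.conj g).toMonoidHom w = w' from rfl] at hg
  have hw'o : orderOf w' = 2 :=
    (orderOf_injective (MulAut.conj g).toMonoidHom (MulAut.conj g).injective w).trans hw
  have hww' : w ≠ w' := fun e => hg (by
    rw [← e, sup_idem]
    exact IsPGroup.of_card (n := 1) (by rw [Nat.card_zpowers, hw, pow_one]))
  obtain ⟨φ⟩ := Cfsg.Agent.S0206.result w w' hw hw'o hww'
  set x := w * w' with hx
  have hxo : orderOf x = 3 ∨ orderOf x = 5 := by
    by_contra hne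
    push Not at hne
    refine hg ?_
    rw [zpowers_eq_closure, zpowers_eq_closure, ← Subgroup.closure_union, Set.singleton_union]
    obtain ⟨j, hj⟩ : ∃ j, orderOf x = 2 ^ j := by
      rcases h.order_cases x with e | e | e | e | e
      · exact ⟨0, e⟩
      · exact ⟨1, e⟩
      · exact absurd e hne.1
      · exact ⟨2, e⟩
      · exact absurd e hne.2
    refine IsPGroup.of_card (n := j + 1) ?_
    rw [Nat.card_congr φ.toEquiv, DihedralGroup.nat_card, hj, pow_succ, mul_comm]
  have hwi : w⁻¹ = w := inv_eq_of_mul_eq_one_left hww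
  have hw'i : w'⁻¹ = w' := inv_eq_of_mul_eq_one_left (hinv hw'o).2
  have hwx : w * x * w⁻¹ = x⁻¹ := by
    rw [hx, mul_inv_rev, hw'i, hwi, ← mul_assoc, hww, one_mul]
  have hxM : x ∈ M := by
    rw [hx, hsplit]
    exact iff_of_false hwM fun hc =>
      hwM (by simpa [w', mul_assoc] using (inferInstance : M.Normal).conj_mem _ hc g⁻¹)
  rcases hxo with ho | ho
  · -- a Sylow `3`-subgroup
    have hx3 : IsPGroup 3 (zpowers (⟨x, hxM⟩ : M)) :=
      IsPGroup.of_card (n := 1) (by rw [Nat.card_zpowers, orderOf_mk, ho, pow_one])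
    obtain ⟨Rx, hRx⟩ := hx3.exists_le_sylow
    obtain ⟨m, rfl⟩ := MulAction.exists_smul_eq M R Rx
    set x' : G := (m : G)⁻¹ * x * m
    have hx'R : x' ∈ R' := by
      have h1 := hRx (mem_zpowers _)
      rw [Sylow.coe_subgroup_smul, Subgroup.mem_pointwise_smul_iff_inv_smul_mem] at h1
      exact ⟨_, h1, by simp [x', ← map_inv, MulAut.conj_apply]⟩
    have hx'o : orderOf x' = 3 := by
      have := orderOf_injective (MulAut.conj (m : G)⁻¹).toMonoidHom (MulAut.conj (m : G)⁻¹).injective x
      simpa [x', ho] using this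
    set v := (m : G)⁻¹ * w * m
    have hvx : v * x' * v⁻¹ = x'⁻¹ := by
      calc v * x' * v⁻¹ = (m : G)⁻¹ * (w * x * w⁻¹) * m := by simp only [v, x']; group
        _ = x'⁻¹ := by rw [hwx]; simp only [x']; group
    haveI : IsMulCommutative R' :=
      IsPGroup.isMulCommutative_of_card_eq_prime_sq (p := 3) (by rw [hR9]; norm_num)
    have hC : centralizer ({x'} : Set G) = R' := by
      refine (eq_of_le_of_card_ge (fun r hr => mem_centralizer_singleton_iff.2
        (congrArg Subtype.val (mul_comm' (⟨r, hr⟩ : R') ⟨x', hx'R⟩))) ?_).symm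
      obtain ⟨n, hn⟩ := IsPGroup.iff_card.1 (h.isPGroup_centralizer hx'o)
      have hd := card_subgroup_dvd_card (centralizer ({x'} : Set G))
      rw [hn, hcardG] at hd
      rw [hR9, hn]
      match n with
      | 0 => norm_num
      | 1 => norm_num
      | 2 => norm_num
      | n + 3 => exact absurd ((pow_dvd_pow 3 (by omega : 3 ≤ n + 3)).trans hd) (by norm_num)
    have hv2 : v * v = 1 := by
      calc v * v = (m : G)⁻¹ * (w * w) * m := by simp only [v]; group
        _ = 1 := by rw [hww]; group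
    have hv1 : v ≠ 1 := fun e => hw1 (by
      simpa [v, mul_assoc] using congrArg (fun a => (m : G) * a * (m : G)⁻¹) e)
    have hvN : v ∈ NR := by
      rw [hNR, mem_normalizer_iff_map_conj_eq]
      refine eq_of_le_of_card_ge ?_ (Nat.le_of_eq (Nat.card_congr
        (equivMapOfInjective _ _ (MulAut.conj v).injective).toEquiv))
      rintro _ ⟨r, hr, rfl⟩
      rw [← hC]
      refine mem_centralizer_singleton_iff.2 ?_
      have hrx : r * x'⁻¹ = x'⁻¹ * r :=
        congrArg Subtype.val (mul_comm' (⟨r, hr⟩ : R') ⟨x', hx'R⟩⁻¹)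
      have hx'' : x' = v * x'⁻¹ * v⁻¹ := by
        have h' := congrArg (·⁻¹) hvx
        simpa [mul_assoc] using h'.symm
      show v * r * v⁻¹ * x' = x' * (v * r * v⁻¹)
      conv_lhs => rw [hx'']
      conv_rhs => rw [hx'']
      calc v * r * v⁻¹ * (v * x'⁻¹ * v⁻¹) = v * (r * x'⁻¹) * v⁻¹ := by group
        _ = _ := by rw [hrx]; group
    refine hwM ?_
    have := (inferInstance : M.Normal).conj_mem _ (hR v hv2 hv1 hvN) (m : G)
    simpa [v, mul_assoc] using this
  · -- a Sylow `5`-subgroup
    have hP5 : ∀ {a : G}, orderOf a = 5 → ∃ P : Sylow 5 G, (P : Subgroup G) = zpowers a := by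
      intro a ha
      obtain ⟨P, hP⟩ := (IsPGroup.of_card (n := 1) (by rw [Nat.card_zpowers, ha, pow_one]) :
        IsPGroup 5 (zpowers a)).exists_le_sylow
      refine ⟨P, (eq_of_le_of_card_ge hP ?_).symm⟩
      rw [Nat.card_zpowers, ha, Sylow.card_eq_multiplicity, hcardG,
        show (720 : ℕ) = 5 * 144 from rfl, Nat.factorization_mul (by norm_num) (by norm_num)]
      simp [Nat.Prime.factorization_self (by norm_num : Nat.Prime 5),
        Nat.factorization_eq_zero_of_not_dvd (show ¬ 5 ∣ 144 by norm_num)]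
    obtain ⟨Px, hPx⟩ := hP5 ho
    obtain ⟨Py, hPy⟩ := hP5 hy'o
    obtain ⟨m, rfl⟩ := MulAction.exists_smul_eq G Py Px
    set v := m⁻¹ * w * m
    have hmem : m⁻¹ * x * m ∈ zpowers y' := by
      have h1 : x ∈ ((m • Py : Sylow 5 G) : Subgroup G) := by rw [hPx]; exact mem_zpowers x
      rw [Sylow.coe_subgroup_smul, Subgroup.mem_pointwise_smul_iff_inv_smul_mem, hPy] at h1
      simpa [← map_inv, MulAut.conj_apply] using h1
    have hxx : zpowers (m⁻¹ * x * m) = zpowers y' := eq_of_le_of_card_ge (zpowers_le.2 hmem) (by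
      have := orderOf_injective (MulAut.conj m⁻¹).toMonoidHom (MulAut.conj m⁻¹).injective x
      simp only [MulEquiv.coe_toMonoidHom, MulAut.conj_apply, inv_inv] at this
      rw [Nat.card_zpowers, Nat.card_zpowers, hy'o, this, ho])
    obtain ⟨k, hk⟩ := mem_zpowers_iff.1 (hxx.ge (mem_zpowers y'))
    have hv : v * y' * v⁻¹ ∈ zpowers y' := by
      rw [← hxx, ← hk, ← conj_zpow]
      refine zpow_mem ?_ k
      rw [show v * (m⁻¹ * x * m) * v⁻¹ = m⁻¹ * (w * x * w⁻¹) * m by simp only [v]; group, hwx,
        show m⁻¹ * x⁻¹ * m = (m⁻¹ * x * m)⁻¹ by group]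
      exact inv_mem (mem_zpowers _)
    have hv2 : v * v = 1 := by
      calc v * v = m⁻¹ * (w * w) * m := by simp only [v]; group
        _ = 1 := by rw [hww]; group
    refine hwM ?_
    have := (inferInstance : M.Normal).conj_mem _ (hY v hv2 hv) m
    simpa [v, mul_assoc] using this

/-- A nonsolvable group with element orders at most five and order divisible by nine is the
alternating group of degree six. -/
theorem six_aux : ∀ (n : ℕ) (G : Type u) [Group G] [Finite G], Nat.card G < n → LeFive G →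
    Six G := by
  intro n
  induction n with
  | zero => intro G _ _ h; omega
  | succ n ih =>
    intro G _ _ hn h h9 hns
    classical
    -- minimal normal subgroups are not solvable
    have hmin : ∀ D : Subgroup G, D.Normal → ∀ p : ℕ, p.Prime → IsPGroup p D → D = ⊥ := by
      intro D hD p hp hDp
      by_contra hne
      haveI := hD
      haveI := Fact.mk hp
      rcases eq_or_ne p 2 with rfl | hp2
      · haveI : Fact (Nat.Prime 3) := ⟨Nat.prime_three⟩
        obtain ⟨R⟩ : Nonempty (Sylow 3 G) := inferInstance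
        have hd := h.card_dvd_of_fpf (by norm_num) R.2
          (h.isFPF_pGroup (by norm_num : (3 : ℕ) ≠ 2) R.2 hDp le_normalizer_of_normal) hne
        rw [R.card_eq_multiplicity] at hd
        have : 3 ^ 2 ∣ 3 ^ (Nat.card G).factorization 3 :=
          pow_dvd_pow 3 ((Nat.prime_three.pow_dvd_iff_le_factorization Nat.card_pos.ne').1
            (by norm_num; exact h9))
        exact absurd (Nat.le_of_dvd (by norm_num) (this.trans hd)) (by norm_num)
      · exact no_fpf_two h hns hp2 hDp hne
    haveI : Nontrivial G := by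
      by_contra hnt
      haveI := not_nontrivial_iff_subsingleton.1 hnt
      exact hns inferInstance
    obtain ⟨M, hMmin⟩ := CfsgLib.Base.exists_isMinimalNormal (G := G)
    haveI := hMmin.normal
    have hMs : ¬ Group.IsSolvable M := fun hs => by
      haveI := hs
      haveI := hMmin.isMulCommutative hs
      obtain ⟨p, hp, hMp⟩ : ∃ p : ℕ, p.Prime ∧ IsPGroup p M := by
        haveI : Nontrivial M := (nontrivial_iff_ne_bot M).2 hMmin.ne_bot
        obtain ⟨p, hp, hpne⟩ := CfsgLib.Base.exists_prime_pCore_ne_bot (G := M)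
        haveI : Fact p.Prime := ⟨hp⟩
        haveI : (pCore p M).Normal := pCore_normal p _
        haveI : ((pCore p M).map M.subtype).Normal := by
          rw [CfsgLib.Base.map_pCore_eq_inf]
          haveI := pCore_normal p G
          infer_instance
        rcases hMmin.eq_bot_or_eq ‹((pCore p M).map M.subtype).Normal› (map_subtype_le _) with e | e
        · exact absurd ((map_eq_bot_iff_of_injective _ M.subtype_injective).1 e) hpne
        · exact ⟨p, hp, e ▸ (CfsgLib.Base.isPGroup_pCore p M).map _⟩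
      exact hMmin.ne_bot (hmin M inferInstance p hp hMp)
    by_cases hMt : M = ⊤
    · -- the simple case
      have hsimple : IsSimpleGroup G :=
        ⟨fun D hD => (hMmin.eq_bot_or_eq hD (hMt ▸ le_top)).imp id fun e => e.trans hMt⟩
      exact six_of_simple ⟨h, fun K hK => ih K (lt_of_lt_of_le (CfsgLib.Coprime.card_lt_of_ne_top hK)
        (by omega)) (h.subgroup K), hsimple, hns, h9⟩
    exfalso
    have hcore : pCore 2 G = ⊥ := hmin _ (pCore_normal 2 G) 2 Nat.prime_two
      (CfsgLib.Base.isPGroup_pCore 2 G)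
    have hMlt : Nat.card M < n := lt_of_lt_of_le (CfsgLib.Coprime.card_lt_of_ne_top hMt) (by omega)
    by_cases hM9 : 9 ∣ Nat.card M
    · obtain ⟨f⟩ := ih M hMlt (h.subgroup M) hM9 hMs
      exact false_of_outer_six h hMt hcore f
    obtain ⟨E, hE, hE2, ⟨φ⟩⟩ := (h.subgroup M).small hMs hM9
    haveI := hE
    obtain rfl : E = ⊥ := by
      rw [← map_eq_bot_iff_of_injective E M.subtype_injective, eq_bot_iff, ← hcore]
      refine le_trans (map_mono (CfsgLib.Base.le_pCore (isPGroup_elementary hE2))) ?_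
      rw [CfsgLib.Base.map_pCore_eq_inf]
      exact inf_le_left
    let f : M ≃* alternatingGroup (Fin 5) := (QuotientGroup.quotientBot).symm.trans φ
    haveI := simple_five
    haveI : IsSimpleGroup M := f.isSimpleGroup
    -- the automorphism group has order prime to nine
    have hC : centralizer (M : Set G) = ⊥ := by
      by_contra hne
      haveI : (centralizer (M : Set G)).Normal := normal_centralizer
      haveI : Fact (Nat.Prime 2) := ⟨Nat.prime_two⟩
      obtain ⟨t, ht⟩ := exists_prime_orderOf_dvd_card' (G := M) 2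
        (by rw [Nat.card_congr f.toEquiv, card_five]; norm_num)
      exact hne (hmin _ inferInstance 2 Nat.prime_two ((h.isPGroup_centralizer
        (x := (t : G)) (by rw [orderOf_coe, ht])).to_le
          (centralizer_le (Set.singleton_subset_iff.2 t.2))))
    have hinj : Function.Injective (MulAut.conjNormal : G →* MulAut M) := by
      rw [← MonoidHom.ker_eq_bot_iff, eq_bot_iff, ← hC]
      intro g hg
      rw [mem_centralizer_iff]
      intro m hm
      have h1 : g * m * g⁻¹ = m := congrArg (fun ψ : MulAut M => ((ψ ⟨m, hm⟩ : M) : G)) hg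
      exact (mul_inv_eq_iff_eq_mul.1 h1).symm
    have h120 : Nat.card (MulAut M) = 120 := by
      rw [Nat.card_congr (MulAut.congr f).toEquiv, ← Nat.card_congr (Equiv.ofBijective _
        (Cfsg.Agent.S2119.result 5 (by norm_num) (by norm_num))), Nat.card_perm, Nat.card_fin]
      rfl
    have hdvd := card_dvd_of_injective _ hinj
    rw [h120] at hdvd
    exact absurd (h9.trans hdvd) (by norm_num)

theorem six {G : Type u} [Group G] [Finite G] (h : LeFive G) : Six G :=
  six_aux _ G (Nat.lt_succ_self _) h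

end CfsgLib.Recog.OrdersFive
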