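import Cfsg.Agent.Lib.Recog.OrdersFive.Basic
import Cfsg.Agent.Lib.Recog.IcosahedralPresentation
import Mathlib

/-!
# The extension of a group of order sixteen by the alternating group of degree five
-/

set_option autoImplicit false
set_option linter.unusedSectionVars false
set_option linter.style.haveILetI false

namespace CfsgLib.Recog.OrdersFive

open Subgroup Cfsg Equiv

theorem act_eqs {M : Type*} [AddCommGroup M] (h2 : ∀ x : M, x + x = 0) (S Y : M →+ M)
    (hS : ∀ x, S (S x) = x) (hY : ∀ x, x + Y x + Y (Y x) + Y (Y (Y x)) + Y (Y (Y (Y x))) = 0)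
    (hX : ∀ x, x + S (Y x) + S (Y (S (Y x))) = 0) {v : M} (hv : S v = v) :
    S (Y v) = Y v + Y (Y v) + Y (Y (Y v)) ∧ S (Y (Y v)) = v + Y (Y v) ∧
      S (Y (Y (Y v))) = v + Y (Y (Y v)) := by
  have hneg : ∀ x : M, -x = x := fun x => neg_eq_of_add_eq_zero_left (h2 x)
  have h5 : ∀ x, Y (Y (Y (Y (Y x)))) = x := fun x => by
    have h1 := hY x
    have h1' := hY (Y x)
    calc Y (Y (Y (Y (Y x)))) = (Y x + Y (Y x) + Y (Y (Y x)) + Y (Y (Y (Y x))) + Y (Y (Y (Y (Y x)))))
          - (x + Y x + Y (Y x) + Y (Y (Y x)) + Y (Y (Y (Y x)))) + x := by abel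
      _ = x := by rw [h1, h1', sub_zero, zero_add]
  have hcancel : ∀ x y : M, Y x = y → x = Y (Y (Y (Y y))) := fun x y e => by rw [← e, h5]
  have key : ∀ x, Y (S (Y x)) = S x + Y x := fun x => by
    have h1 := congrArg S (hX x)
    rw [map_add, map_add, map_zero, hS, hS] at h1
    rw [← hneg (S x + Y x)]
    exact eq_neg_of_add_eq_zero_right h1
  have h4 : ∀ x, Y (Y (Y (Y x))) = x + Y x + Y (Y x) + Y (Y (Y x)) := fun x => by
    rw [← hneg (x + Y x + Y (Y x) + Y (Y (Y x)))]
    exact eq_neg_of_add_eq_zero_right (hY x)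
  have hdup : ∀ a b : M, a + (a + b) = b := fun a b => by rw [← add_assoc, h2, zero_add]
  have e1 : S (Y v) = Y v + Y (Y v) + Y (Y (Y v)) := by
    have := hcancel _ _ (key v)
    rw [hv, map_add, map_add, map_add, map_add, h5, h4] at this
    rw [this]
    calc v + Y v + Y (Y v) + Y (Y (Y v)) + v
        = v + (v + (Y v + Y (Y v) + Y (Y (Y v)))) := by abel
      _ = _ := hdup _ _
  have e2 : S (Y (Y v)) = v + Y (Y v) := by
    have := hcancel _ _ (key (Y v))
    rw [e1, show Y v + Y (Y v) + Y (Y (Y v)) + Y (Y v) =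
      Y (Y v) + (Y (Y v) + (Y v + Y (Y (Y v)))) by abel, hdup] at this
    rw [this]
    simp only [map_add, h5]
  refine ⟨e1, e2, ?_⟩
  have := hcancel _ _ (key (Y (Y v)))
  rw [e2] at this
  simp only [map_add, h5] at this
  rw [h4 v] at this
  rw [this]
  calc v + Y v + Y (Y v) + Y (Y (Y v)) + Y v + Y (Y v)
      = Y v + (Y v + (Y (Y v) + (Y (Y v) + (v + Y (Y (Y v)))))) := by abel
    _ = _ := by rw [hdup, hdup]

/-- Vectors over the field with two elements. -/
abbrev V4 : Type := Fin 4 → ZMod 2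

/-- The permutation induced by the element of order five. -/
def yMap (x : V4) : V4 := ![x 3, x 0 + x 3, x 1 + x 3, x 2 + x 3]

/-- The permutation induced by the involution. -/
def sMap (x : V4) : V4 := ![x 0 + x 2 + x 3, x 1, x 1 + x 2, x 1 + x 3]

theorem yMap_iter : ∀ x, yMap (yMap (yMap (yMap (yMap x)))) = x := by decide

theorem sMap_iter : ∀ x, sMap (sMap x) = x := by decide

/-- The affine permutation group of degree sixteen. -/
def model : Subgroup (Perm V4) :=
  Subgroup.closure {Equiv.addRight ![1, 0, 0, 0],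
    ⟨yMap, fun x => yMap (yMap (yMap (yMap x))), yMap_iter, yMap_iter⟩,
    ⟨sMap, sMap, sMap_iter, sMap_iter⟩}

theorem val_cases : ∀ a : ZMod 2, a = 0 ∨ a = 1 := by decide

theorem five_triple : ∃ s y c : alternatingGroup (Fin 5), s * s = 1 ∧ y ^ 5 = 1 ∧ y ≠ 1 ∧
    (s * y) ^ 3 = 1 ∧ s * y ≠ 1 ∧ s ≠ 1 ∧ c ^ 3 = 1 ∧ c ≠ 1 ∧ s * c * s⁻¹ = c⁻¹ :=
  ⟨⟨swap 0 1 * swap 2 3, Perm.mem_alternatingGroup.2 (by decide +kernel)⟩,
    ⟨swap 0 1 * swap 1 2 * swap 2 3 * swap 3 4, Perm.mem_alternatingGroup.2 (by decide +kernel)⟩,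
    ⟨swap 0 1 * swap 1 4, Perm.mem_alternatingGroup.2 (by decide +kernel)⟩, by decide +kernel⟩

variable {G : Type*} [Group G] [Finite G]

set_option maxHeartbeats 1000000 in
/-- There is only one such extension. -/
theorem equiv_model (h : LeFive G) (N : Subgroup G) [N.Normal] (hN : IsElementaryAbelian 2 N)
    (hne : N ≠ ⊥) (hmin : ∀ D : Subgroup G, D.Normal → D ≤ N → D ≠ ⊥ → D = N)
    (e : G ⧸ N ≃* alternatingGroup (Fin 5)) :
    Nonempty (G ≃* model) := by
  classical
  haveI : Fact (Nat.Prime 5) := ⟨by norm_num⟩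
  haveI : Fact (Nat.Prime 3) := ⟨Nat.prime_three⟩
  haveI : Fact (Nat.Prime 2) := ⟨Nat.prime_two⟩
  haveI := hN.1
  set π : G →* alternatingGroup (Fin 5) := e.toMonoidHom.comp (QuotientGroup.mk' N) with hπ
  have hπs : Function.Surjective π := e.surjective.comp (QuotientGroup.mk'_surjective N)
  have hπN : ∀ g, π g = 1 ↔ g ∈ N := fun g => by simp [hπ]
  have hinvo : ∀ n ∈ N, n * n = 1 := fun n hn => by rw [← pow_two]; exact hN.2 n hn
  -- lifts of odd order
  have hlift : ∀ {p : ℕ}, (p = 3 ∨ p = 5) → ∀ g, π g ^ p = 1 → π g ≠ 1 → orderOf g = p := by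
    intro p hp g hg hg1
    haveI : Fact p.Prime := ⟨by rcases hp with rfl | rfl <;> norm_num⟩
    have hd : p ∣ orderOf g := orderOf_eq_prime hg hg1 ▸ orderOf_map_dvd π g
    have := Nat.le_of_dvd (orderOf_pos g) hd
    have := h g
    obtain ⟨k, hk⟩ := hd
    rcases k with _ | _ | k
    · omega
    · simpa using hk
    · rcases hp with rfl | rfl <;> omega
  have hfix : ∀ g w, w ∈ N → g * w = w * g → orderOf g = 3 ∨ orderOf g = 5 → w = 1 := by
    intro g w hw hgw ho
    refine (h.coprime_commute hgw ?_).resolve_left (fun e1 => by rw [e1, orderOf_one] at ho; omega)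
    have hd : orderOf w ∣ 2 := orderOf_dvd_of_pow_eq_one (hN.2 w hw)
    refine Nat.Coprime.coprime_dvd_right hd ?_
    rcases ho with ho | ho <;> rw [ho] <;> norm_num
  obtain ⟨sb, yb, cb, hs2, hy5, hy1, hsy3, hsy1, hs1, hc3, hc1, hsc⟩ := five_triple
  obtain ⟨y, rfl⟩ := hπs yb
  obtain ⟨c, rfl⟩ := hπs cb
  obtain ⟨g, rfl⟩ := hπs sb
  have hyo : orderOf y = 5 := hlift (Or.inr rfl) y hy5 hy1
  have hco : orderOf c = 3 := hlift (Or.inl rfl) c hc3 hc1
  -- an involution over the given one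
  obtain ⟨s, hsπ, hss⟩ : ∃ s, π s = π g ∧ s * s = 1 := by
    let f : N → N := fun u => ⟨u * (c⁻¹ * (u : G)⁻¹ * c), mul_mem u.2 (by
      simpa using (inferInstance : N.Normal).conj_mem _ (inv_mem u.2) c⁻¹)⟩
    have hf : Function.Injective f := by
      intro a b hab
      have hab' : (a : G) * (c⁻¹ * (a : G)⁻¹ * c) = b * (c⁻¹ * (b : G)⁻¹ * c) :=
        congrArg Subtype.val hab
      refine Subtype.ext (inv_mul_eq_one.1 (hfix c ((a : G)⁻¹ * b) (mul_mem (inv_mem a.2) b.2) ?_
        (Or.inl hco)))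
      calc c * ((a : G)⁻¹ * b) = c * ((a : G)⁻¹ * (b * (c⁻¹ * (b : G)⁻¹ * c))) * (c⁻¹ * b * c) := by group
        _ = c * ((a : G)⁻¹ * (a * (c⁻¹ * (a : G)⁻¹ * c))) * (c⁻¹ * b * c) := by rw [hab']
        _ = (a : G)⁻¹ * b * c := by group
    have hm : g * c * g⁻¹ * c ∈ N := by
      rw [← hπN, map_mul, map_mul, map_mul, map_inv, hsc, inv_mul_cancel]
    obtain ⟨u, hu⟩ := Finite.injective_iff_surjective.1 hf ⟨_, hm⟩
    have hu' : (u : G) * (c⁻¹ * (u : G)⁻¹ * c) = g * c * g⁻¹ * c := congrArg Subtype.val hu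
    set s := (u : G)⁻¹ * g
    have hsπ : π s = π g := by rw [map_mul, map_inv, (hπN u).2 u.2, inv_one, one_mul]
    have hinv : s * c * s⁻¹ = c⁻¹ := by
      calc s * c * s⁻¹ = (u : G)⁻¹ * (g * c * g⁻¹ * c) * c⁻¹ * u := by simp only [s]; group
        _ = (u : G)⁻¹ * (u * (c⁻¹ * (u : G)⁻¹ * c)) * c⁻¹ * u := by rw [hu']
        _ = c⁻¹ := by group
    refine ⟨s, hsπ, hfix c _ ((hπN _).1 (by rw [map_mul, hsπ, hs2])) ?_ (Or.inl hco)⟩
    have h2 : s * s * c * (s * s)⁻¹ = c := by
      calc s * s * c * (s * s)⁻¹ = s * (s * c * s⁻¹) * s⁻¹ := by group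
        _ = s * c⁻¹ * s⁻¹ := by rw [hinv]
        _ = (s * c * s⁻¹)⁻¹ := by group
        _ = c := by rw [hinv, inv_inv]
    exact (mul_inv_eq_iff_eq_mul.1 h2).symm
  rw [← hsπ] at hs2 hs1 hsy3 hsy1 hsc
  have hsi : s⁻¹ = s := inv_eq_of_mul_eq_one_left hss
  have hsyo : orderOf (s * y) = 3 := hlift (Or.inl rfl) _ (by rw [map_mul]; exact hsy3)
    (by rw [map_mul]; exact hsy1)
  -- the complement
  set K := closure ({s, y} : Set G) with hK
  have hy5' : y ^ 5 = 1 := hyo ▸ pow_orderOf_eq_one y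
  have hsy3' : (s * y) ^ 3 = 1 := hsyo ▸ pow_orderOf_eq_one _
  have hKcard : Nat.card K ≤ 60 := by
    set x₀ : K := ⟨s, subset_closure (by simp)⟩ * ⟨y, subset_closure (by simp)⟩⁻¹
    set y₀ : K := ⟨y, subset_closure (by simp)⟩
    refine (CfsgLib.Recog.card_le_sixty_of_relations x₀ y₀ (Subtype.ext ?_) (Subtype.ext ?_)
      (Subtype.ext ?_) ?_).2
    · show (s * y⁻¹) ^ 3 = 1
      have : (s * y⁻¹) = s * ((s * y)⁻¹) * s⁻¹ := by rw [mul_inv_rev, hsi]; simp [mul_assoc, hss]
      rw [this, conj_pow, inv_pow, hsy3', inv_one, mul_one, mul_inv_cancel]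
    · exact hy5'
    · show (s * y⁻¹ * y) ^ 2 = 1
      rw [inv_mul_cancel_right, pow_two, hss]
    · refine map_injective K.subtype_injective ?_
      rw [MonoidHom.map_closure, ← MonoidHom.range_eq_map, range_subtype]
      show Subgroup.closure _ = Subgroup.closure ({s, y} : Set G)
      refine le_antisymm ((closure_le _).2 ?_) ((closure_le _).2 ?_)
      · rintro _ ⟨a, ha, rfl⟩
        rcases ha with rfl | rfl
        · exact mul_mem (subset_closure (Or.inl rfl)) (inv_mem (subset_closure (Or.inr rfl)))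
        · exact subset_closure (Or.inr rfl)
      · rintro a (rfl | rfl)
        · have h1 : x₀ * y₀ = ⟨a, subset_closure (by simp)⟩ := inv_mul_cancel_right _ _
          refine (show a = K.subtype (x₀ * y₀) by rw [h1]; rfl) ▸ ?_
          rw [map_mul]
          exact mul_mem (subset_closure ⟨x₀, by simp, rfl⟩) (subset_closure ⟨y₀, by simp, rfl⟩)
        · exact subset_closure ⟨y₀, by simp, rfl⟩
  have hKtop : K.map π = ⊤ := by
    haveI : IsSimpleGroup (alternatingGroup (Fin 5)) := alternatingGroup.isSimpleGroup (by simp)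
    have h60 : Nat.card (alternatingGroup (Fin 5)) = 60 := by
      rw [nat_card_alternatingGroup, Nat.card_fin]; rfl
    set A := K.map π
    have hsA : π s ∈ A := mem_map_of_mem π (subset_closure (by simp))
    have hyA : π y ∈ A := mem_map_of_mem π (subset_closure (by simp))
    have hd : ∀ {p : ℕ} [Fact p.Prime] {a}, a ∈ A → a ^ p = 1 → a ≠ 1 → p ∣ Nat.card A :=
      fun {p} _ {a} ha h1 h2 => orderOf_eq_prime h1 h2 ▸ A.orderOf_dvd_natCard ha
    have h30 : 30 ∣ Nat.card A := by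
      have e2 := hd (p := 2) hsA (by rw [pow_two]; exact hs2) hs1
      have e3 := hd (p := 3) (mul_mem hsA hyA) hsy3 hsy1
      have e5 := hd (p := 5) hyA hy5 hy1
      omega
    have hidx : A.index ∣ 2 := by
      have := card_mul_index A
      rw [h60] at this
      obtain ⟨k, hk⟩ := h30
      rw [hk, mul_assoc] at this
      exact Dvd.intro_left k (by omega)
    rcases (Nat.dvd_prime Nat.prime_two).1 hidx with e1 | e2
    · exact index_eq_one.1 e1
    · haveI := normal_of_index_eq_two e2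
      rcases (inferInstance : A.Normal).eq_bot_or_eq_top with hb | ht
      · exact absurd (mem_bot.1 (hb ▸ hsA)) hs1
      · exact ht
  have hK60 : Nat.card K = 60 := by
    refine le_antisymm hKcard (Nat.le_of_dvd Nat.card_pos ?_)
    have := Subgroup.card_map_dvd K π
    rwa [hKtop, card_top, nat_card_alternatingGroup, Nat.card_fin] at this
  have hKN : ∀ x ∈ K, x ∈ N → x = 1 := by
    have hb : Function.Bijective (π.comp K.subtype) := by
      refine (Nat.bijective_iff_surjective_and_card _).2 ⟨fun a => ?_, ?_⟩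
      · obtain ⟨x, hx, rfl⟩ := hKtop.ge (mem_top a)
        exact ⟨⟨x, hx⟩, rfl⟩
      · rw [hK60, nat_card_alternatingGroup, Nat.card_fin]; rfl
    intro x hx hxN
    exact congrArg Subtype.val (hb.1 (a₁ := ⟨x, hx⟩) (a₂ := 1)
      (by rw [map_one]; exact (hπN x).2 hxN))
  -- the module
  let M := Additive N
  letI : CommGroup N := { (inferInstance : Group N) with mul_comm := fun a b => hN.1.is_comm.comm a b }
  let conjM : G → (M →+ M) := fun a =>
    MonoidHom.toAdditive ((MulAut.conjNormal a : MulAut N) : N →* N)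
  have hconjM : ∀ a (x : M), (((conjM a x).toMul : N) : G) = a * (x.toMul : G) * a⁻¹ := fun a x => rfl
  have hM2 : ∀ x : M, x + x = 0 := fun x => Subtype.ext (hinvo _ x.toMul.2)
  have hprod : ∀ {a : G} {n : ℕ}, (n = 3 ∨ n = 5) → π a ^ n = 1 → π a ≠ 1 → ∀ w ∈ N, (w * a) ^ n = 1 := by
    intro a n hn h1 h2 w hw
    have h1' : π (w * a) = π a := by rw [map_mul, (hπN w).2 hw, one_mul]
    rw [← hlift hn (w * a) (by rw [h1']; exact h1) (by rw [h1']; exact h2)]
    exact pow_orderOf_eq_one _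
  -- a fixed vector
  obtain ⟨v, hv, hv1, hsv⟩ : ∃ v ∈ N, v ≠ 1 ∧ s * v * s⁻¹ = v := by
    obtain ⟨w, hw, hw1⟩ := (bot_or_exists_ne_one N).resolve_left hne
    by_cases hf : s * w * s⁻¹ = w
    · exact ⟨w, hw, hw1, hf⟩
    have hw' : s * w * s⁻¹ ∈ N := (inferInstance : N.Normal).conj_mem w hw s
    have hcm : (s * w * s⁻¹) * w = w * (s * w * s⁻¹) :=
      congrArg Subtype.val (mul_comm (⟨_, hw'⟩ : N) ⟨w, hw⟩)
    refine ⟨s * w * s⁻¹ * w, mul_mem hw' hw, fun e1 => hf ?_, ?_⟩
    · rw [mul_eq_one_iff_eq_inv.1 e1]; exact inv_eq_of_mul_eq_one_left (hinvo w hw)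
    · calc s * (s * w * s⁻¹ * w) * s⁻¹ = (s * s) * w * (s * s)⁻¹ * (s * w * s⁻¹) := by group
        _ = w * (s * w * s⁻¹) := by rw [hss]; group
        _ = _ := hcm.symm
  set vM : M := Additive.ofMul ⟨v, hv⟩
  set S := conjM s
  set Y := conjM y
  have hS : ∀ x, S (S x) = x := fun x => Subtype.ext (by
    show s * (s * (x.toMul : G) * s⁻¹) * s⁻¹ = x.toMul
    rw [show s * (s * (x.toMul : G) * s⁻¹) * s⁻¹ = (s * s) * x.toMul * (s * s)⁻¹ by group, hss]
    group)
  have hY : ∀ x, x + Y x + Y (Y x) + Y (Y (Y x)) + Y (Y (Y (Y x))) = 0 := fun x => Subtype.ext (by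
    show (x.toMul : G) * (y * x.toMul * y⁻¹) * (y * (y * x.toMul * y⁻¹) * y⁻¹) *
      (y * (y * (y * x.toMul * y⁻¹) * y⁻¹) * y⁻¹) *
      (y * (y * (y * (y * x.toMul * y⁻¹) * y⁻¹) * y⁻¹) * y⁻¹) = 1
    calc _ = ((x.toMul : G) * y) ^ 5 * (y ^ 5)⁻¹ := by simp only [pow_succ, pow_zero, one_mul]; group
      _ = 1 := by rw [hprod (Or.inr rfl) hy5 hy1 _ x.toMul.2, hy5', inv_one, one_mul])
  have hX : ∀ x, x + S (Y x) + S (Y (S (Y x))) = 0 := fun x => Subtype.ext (by
    show (x.toMul : G) * (s * (y * x.toMul * y⁻¹) * s⁻¹) *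
      (s * (y * (s * (y * x.toMul * y⁻¹) * s⁻¹) * y⁻¹) * s⁻¹) = 1
    calc _ = ((x.toMul : G) * (s * y)) ^ 3 * ((s * y) ^ 3)⁻¹ := by
          simp only [pow_succ, pow_zero, one_mul]; group
      _ = 1 := by
        rw [hprod (Or.inl rfl) (by rw [map_mul]; exact hsy3) (by rw [map_mul]; exact hsy1) _ x.toMul.2,
          hsy3', inv_one, one_mul])
  have hvS : S vM = vM := Subtype.ext hsv
  obtain ⟨e1, e2, e3⟩ := act_eqs hM2 S Y hS hY hX hvS
  have hneg : ∀ x : M, -x = x := fun x => neg_eq_of_add_eq_zero_left (hM2 x)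
  have h4 : Y (Y (Y (Y vM))) = vM + Y vM + Y (Y vM) + Y (Y (Y vM)) := by
    rw [← hneg (vM + Y vM + Y (Y vM) + Y (Y (Y vM)))]
    exact eq_neg_of_add_eq_zero_right (hY vM)
  -- coordinates
  set b : Fin 4 → M := ![vM, Y vM, Y (Y vM), Y (Y (Y vM))]
  have hsmul : ∀ (a a' : ZMod 2) (m : M), (a + a').val • m = a.val • m + a'.val • m := by
    intro a a' m
    rcases val_cases a with rfl | rfl <;> rcases val_cases a' with rfl | rfl <;>
      simp [hM2, ZMod.val_one, show (1 : ZMod 2) + 1 = 0 from rfl]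
  let φ : V4 →+ M := AddMonoidHom.mk' (fun x => ∑ i, (x i).val • b i) fun x x' => by
    rw [← Finset.sum_add_distrib]
    exact Finset.sum_congr rfl fun i _ => hsmul _ _ _
  have hφ : ∀ x, φ x = (x 0).val • vM + (x 1).val • Y vM + (x 2).val • Y (Y vM) +
      (x 3).val • Y (Y (Y vM)) := fun x => by
    show ∑ i, (x i).val • b i = _
    rw [Fin.sum_univ_four]
    rfl
  have hφY : ∀ x, φ (yMap x) = Y (φ x) := fun x => by
    rw [hφ, hφ, map_add, map_add, map_add, map_nsmul, map_nsmul, map_nsmul, map_nsmul, h4]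
    simp only [yMap, Matrix.cons_val_zero, Matrix.cons_val_one, Matrix.cons_val,
      hsmul, smul_add]
    abel
  have hφS : ∀ x, φ (sMap x) = S (φ x) := fun x => by
    rw [hφ, hφ, map_add, map_add, map_add, map_nsmul, map_nsmul, map_nsmul, map_nsmul, hvS, e1, e2, e3]
    simp only [sMap, Matrix.cons_val_zero, Matrix.cons_val_one, Matrix.cons_val,
      hsmul, smul_add]
    abel
  have hv0 : φ ![1, 0, 0, 0] = vM := by rw [hφ]; simp [ZMod.val_one]
  -- they span the module
  have hrange : φ.range = ⊤ := by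
    let W : Subgroup N :=
      { carrier := {n | Additive.ofMul n ∈ φ.range}
        one_mem' := φ.range.zero_mem
        mul_mem' := fun ha hb => φ.range.add_mem ha hb
        inv_mem' := fun ha => φ.range.neg_mem ha }
    have hWne : W.map N.subtype ≠ ⊥ := fun hb => hv1 (by
      have : (⟨v, hv⟩ : N) ∈ W := ⟨_, hv0⟩
      exact mem_bot.1 (hb ▸ mem_map_of_mem N.subtype this))
    have hyW : y ∈ normalizer (W.map N.subtype : Set G) := by
      rw [mem_normalizer_iff_map_conj_eq]
      refine eq_of_le_of_card_ge ?_ (Nat.le_of_eq (Nat.card_congr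
        (equivMapOfInjective _ _ (MulAut.conj y).injective).toEquiv))
      rintro _ ⟨_, ⟨n, hn, rfl⟩, rfl⟩
      obtain ⟨x, hx⟩ := hn
      exact ⟨(Y (Additive.ofMul n)).toMul, ⟨yMap x, by rw [hφY, hx]; rfl⟩, rfl⟩
    have hsW : s ∈ normalizer (W.map N.subtype : Set G) := by
      rw [mem_normalizer_iff_map_conj_eq]
      refine eq_of_le_of_card_ge ?_ (Nat.le_of_eq (Nat.card_congr
        (equivMapOfInjective _ _ (MulAut.conj s).injective).toEquiv))
      rintro _ ⟨_, ⟨n, hn, rfl⟩, rfl⟩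
      obtain ⟨x, hx⟩ := hn
      exact ⟨(S (Additive.ofMul n)).toMul, ⟨sMap x, by rw [hφS, hx]; rfl⟩, rfl⟩
    haveI : (W.map N.subtype).Normal := by
      refine normalizer_eq_top_iff.1 (eq_top_iff.2 fun a _ => ?_)
      obtain ⟨k, hk, hka⟩ := hKtop.ge (mem_top (π a))
      rw [show a = (a * k⁻¹) * k by group]
      refine mul_mem ?_ ((closure_le _).2 (by
        rintro b (rfl | rfl)
        · exact hsW
        · exact hyW) hk)
      have haN : a * k⁻¹ ∈ N := (hπN _).1 (by rw [map_mul, map_inv, hka, mul_inv_cancel])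
      refine mem_normalizer_iff.2 fun w => ?_
      constructor
      · intro hw
        have hwN : w ∈ N := map_subtype_le W hw
        rwa [show (a * k⁻¹) * w * (a * k⁻¹)⁻¹ = w by
          have h2 := congrArg Subtype.val (mul_comm (⟨_, haN⟩ : N) ⟨w, hwN⟩)
          simp only [Subgroup.coe_mul] at h2
          rw [h2]; group]
      · intro hw
        have hcN : (a * k⁻¹) * w * (a * k⁻¹)⁻¹ ∈ N := map_subtype_le W hw
        have e1 : w = (a * k⁻¹) * w * (a * k⁻¹)⁻¹ := by
          have h2 := congrArg Subtype.val (mul_comm (⟨_, hcN⟩ : N) ⟨_, haN⟩)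
          simp only [Subgroup.coe_mul] at h2
          calc w = (a * k⁻¹)⁻¹ * ((a * k⁻¹) * w * (a * k⁻¹)⁻¹ * (a * k⁻¹)) := by group
            _ = _ := by rw [h2]; group
        exact e1 ▸ hw
    have hWN := hmin (W.map N.subtype) inferInstance (map_subtype_le W) hWne
    refine eq_top_iff.2 fun x _ => ?_
    obtain ⟨w, hw, hwx⟩ := hWN.ge (x.toMul : N).2
    rw [show x = Additive.ofMul w from (Subtype.ext hwx.symm : x.toMul = w)]
    exact hw
  have hsurj : Function.Surjective φ := AddMonoidHom.range_eq_top.1 hrange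
  have hcard : Nat.card N = 16 := by
    have hN2 : IsPGroup 2 N := fun n => ⟨1, Subtype.ext (by simpa using hN.2 n n.2)⟩
    have hle : Nat.card N ≤ 16 := by
      rw [← Nat.card_congr (Additive.toMul (α := N))]
      exact (Nat.card_le_card_of_surjective φ hsurj).trans (by simp)
    have hd := (h.isFPF_pGroup (by norm_num : (5 : ℕ) ≠ 2)
      (IsPGroup.of_card (n := 1) (by rw [Nat.card_zpowers, hyo, pow_one]) : IsPGroup 5 (zpowers y))
      hN2 le_normalizer_of_normal).card_dvd
    rw [Nat.card_zpowers, hyo] at hd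
    obtain ⟨k, hk⟩ := IsPGroup.iff_card.1 hN2
    rw [hk, show (16 : ℕ) = 2 ^ 4 from rfl] at hle
    have hk4 := (Nat.pow_le_pow_iff_right (by norm_num : 2 ≤ 2)).1 hle
    have hk0 : k ≠ 0 := fun e0 => hne (card_eq_one.1 (by rw [hk, e0, pow_zero]))
    rw [hk] at hd ⊢
    interval_cases k <;> omega
  have hcardG : Nat.card G = 960 := by
    rw [card_eq_card_quotient_mul_card_subgroup N, Nat.card_congr e.toEquiv,
      nat_card_alternatingGroup, Nat.card_fin, hcard]
    rfl
  have hMcard : Nat.card M = 16 := (Nat.card_congr Additive.toMul).trans hcard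
  have hbij : Function.Bijective φ := by
    refine (Nat.bijective_iff_surjective_and_card _).2 ⟨hsurj, ?_⟩
    rw [hMcard]; simp
  -- the cosets of the complement
  let ψ : V4 → G ⧸ K := fun x => (((φ x).toMul : G) : G ⧸ K)
  have hψi : Function.Injective ψ := fun x x' hxx => hbij.1 (Subtype.ext
    (inv_mul_eq_one.1 (hKN _ (QuotientGroup.eq.1 hxx) (mul_mem (inv_mem (φ x).toMul.2) (φ x').toMul.2))))
  have hψ : Function.Bijective ψ := (Nat.bijective_iff_injective_and_card _).2 ⟨hψi, by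
    have := card_eq_card_quotient_mul_card_subgroup K
    rw [hcardG, hK60] at this
    simp only [Nat.card_fun, Nat.card_fin, Nat.card_zmod]
    omega⟩
  let E := Equiv.ofBijective ψ hψ
  let Φ : G →* Perm V4 :=
    { toFun := fun a => E.trans ((MulAction.toPermHom G (G ⧸ K) a).trans E.symm)
      map_one' := by ext x; simp
      map_mul' := fun a b => by ext x; simp [mul_smul] }
  have hΦ : ∀ a x z, a • ψ x = ψ z → Φ a x = z := fun a x z hz => by
    show E.symm (a • ψ x) = z
    rw [hz]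
    exact E.symm_apply_apply z
  have hKact : ∀ a ∈ K, ∀ x z, conjM a (φ x) = φ z → Φ a x = z := by
    intro a ha x z hz
    refine hΦ a x z ?_
    simp only [ψ, MulAction.Quotient.smul_coe, smul_eq_mul]
    refine QuotientGroup.eq.2 ?_
    rw [← hz, hconjM, show (a * ((φ x).toMul : G))⁻¹ * (a * ((φ x).toMul : G) * a⁻¹) = a⁻¹ by group]
    exact inv_mem ha
  have hΦy : Φ y = ⟨yMap, fun x => yMap (yMap (yMap (yMap x))), yMap_iter, yMap_iter⟩ :=
    Equiv.ext fun x => hKact y (subset_closure (by simp)) x _ (hφY x).symm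
  have hΦs : Φ s = ⟨sMap, sMap, sMap_iter, sMap_iter⟩ :=
    Equiv.ext fun x => hKact s (subset_closure (by simp)) x _ (hφS x).symm
  have hΦv : Φ v = Equiv.addRight ![1, 0, 0, 0] := by
    refine Equiv.ext fun x => hΦ v x (x + ![1, 0, 0, 0]) ?_
    simp only [ψ, map_add, hv0, MulAction.Quotient.smul_coe, smul_eq_mul]
    congr 1
    exact congrArg Subtype.val (mul_comm (⟨v, hv⟩ : N) (φ x).toMul)
  have hgen : closure ({v, y, s} : Set G) = ⊤ := by
    set C := closure ({v, y, s} : Set G)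
    have hyC : y ∈ C := subset_closure (by simp)
    have hKC : K ≤ C := (closure_le _).2 (by rintro a (rfl | rfl) <;> exact subset_closure (by simp))
    have hNC : ∀ x : V4, ((φ x).toMul : G) ∈ C := by
      intro x
      have hb : ∀ i, ((b i).toMul : G) ∈ C := by
        have h0 : ((vM).toMul : G) ∈ C := subset_closure (by simp [vM])
        have hstep : ∀ m : M, (m.toMul : G) ∈ C → ((Y m).toMul : G) ∈ C := fun m hm => by
          rw [hconjM]; exact mul_mem (mul_mem hyC hm) (inv_mem hyC)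
        intro i
        fin_cases i
        · exact h0
        · exact hstep _ h0
        · exact hstep _ (hstep _ h0)
        · exact hstep _ (hstep _ (hstep _ h0))
      exact Finset.sum_induction (fun i => (x i).val • b i) (fun m : M => (m.toMul : G) ∈ C)
        (fun m m' hm hm' => mul_mem hm hm') (one_mem C) fun i _ => pow_mem (hb i) _
    refine eq_top_iff.2 fun a _ => ?_
    obtain ⟨k, hk, hka⟩ := hKtop.ge (mem_top (π a))
    obtain ⟨x, hx⟩ := hsurj (Additive.ofMul ⟨a * k⁻¹, (hπN _).1 (by rw [map_mul, map_inv, hka, mul_inv_cancel])⟩)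
    rw [show a = (a * k⁻¹) * k by group]
    refine mul_mem ?_ (hKC hk)
    have := hNC x
    rw [hx] at this
    exact this
  have hinjΦ : Function.Injective Φ := by
    rw [← MonoidHom.ker_eq_bot_iff]
    have hker : Φ.ker ⊓ N = ⊥ := by
      rw [eq_bot_iff_forall]
      intro a ha
      obtain ⟨haK, haN⟩ := mem_inf.1 ha
      obtain ⟨x, hx⟩ := hsurj (Additive.ofMul ⟨a, haN⟩)
      have h0 := congrArg (fun f : Perm V4 => f 0) haK
      simp only [Perm.one_apply] at h0
      have h1 : Φ a 0 = x := hΦ a 0 x (by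
        simp only [ψ, map_zero, hx, MulAction.Quotient.smul_coe, smul_eq_mul]
        simp)
      rw [h1] at h0
      rw [h0, map_zero] at hx
      exact (congrArg (fun m : M => (m.toMul : G)) hx).symm
    have hc : Φ.ker ≤ centralizer ({v} : Set G) := fun a ha => by
      rw [mem_centralizer_singleton_iff]
      refine mul_inv_eq_iff_eq_mul.1 (mul_inv_eq_one.1 ?_)
      rw [← Subgroup.mem_bot, ← hker]
      refine mem_inf.2 ⟨?_, mul_mem ((inferInstance : N.Normal).conj_mem v hv a) (inv_mem hv)⟩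
      rw [show a * v * a⁻¹ * v⁻¹ = a * (v * a⁻¹ * v⁻¹) by group]
      exact mul_mem ha ((MonoidHom.normal_ker Φ).conj_mem _ (inv_mem ha) v)
    have hp2 : IsPGroup 2 Φ.ker :=
      (h.isPGroup_centralizer (orderOf_eq_prime (by rw [pow_two, hinvo v hv]) hv1)).to_le hc
    haveI : IsSimpleGroup (alternatingGroup (Fin 5)) := alternatingGroup.isSimpleGroup (by simp)
    rcases ((MonoidHom.normal_ker Φ).map π hπs).eq_bot_or_eq_top with hb | ht
    · rw [← hker, inf_eq_left.2]
      intro a ha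
      exact (hπN a).1 (mem_bot.1 (hb ▸ mem_map_of_mem π ha))
    · exfalso
      have h2' : IsPGroup 2 (alternatingGroup (Fin 5)) :=
        (hp2.map π).of_equiv ((MulEquiv.subgroupCongr ht).trans topEquiv)
      obtain ⟨k, hk⟩ := h2' (π y)
      have hd : orderOf (π y) ∣ 2 ^ k := orderOf_dvd_of_pow_eq_one hk
      rw [orderOf_eq_prime hy5 hy1] at hd
      have := Nat.prime_five.dvd_of_dvd_pow hd
      norm_num at this
  have hrangeΦ : Φ.range = model := by
    rw [MonoidHom.range_eq_map, ← hgen, MonoidHom.map_closure, Set.image_insert_eq,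
      Set.image_insert_eq, Set.image_singleton, hΦy, hΦs, hΦv]
    rfl
  exact ⟨(MonoidHom.ofInjective hinjΦ).trans (MulEquiv.subgroupCongr hrangeΦ)⟩

end CfsgLib.Recog.OrdersFive
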