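import Mathlib

/-!
# Finite groups whose elements have order at most five: the arithmetic of the counting equation
-/

set_option autoImplicit false

namespace CfsgLib.Recog.OrdersFive

variable {A B N k₃ k₅ : ℤ}

theorem no_count_sixtyFour (hA : A = 9 ∨ 27 ≤ A) (hB : B = 5 ∨ 25 ≤ B)
    (h3 : k₃ = 1 ∨ k₃ = 2 ∨ k₃ = 4 ∨ k₃ = 5 ∨ k₃ = 8)
    (h5 : k₅ = 1 ∨ k₅ = 2 ∨ k₅ = 3 ∨ k₅ = 4 ∨ k₅ = 8)
    (h : 51 * A * B * k₃ * k₅ = k₃ * k₅ + 64 * B * (A - 1) * k₅ + 64 * A * (B - 1) * k₃) :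
    False := by
  rcases hA with rfl | hA <;> rcases hB with rfl | hB <;>
    rcases h3 with rfl | rfl | rfl | rfl | rfl <;> rcases h5 with rfl | rfl | rfl | rfl | rfl <;>
    first
    | omega
    | nlinarith

theorem no_count_two_four (hA : A = 9 ∨ A = 27 ∨ 81 ≤ A) (hB : B = 5 ∨ B = 25 ∨ 125 ≤ B)
    (hN : N = 4 ∨ N = 16 ∨ 64 ≤ N)
    (h : N * (2 * A * B - 12 * B - 6 * A) = 8 * A * B - 24) : False := by
  rcases hA with rfl | rfl | hA <;> rcases hB with rfl | rfl | hB <;> rcases hN with rfl | rfl | hN <;>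
    first
    | omega
    | nlinarith
    | (have hAB : 0 ≤ (A - 81) * (B - 125) := mul_nonneg (by omega) (by omega)
       have hD : 0 ≤ 2 * A * B - 12 * B - 6 * A := by nlinarith
       nlinarith [mul_nonneg (sub_nonneg.2 hN) hD])

theorem no_count_four_two (hA : A = 9 ∨ A = 27 ∨ 81 ≤ A) (hB : B = 5 ∨ B = 25 ∨ 125 ≤ B)
    (hN : N = 4 ∨ N = 16 ∨ 64 ≤ N)
    (h : N * (2 * A * B - 6 * B - 12 * A) = 8 * A * B - 24) : False := by
  rcases hA with rfl | rfl | hA <;> rcases hB with rfl | rfl | hB <;> rcases hN with rfl | rfl | hN <;>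
    first
    | omega
    | nlinarith
    | (have hAB : 0 ≤ (A - 81) * (B - 125) := mul_nonneg (by omega) (by omega)
       have hD : 0 ≤ 2 * A * B - 6 * B - 12 * A := by nlinarith
       nlinarith [mul_nonneg (sub_nonneg.2 hN) hD])

theorem no_count_five_two (hA : 81 ≤ A) (hB : B = 5 ∨ B = 25 ∨ 125 ≤ B)
    (hN : N = 4 ∨ N = 16 ∨ 64 ≤ N)
    (h : N * (A * B - 6 * B - 15 * A) = 10 * A * B - 30) : False := by
  rcases hB with rfl | rfl | hB <;> rcases hN with rfl | rfl | hN <;>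
    first
    | omega
    | nlinarith
    | (have hAB : 0 ≤ (A - 81) * (B - 125) := mul_nonneg (by omega) (by omega)
       have hD : 0 ≤ A * B - 6 * B - 15 * A := by nlinarith
       nlinarith [mul_nonneg (sub_nonneg.2 hN) hD])

theorem no_count_ti (hA : A = 9 ∨ A = 27 ∨ 81 ≤ A) (hB : B = 5 ∨ B = 25 ∨ 125 ≤ B)
    (hN : N = 4 ∨ N = 16 ∨ 64 ≤ N)
    (h3 : k₃ = 1 ∨ k₃ = 2 ∨ k₃ = 4 ∨ k₃ = 5 ∨ k₃ = 8)
    (h5 : k₅ = 1 ∨ k₅ = 2 ∨ k₅ = 3 ∨ k₅ = 4 ∨ k₅ = 8) (hk3 : k₃ = 5 → 81 ≤ A)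
    (hk5 : k₅ = 3 → 25 ≤ B)
    (h : N * (3 * B * (A - 1) * k₅ + 3 * A * (B - 1) * k₃ - 2 * A * B * (k₃ * k₅)) =
      k₃ * k₅ * (A * B - 3)) :
    False := by
  have hA9 : 9 ≤ A := by omega
  have hB5 : 5 ≤ B := by omega
  have hN4 : 4 ≤ N := by omega
  have hAB : 45 ≤ A * B := by nlinarith
  rcases h3 with rfl | rfl | rfl | rfl | rfl <;> rcases h5 with rfl | rfl | rfl | rfl | rfl <;>
    first
    | exact no_count_two_four hA hB hN (by linear_combination h)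
    | exact no_count_four_two hA hB hN (by linear_combination h)
    | exact no_count_five_two (hk3 rfl) hB hN (by linear_combination h)
    | nlinarith [mul_nonneg (sub_nonneg.2 hA9) (sub_nonneg.2 hB5)]
    | (have := hk5 rfl; nlinarith [mul_nonneg (sub_nonneg.2 hA9) (sub_nonneg.2 this)])

end CfsgLib.Recog.OrdersFive
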