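import Cfsg.Agent.S3331
import Cfsg.Agent.S1475
import Cfsg.Agent.Lib.Base.FPF
import Cfsg.Agent.Lib.FgsB.FourOrbits
import Mathlib

/-!
# Finite groups whose elements have order at most five: basic facts
-/

set_option autoImplicit false
set_option linter.unusedSectionVars false
set_option linter.style.haveILetI false

namespace CfsgLib.Recog.OrdersFive

open Subgroup CfsgLib.Base

/-- Every element has order at most five. -/
def LeFive (G : Type*) [Group G] : Prop := ∀ g : G, orderOf g ≤ 5

variable {G : Type*} [Group G] [Finite G]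

theorem LeFive.subgroup (h : LeFive G) (K : Subgroup G) : LeFive K := fun g => by
  rw [← Subgroup.orderOf_coe]; exact h _

theorem LeFive.quotient (h : LeFive G) (N : Subgroup G) [N.Normal] : LeFive (G ⧸ N) := fun g => by
  obtain ⟨x, rfl⟩ := QuotientGroup.mk_surjective g
  exact (Nat.le_of_dvd (orderOf_pos x) (orderOf_map_dvd (QuotientGroup.mk' N) x)).trans (h x)

theorem LeFive.order_cases (h : LeFive G) (g : G) :
    orderOf g = 1 ∨ orderOf g = 2 ∨ orderOf g = 3 ∨ orderOf g = 4 ∨ orderOf g = 5 := by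
  have := orderOf_pos g
  have := h g
  omega

theorem LeFive.isPrimePow (h : LeFive G) (g : G) (hg : g ≠ 1) : IsPrimePow (orderOf g) := by
  rcases h.order_cases g with e | e | e | e | e
  · exact absurd (orderOf_eq_one_iff.1 e) hg
  all_goals rw [e]
  · exact Nat.prime_two.isPrimePow
  · exact Nat.prime_three.isPrimePow
  · exact (isPrimePow_nat_iff _).2 ⟨2, 2, Nat.prime_two, by norm_num, by norm_num⟩
  · exact (by norm_num : Nat.Prime 5).isPrimePow

theorem LeFive.orderOf_eq_prime (h : LeFive G) {p : ℕ} [hp : Fact p.Prime] (hp2 : p ≠ 2) {g : G}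
    (hg : g ≠ 1) {k : ℕ} (hk : g ^ p ^ k = 1) : orderOf g = p := by
  obtain ⟨j, -, hj⟩ := (Nat.dvd_prime_pow hp.out).1 (orderOf_dvd_of_pow_eq_one hk)
  have h3 : 3 ≤ p := by have := hp.out.two_le; omega
  match j with
  | 0 => exact absurd (orderOf_eq_one_iff.1 (by simpa using hj)) hg
  | 1 => simpa using hj
  | j + 2 =>
    have := h g
    have : p ^ 2 ≤ p ^ (j + 2) := Nat.pow_le_pow_right (by omega) (by omega)
    nlinarith

theorem LeFive.pow_prime (h : LeFive G) {p : ℕ} [hp : Fact p.Prime] (hp2 : p ≠ 2) {H : Subgroup G}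
    (hH : IsPGroup p H) {g : G} (hg : g ∈ H) : g ^ p = 1 := by
  rcases eq_or_ne g 1 with rfl | hg1
  · exact one_pow p
  obtain ⟨k, hk⟩ := hH ⟨g, hg⟩
  rw [← h.orderOf_eq_prime hp2 hg1 (k := k) (by simpa using congrArg Subtype.val hk)]
  exact pow_orderOf_eq_one g

theorem LeFive.pow_four (h : LeFive G) {H : Subgroup G} (hH : IsPGroup 2 H) {g : G} (hg : g ∈ H) :
    g ^ 4 = 1 := by
  obtain ⟨k, hk⟩ := hH ⟨g, hg⟩
  have hd : orderOf g ∣ 2 ^ k := orderOf_dvd_of_pow_eq_one (by simpa using congrArg Subtype.val hk)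
  refine orderOf_dvd_iff_pow_eq_one.1 ?_
  obtain ⟨j, -, hj⟩ := (Nat.dvd_prime_pow Nat.prime_two).1 hd
  have := h g
  rw [hj] at this ⊢
  match j with
  | 0 => norm_num
  | 1 => norm_num
  | 2 => norm_num
  | j + 3 =>
    have : 2 ^ 3 ≤ 2 ^ (j + 3) := Nat.pow_le_pow_right (by norm_num) (by omega)
    omega

/-- Commuting elements of coprime orders: one of them is trivial. -/
theorem LeFive.coprime_commute (h : LeFive G) {a b : G} (hab : Commute a b)
    (hc : (orderOf a).Coprime (orderOf b)) : a = 1 ∨ b = 1 := by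
  by_contra hne
  push Not at hne
  have ha : 2 ≤ orderOf a := by
    have := orderOf_pos a
    have : orderOf a ≠ 1 := fun e => hne.1 (orderOf_eq_one_iff.1 e)
    omega
  have hb : 2 ≤ orderOf b := by
    have := orderOf_pos b
    have : orderOf b ≠ 1 := fun e => hne.2 (orderOf_eq_one_iff.1 e)
    omega
  have h6 := h (a * b)
  rw [hab.orderOf_mul_eq_mul_orderOf_of_coprime hc] at h6
  have hne2 : orderOf a ≠ orderOf b := fun e => by
    rw [e, Nat.coprime_self] at hc; omega
  rcases Nat.lt_or_ge (orderOf a) 3 with h' | h'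
  · have : 3 ≤ orderOf b := by omega
    nlinarith
  · nlinarith

/-- The centraliser of an element of prime order is a group of that prime. -/
theorem LeFive.isPGroup_centralizer (h : LeFive G) {p : ℕ} [hp : Fact p.Prime] {x : G}
    (hx : orderOf x = p) : IsPGroup p (centralizer ({x} : Set G)) := by
  intro ⟨g, hg⟩
  rcases eq_or_ne g 1 with rfl | hg1
  · exact ⟨0, Subtype.ext (by simp)⟩
  obtain ⟨q, k, hq, hk0, hk⟩ := (isPrimePow_nat_iff _).1 (h.isPrimePow g hg1)
  rcases eq_or_ne q p with rfl | hne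
  · exact ⟨k, Subtype.ext (by simp [hk, pow_orderOf_eq_one])⟩
  · exfalso
    have hc : Commute g x := (mem_centralizer_singleton_iff.1 hg)
    rcases h.coprime_commute hc (by
      rw [hx, ← hk]; exact ((Nat.coprime_primes hq hp.out).2 hne).pow_left k) with e | e
    · exact hg1 e
    · rw [e, orderOf_one] at hx; exact hp.out.ne_one hx.symm

/-- Coprime action is fixed point free. -/
theorem LeFive.isFPF (h : LeFive G) {A V : Subgroup G} (hA : A ≤ normalizer (V : Set G))
    (hc : (Nat.card A).Coprime (Nat.card V)) : IsFPF A V := by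
  refine ⟨hA, fun a ha ha1 => (eq_bot_iff_forall _).2 fun v hv => ?_⟩
  obtain ⟨hv, hv'⟩ := Subgroup.mem_inf.1 hv
  refine (h.coprime_commute (mem_centralizer_singleton_iff.1 hv') ?_).resolve_right ha1
  exact (Nat.Coprime.coprime_dvd_left (V.orderOf_dvd_natCard hv)
    (Nat.Coprime.coprime_dvd_right (A.orderOf_dvd_natCard ha) hc.symm))

theorem coprime_of_isPGroup {p q : ℕ} [hp : Fact p.Prime] [hq : Fact q.Prime] (hpq : p ≠ q)
    {A V : Subgroup G} (hA : IsPGroup p A) (hV : IsPGroup q V) :
    (Nat.card A).Coprime (Nat.card V) := by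
  obtain ⟨a, ha⟩ := IsPGroup.iff_card.1 hA
  obtain ⟨b, hb⟩ := IsPGroup.iff_card.1 hV
  rw [ha, hb]
  exact Nat.Coprime.pow _ _ ((Nat.coprime_primes hp.out hq.out).2 hpq)

theorem LeFive.isFPF_pGroup (h : LeFive G) {p q : ℕ} [Fact p.Prime] [Fact q.Prime] (hpq : p ≠ q)
    {A V : Subgroup G} (hA : IsPGroup p A) (hV : IsPGroup q V)
    (hn : A ≤ normalizer (V : Set G)) : IsFPF A V :=
  h.isFPF hn (coprime_of_isPGroup hpq hA hV)

/-- An odd Sylow subgroup acting without fixed points has prime order. -/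
theorem LeFive.card_dvd_of_fpf (h : LeFive G) {p : ℕ} [hp : Fact p.Prime] (hp2 : p ≠ 2)
    {A V : Subgroup G} (hA : IsPGroup p A) (hf : IsFPF A V) (hV : V ≠ ⊥) : Nat.card A ∣ p := by
  rcases eq_or_ne A ⊥ with rfl | hne
  · simp
  obtain ⟨z, hz, hz1⟩ := (bot_or_exists_ne_one (center A)).resolve_left (hf.center_ne_bot hV hne)
  have hzp : (z : G) ^ p = 1 := h.pow_prime hp2 hA z.2
  have hzo : orderOf (z : G) = p :=
    _root_.orderOf_eq_prime hzp fun e => hz1 (Subtype.ext e)
  have hle : A ≤ zpowers (z : G) := fun y hy => by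
    refine IsFPF.mem_zpowers_of_commute hf hV hp.out z.2 hy hzo (h.pow_prime hp2 hA hy) ?_
    exact (congrArg Subtype.val (mem_center_iff.1 hz ⟨y, hy⟩)).symm
  have := card_dvd_of_le hle
  rwa [Nat.card_zpowers, hzo] at this

theorem LeFive.prime_le (h : LeFive G) {p : ℕ} [hp : Fact p.Prime] (hpd : p ∣ Nat.card G) :
    p = 2 ∨ p = 3 ∨ p = 5 := by
  obtain ⟨g, hg⟩ := exists_prime_orderOf_dvd_card' p hpd
  have := h g
  have h4 : p ≠ 4 := fun e => absurd (e ▸ hp.out) (by norm_num)
  have := hp.out.two_le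
  omega

theorem LeFive.card_primeFactors_solvable (h : LeFive G) [Group.IsSolvable G] :
    (Nat.card G).primeFactors.card ≤ 2 :=
  Cfsg.Agent.S1475.result fun g => by
    rcases eq_or_ne g 1 with e | e
    · exact Or.inr e
    · exact Or.inl (h.isPrimePow g e)

theorem LeFive.dvd_of_not_solvable (h : LeFive G) (hns : ¬ Group.IsSolvable G) :
    2 ∣ Nat.card G ∧ 3 ∣ Nat.card G ∧ 5 ∣ Nat.card G := by
  have hsub : (Nat.card G).primeFactors ⊆ {2, 3, 5} := fun p hp => by
    obtain ⟨hp1, hp2, -⟩ := Nat.mem_primeFactors.1 hp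
    haveI := Fact.mk hp1
    rcases h.prime_le hp2 with e | e | e <;> simp [e]
  have h3 : 3 ≤ (Nat.card G).primeFactors.card := by
    by_contra hlt
    exact hns (CfsgLib.FgsB.FourOrbits.isSolvable_of_card_primeFactors_le_two (by omega))
  have he : (Nat.card G).primeFactors = {2, 3, 5} :=
    Finset.eq_of_subset_of_card_le hsub (by simpa using h3)
  refine ⟨?_, ?_, ?_⟩ <;> refine Nat.dvd_of_mem_primeFactors ?_ <;> rw [he] <;> simp

omit [Finite G] in
theorem not_leFive_psl_two_seven :
    ¬ LeFive (Matrix.ProjectiveSpecialLinearGroup (Fin 2) (ZMod 7)) := by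
  intro h
  let u : Matrix.SpecialLinearGroup (Fin 2) (ZMod 7) := ⟨!![1, 1; 0, 1], by simp [Matrix.det_fin_two]⟩
  let w : Matrix.SpecialLinearGroup (Fin 2) (ZMod 7) := ⟨!![1, 0; 1, 1], by simp [Matrix.det_fin_two]⟩
  have h7 : u ^ 7 = 1 := by decide +kernel
  have hnc : u ∉ center _ := fun hc => by
    have := mem_center_iff.1 hc w
    revert this
    decide +kernel
  haveI := Fact.mk (show Nat.Prime 7 by norm_num)
  have ho : orderOf (QuotientGroup.mk' (center _) u) = 7 :=
    orderOf_eq_prime (by rw [← map_pow, h7, map_one]) fun e =>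
      hnc ((QuotientGroup.eq_one_iff u).1 e)
  have := h (QuotientGroup.mk' (center _) u)
  rw [ho] at this
  omega

/-- **Feit–Thompson**: a nonsolvable such group of order prime to nine is an extension of an
elementary abelian `2`-group by the alternating group of degree five. -/
theorem LeFive.small (h : LeFive G) (hns : ¬ Group.IsSolvable G) (h9 : ¬ 9 ∣ Nat.card G) :
    ∃ (N : Subgroup G) (_ : N.Normal), Cfsg.IsElementaryAbelian 2 N ∧
      Nonempty (G ⧸ N ≃* alternatingGroup (Fin 5)) := by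
  haveI : Fact (Nat.Prime 3) := ⟨Nat.prime_three⟩
  obtain ⟨x, hx⟩ := exists_prime_orderOf_dvd_card' 3 (h.dvd_of_not_solvable hns).2.1
  have hX : Nat.card (zpowers x) = 3 := by rw [Nat.card_zpowers, hx]
  have hC : centralizer (zpowers x : Set G) = zpowers x := by
    have hle : zpowers x ≤ centralizer (zpowers x : Set G) := fun a ha => by
      rw [mem_centralizer_iff]
      intro b hb
      obtain ⟨i, rfl⟩ := mem_zpowers_iff.1 ha
      obtain ⟨j, rfl⟩ := mem_zpowers_iff.1 hb
      rw [← zpow_add, ← zpow_add, add_comm]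
    have hp : IsPGroup 3 (centralizer (zpowers x : Set G)) :=
      (h.isPGroup_centralizer hx).to_le
        (centralizer_le (Set.singleton_subset_iff.2 (mem_zpowers x)))
    refine (eq_of_le_of_card_ge hle ?_).symm
    obtain ⟨n, hn⟩ := IsPGroup.iff_card.1 hp
    have hd := card_subgroup_dvd_card (centralizer (zpowers x : Set G))
    rw [hn] at hd ⊢
    rw [hX]
    match n with
    | 0 => norm_num
    | 1 => norm_num
    | n + 2 => exact absurd ((pow_dvd_pow 3 (by omega : 2 ≤ n + 2)).trans hd) h9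
  rcases Cfsg.Agent.S3331.result (zpowers x) hX hC with ⟨N, hN, hnil, -, hQ⟩ | ⟨N, hN, h1, h2, hQ⟩ | ⟨⟨e⟩⟩
  · exfalso
    haveI := hN
    haveI := hnil
    haveI : Group.IsSolvable (G ⧸ N) := by
      rcases hQ with h3 | ⟨⟨e⟩⟩
      · haveI : IsCyclic (G ⧸ N) := isCyclic_of_prime_card h3
        letI : CommGroup (G ⧸ N) := IsCyclic.commGroup
        infer_instance
      · exact CfsgLib.FgsB.FourOrbits.isSolvable_of_card_primeFactors_le_two (by
          rw [Nat.card_congr e.toEquiv, Nat.card_perm, Nat.card_fin]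
          decide +kernel)
    haveI : Group.IsSolvable N := inferInstance
    exact hns (Group.isSolvable_of_ker_le_range N.subtype (QuotientGroup.mk' N)
      (by rw [QuotientGroup.ker_mk', Subgroup.range_subtype]))
  · exact ⟨N, hN, ⟨h1, h2⟩, hQ⟩
  · exact absurd (fun g => (e.symm.orderOf_eq g) ▸ h _) not_leFive_psl_two_seven

end CfsgLib.Recog.OrdersFive
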