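import Cfsg.Agent.Lib.Recog.OrdersFive.Loc
import Cfsg.Agent.Lib.PGroups.Basic

/-!
# Two two-local subgroups with a common Sylow subgroup: the commuting case is impossible
-/

set_option autoImplicit false
set_option linter.unusedSectionVars false
set_option linter.style.haveILetI false

namespace CfsgLib.Recog.OrdersFive

open Subgroup Cfsg

theorem vec_three : ∀ ε : Fin 3 → ZMod 2, (∀ i j, ε i = ε j) ∨
    (∃ i, ε = Pi.single i 1 ∨ ε + 1 = Pi.single i 1) ∨
    ∃ i j, i ≠ j ∧ (ε = Pi.single i 1 + Pi.single j 1 ∨ ε + 1 = Pi.single i 1 + Pi.single j 1) := by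
  decide

theorem vec_five : ∀ ε : Fin 5 → ZMod 2, (∀ i j, ε i = ε j) ∨
    (∃ i, ε = Pi.single i 1 ∨ ε + 1 = Pi.single i 1) ∨
    ∃ i j, i ≠ j ∧ (ε = Pi.single i 1 + Pi.single j 1 ∨ ε + 1 = Pi.single i 1 + Pi.single j 1) := by
  decide +kernel

/-- A relation among an orbit of involutions has constant coefficients. -/
theorem shift_const {A : Type*} [CommGroup A] {p : ℕ} (hp : p = 3 ∨ p = 5) (c : Fin p → A)
    (hsq : ∀ j, c j * c j = 1) (hne : ∀ j, c j ≠ 1) (hinj : Function.Injective c)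
    (htot : ∏ j, c j = 1) (ε : Fin p → ZMod 2) (h : ∏ j, c j ^ (ε j).val = 1) :
    ∀ i j, ε i = ε j := by
  classical
  let ψ : (Fin p → ZMod 2) → A := fun e => ∏ j, c j ^ (e j).val
  have hadd : ∀ a b, ψ (a + b) = ψ a * ψ b := fun a b => by
    show ∏ j, _ = _
    rw [← Finset.prod_mul_distrib]
    refine Finset.prod_congr rfl fun j _ => ?_
    rw [← pow_add, Pi.add_apply, ZMod.val_add,
      ← pow_eq_pow_mod _ (show c j ^ 2 = 1 by rw [pow_two, hsq])]
  have hone : ψ 1 = 1 := by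
    show ∏ j, _ = _
    simp only [Pi.one_apply, ZMod.val_one, pow_one]
    exact htot
  have hsingle : ∀ i, ψ (Pi.single i 1) = c i := fun i => by
    show ∏ j, _ = _
    rw [Finset.prod_eq_single i]
    · simp [ZMod.val_one]
    · intro j _ hj
      simp [hj]
    · intro hi
      exact absurd (Finset.mem_univ i) hi
  have hψ : ψ ε = 1 := h
  have h1 : ∀ e, (e = ε ∨ e = ε + 1) → ψ e = 1 := by
    rintro e (rfl | rfl)
    · exact hψ
    · rw [hadd, hψ, hone, one_mul]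
  have hfin : (∀ i j, ε i = ε j) ∨
    (∃ i, ε = Pi.single i 1 ∨ ε + 1 = Pi.single i 1) ∨
    ∃ i j, i ≠ j ∧
      (ε = Pi.single i 1 + Pi.single j 1 ∨ ε + 1 = Pi.single i 1 + Pi.single j 1) := by
    rcases hp with rfl | rfl
    · exact vec_three ε
    · exact vec_five ε
  rcases hfin with hc | ⟨i, hi⟩ | ⟨i, j, hij, hi⟩
  · exact hc
  · refine absurd ?_ (hne i)
    rw [← hsingle i]
    exact h1 _ (hi.imp Eq.symm Eq.symm)
  · refine absurd (hinj ?_) hij
    have := h1 _ (hi.imp Eq.symm Eq.symm)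
    rw [hadd, hsingle, hsingle] at this
    rw [mul_eq_one_iff_eq_inv.1 this]
    exact inv_eq_of_mul_eq_one_left (hsq j)

variable {G : Type*} [Group G] [Finite G]

/-- The quotient of `A P / P` is cyclic. -/
def Cyc (A P : Subgroup G) : Prop := ∃ g ∈ A, ∀ x ∈ A, ∃ n : ℤ, g ^ n * x ∈ P

theorem D_mul_left {P : Subgroup G} {a b d : G} (ha : a ∈ P) (hb : D b d ∈ cenInv P) :
    D (a * b) d = D a d * D b d := by
  have hc : a * D b d = D b d * a := hb.2.2 a ha
  calc D (a * b) d = D a d * (a * D b d) * a⁻¹ := by unfold D; group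
    _ = D a d * D b d := by rw [hc]; group

theorem D_mul_right {P : Subgroup G} {t d e : G} (hd : d ∈ P) (he : D t e ∈ cenInv P) :
    D t (d * e) = D t e * D t d := by
  have hc : d * D t e = D t e * d := he.2.2 d hd
  calc D t (d * e) = d * D t e * (t * d⁻¹ * t⁻¹) := by unfold D; group
    _ = D t e * D t d := by rw [hc]; unfold D; group

theorem cenInv_comm (P : Subgroup G) (a b : cenInv P) : a * b = b * a :=
  Subtype.ext (b.2.2.2 a a.2.1)

instance cenInvCommGroup (P : Subgroup G) : CommGroup (cenInv P) :=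
  { (inferInstance : Group (cenInv P)) with mul_comm := cenInv_comm P }

variable {P T : Subgroup G}

theorem Loc.centralizer_cenInv (hl : Loc P T) (hc : Ctx G) :
    ∀ g ∈ normalizer (P : Set G), (∀ v ∈ cenInv P, g * v = v * g) → g ∈ P := by
  set U := normalizer (P : Set G) ⊓ centralizer (cenInv P : Set G) with hU
  have hle : U ≤ P := by
    obtain ⟨v, hv, hv1⟩ := (bot_or_exists_ne_one _).resolve_left (cenInv_ne_bot hl.twoP hl.ne)
    refine hl.core U ?_ inf_le_left ?_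
    · refine (hc.five.isPGroup_centralizer_two hv1 ?_).to_le
        (inf_le_right.trans (centralizer_le (Set.singleton_subset_iff.2 hv)))
      rw [show (4 : ℕ) = 2 * 2 from rfl, pow_mul, pow_two v, hv.2.1, one_pow]
    · intro g hg u hu
      refine mem_inf.2 ⟨mul_mem (mul_mem hg hu.1) (inv_mem hg), mem_centralizer_iff.2 fun w hw => ?_⟩
      have hw' := cenInv_conj (inv_mem hg) hw
      rw [inv_inv] at hw'
      have := mem_centralizer_iff.1 hu.2 _ hw'
      calc w * (g * u * g⁻¹) = g * ((g⁻¹ * w * g) * u) * g⁻¹ := by group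
        _ = g * (u * (g⁻¹ * w * g)) * g⁻¹ := by rw [this]
        _ = g * u * g⁻¹ * w := by group
  exact fun g hg h => hle (mem_inf.2 ⟨hg, mem_centralizer_iff.2 fun v hv => (h v hv).symm⟩)

/-- Conjugates of one commutation map multiply to the trivial map. -/
theorem Loc.telescope (hl : Loc P T) (hc : Ctx G) {p : ℕ} [hp : Fact p.Prime]
    (hp35 : p = 3 ∨ p = 5) {y : G} (hy : orderOf y = p) (hyN : y ∈ normalizer (P : Set G))
    {t : G} (ht : t ∈ P) (hval : ∀ d ∈ P, D t d ∈ cenInv P) {d : G} (hd : d ∈ P)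
    (f : Fin p → cenInv P)
    (hf : ∀ j : Fin p, (f j : G) = y ^ (j : ℕ) * D t ((y ^ (j : ℕ))⁻¹ * d * y ^ (j : ℕ)) * (y ^ (j : ℕ))⁻¹) :
    ∏ j, f j = 1 := by
  classical
  have hyj : ∀ j : ℕ, y ^ j ∈ normalizer (P : Set G) := fun j => pow_mem hyN j
  have hDj : ∀ (j : ℕ), y ^ j * D t ((y ^ j)⁻¹ * d * y ^ j) * (y ^ j)⁻¹ =
      D (y ^ j * t * (y ^ j)⁻¹) d := fun j => by
    rw [D_conj]
    congr 1
    group
  have hDmem : ∀ j : ℕ, D (y ^ j * t * (y ^ j)⁻¹) d ∈ cenInv P := fun j => by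
    rw [← hDj]
    refine cenInv_conj (hyj j) (hval _ ?_)
    simpa using (mem_normalizer_iff.1 (inv_mem (hyj j)) d).1 hd
  let F : ℕ → cenInv P := fun j => ⟨_, hDmem j⟩
  have key : ∀ n, (t * y) ^ n * (y ^ n)⁻¹ ∈ P ∧
      D ((t * y) ^ n * (y ^ n)⁻¹) d = ((∏ j ∈ Finset.range n, F j : cenInv P) : G) := by
    intro n
    induction n with
    | zero => simp [D]
    | succ n ih =>
      have e : (t * y) ^ (n + 1) * (y ^ (n + 1))⁻¹ =
          ((t * y) ^ n * (y ^ n)⁻¹) * (y ^ n * t * (y ^ n)⁻¹) := by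
        rw [pow_succ, pow_succ]; group
      rw [e, Finset.prod_range_succ, Subgroup.coe_mul]
      refine ⟨mul_mem ih.1 ((mem_normalizer_iff.1 (hyj n) t).1 ht), ?_⟩
      rw [D_mul_left ih.1 (hDmem n), ih.2]
  have h0 := (key p).2
  rw [hl.mul_pow_eq_one hc hp35 hy hyN ht, ← hy, pow_orderOf_eq_one, inv_one, mul_one, hy] at h0
  have h1 : ((∏ j, f j : cenInv P) : G) = 1 := by
    rw [show ∏ j, f j = ∏ j ∈ Finset.range p, F j by
      rw [← Fin.prod_univ_eq_prod_range]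
      exact Finset.prod_congr rfl fun j _ => Subtype.ext (by rw [hf, hDj])]
    rw [← h0]
    simp [D]
  exact Subtype.ext h1

theorem Loc.comm_trivial (hl : Loc P T) (hc : Ctx G) {p : ℕ} [hp : Fact p.Prime] (hp2 : p ≠ 2)
    {y : G} (hy : orderOf y = p) (hyN : y ∈ normalizer (P : Set G)) {t : G}
    (hval : ∀ d ∈ P, D t d ∈ cenInv P) (hfix : ∀ d ∈ P, D t (y⁻¹ * d * y) = D t d) :
    ∀ d ∈ P, D t d = 1 := by
  intro w hw
  obtain ⟨d, hd, rfl⟩ := hl.exists_diff hc hp2 hy hyN hw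
  have hd' : y⁻¹ * d * y ∈ P := by simpa using (mem_normalizer_iff.1 (inv_mem hyN) d).1 hd
  rw [D_mul_right (inv_mem hd) (hval _ hd'), hfix d hd, ← D_mul_right (inv_mem hd) (hval _ hd),
    inv_mul_cancel]
  simp [D]

/-- The case of two values. -/
theorem Loc.two_values (hl : Loc P T) (hc : Ctx G) {t c : G} (ht : t ∈ P) (hcV : c ∈ cenInv P)
    (hc1 : c ≠ 1) (hv : ∀ d ∈ P, D t d = 1 ∨ D t d = c) : ∀ d ∈ P, D t d = 1 := by
  classical
  have hval : ∀ d ∈ P, D t d ∈ cenInv P := fun d hd => by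
    rcases hv d hd with e | e <;> rw [e]
    · exact one_mem _
    · exact hcV
  obtain ⟨-, ⟨p, hp35, y, hyN, hy⟩, -⟩ := hl.facts hc
  haveI hp : Fact p.Prime := ⟨by rcases hp35 with rfl | rfl <;> norm_num⟩
  have hp2 : p ≠ 2 := by omega
  refine hl.comm_trivial hc hp2 hy hyN hval fun d hd => ?_
  let cj : Fin p → cenInv P := fun j => ⟨y ^ (j : ℕ) * c * (y ^ (j : ℕ))⁻¹,
    cenInv_conj (pow_mem hyN _) hcV⟩
  have hconj : ∀ j : ℕ, (y ^ j)⁻¹ * d * y ^ j ∈ P := fun j => by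
    simpa using (mem_normalizer_iff.1 (inv_mem (pow_mem hyN j)) d).1 hd
  let ε : Fin p → ZMod 2 := fun j => if D t ((y ^ (j : ℕ))⁻¹ * d * y ^ (j : ℕ)) = 1 then 0 else 1
  have htot : ∏ j, cj j = 1 := by
    let F : ℕ → cenInv P := fun j => ⟨y ^ j * c * (y ^ j)⁻¹, cenInv_conj (pow_mem hyN _) hcV⟩
    have key : ∀ n, (c * y) ^ n * (y ^ n)⁻¹ = ((∏ j ∈ Finset.range n, F j : cenInv P) : G) := by
      intro n
      induction n with
      | zero => simp
      | succ n ih =>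
        rw [Finset.prod_range_succ]
        show _ = ((∏ j ∈ Finset.range n, F j : cenInv P) : G) * (y ^ n * c * (y ^ n)⁻¹)
        rw [← ih, pow_succ, pow_succ]
        group
    have h0 := key p
    rw [hl.mul_pow_eq_one hc hp35 hy hyN hcV.1, ← hy, pow_orderOf_eq_one, inv_one, mul_one, hy,
      ← Fin.prod_univ_eq_prod_range] at h0
    exact Subtype.ext h0.symm
  have hinj : Function.Injective cj := by
    have main : ∀ i j : Fin p, (i : ℕ) < j → cj i ≠ cj j := fun i j hij e => by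
      have e' : y ^ (i : ℕ) * c * (y ^ (i : ℕ))⁻¹ = y ^ (j : ℕ) * c * (y ^ (j : ℕ))⁻¹ :=
        congrArg Subtype.val e
      obtain ⟨k, hk⟩ := Nat.exists_eq_add_of_lt hij
      rw [show (j : ℕ) = (i : ℕ) + (k + 1) by omega, pow_add] at e'
      have e'' : c = y ^ (k + 1) * c * (y ^ (k + 1))⁻¹ := by
        refine mul_left_cancel (a := y ^ (i : ℕ)) (mul_right_cancel (b := (y ^ (i : ℕ))⁻¹) ?_)
        rw [e']; group
      refine hc1 (hl.not_commute hc hp2 (y := y ^ (k + 1)) ?_ (hl.lt.le hcV.1) ?_)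
      · rw [Nat.Coprime.orderOf_pow, hy]
        rw [hy]
        exact (hp.out.coprime_iff_not_dvd).2 fun hd' =>
          absurd (Nat.le_of_dvd (by omega) hd') (by omega)
      · exact (eq_mul_inv_iff_mul_eq.1 e'').symm
    intro i j e
    rcases lt_trichotomy (i : ℕ) j with h | h | h
    · exact absurd e (main i j h)
    · exact Fin.ext h
    · exact absurd e.symm (main j i h)
  have hh := shift_const hp35 cj (fun j => Subtype.ext (by
      exact (cenInv_conj (pow_mem hyN (j : ℕ)) hcV).2.1))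
    (fun j e => hc1 (by
      have e' : y ^ (j : ℕ) * c * (y ^ (j : ℕ))⁻¹ = 1 := congrArg Subtype.val e
      simpa using e')) hinj htot ε (by
      refine hl.telescope hc hp35 hy hyN ht hval hd
        (fun j => cj j ^ (ε j).val) fun j => ?_
      rcases hv _ (hconj j) with e | e
      · simp [ε, e]
      · simp [ε, cj, e, hc1, ZMod.val_one])
  have h01 := hh ⟨0, by omega⟩ ⟨1, by omega⟩
  have hd1 := hconj 1
  simp only [ε, pow_zero, inv_one, one_mul, mul_one, pow_one] at h01 hd1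
  rcases hv d hd with e | e <;> rcases hv _ hd1 with e' | e' <;> rw [e, e'] at h01 ⊢ <;>
    simp [hc1] at h01

/-- The case of values centralised by a Sylow subgroup. -/
theorem Loc.central_values (hl : Loc P T) (hc : Ctx G) {y : G} (hy : orderOf y = 3)
    (hyN : y ∈ normalizer (P : Set G)) (hyT : ∃ a ∈ T, y * a * y⁻¹ ∉ T) {t : G} (ht : t ∈ P)
    (hval : ∀ d ∈ P, D t d ∈ cenInv P) (hcen : ∀ d ∈ P, ∀ a ∈ T, a * D t d = D t d * a) :
    ∀ d ∈ P, D t d = 1 := by
  haveI : Fact (Nat.Prime 3) := ⟨Nat.prime_three⟩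
  refine hl.comm_trivial hc (by norm_num) hy hyN hval fun d hd => ?_
  set x : ℕ → G := fun j => D t ((y ^ j)⁻¹ * d * y ^ j) with hx
  have hconj : ∀ j : ℕ, (y ^ j)⁻¹ * d * y ^ j ∈ P := fun j => by
    simpa using (mem_normalizer_iff.1 (inv_mem (pow_mem hyN j)) d).1 hd
  have hrel : x 0 * (y * x 1 * y⁻¹) * (y ^ 2 * x 2 * (y ^ 2)⁻¹) = 1 := by
    have := hl.telescope hc (Or.inl rfl) hy hyN ht hval hd 
      (fun j => ⟨y ^ (j : ℕ) * x j * (y ^ (j : ℕ))⁻¹,
        cenInv_conj (pow_mem hyN _) (hval _ (hconj j))⟩) (fun j => rfl)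
    rw [Fin.prod_univ_three] at this
    simpa using congrArg Subtype.val this
  have hrel2 : x 2 * (y * x 2 * y⁻¹) * (y ^ 2 * x 2 * (y ^ 2)⁻¹) = 1 := by
    have h3 := hl.mul_pow_eq_one hc (Or.inl rfl) hy hyN (hval _ (hconj 2)).1
    calc x 2 * (y * x 2 * y⁻¹) * (y ^ 2 * x 2 * (y ^ 2)⁻¹)
        = (x 2 * y) ^ 3 * (y ^ 3)⁻¹ := by simp only [pow_succ, pow_zero, one_mul]; group
      _ = 1 := by rw [h3, ← hy, pow_orderOf_eq_one, inv_one, mul_one]
  have heq := mul_right_cancel (hrel.trans hrel2.symm)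
  have hz : x 2 * (x 1)⁻¹ = 1 := by
    by_contra hne
    set z' := y * (x 2 * (x 1)⁻¹) * y⁻¹ with hz'
    have hz'e : z' = (x 2)⁻¹ * x 0 := by
      rw [hz']
      calc y * (x 2 * (x 1)⁻¹) * y⁻¹ = (y * x 2 * y⁻¹) * (y * x 1 * y⁻¹)⁻¹ := by group
        _ = ((x 2)⁻¹ * (x 0 * (y * x 1 * y⁻¹))) * (y * x 1 * y⁻¹)⁻¹ := by rw [heq]; group
        _ = (x 2)⁻¹ * x 0 := by group
    have hcT : ∀ j, x j ∈ centralizer (T : Set G) := fun j =>
      mem_centralizer_iff.2 fun a ha => hcen _ (hconj j) a ha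
    have hz'T : z' ∈ centralizer (T : Set G) := hz'e ▸ mul_mem (inv_mem (hcT 2)) (hcT 0)
    have hzT : x 2 * (x 1)⁻¹ ∈ centralizer (T : Set G) := mul_mem (hcT 2) (inv_mem (hcT 1))
    have hz'P : z' ∈ P := hz'e ▸ mul_mem (inv_mem (hval _ (hconj 2)).1) (hval _ (hconj 0)).1
    have hz'1 : z' ≠ 1 := fun e => hne (by
      calc x 2 * (x 1)⁻¹ = y⁻¹ * z' * y := by rw [hz']; group
        _ = 1 := by rw [e]; group)
    obtain ⟨a, ha, haT⟩ := hyT
    set U := centralizer ({z'} : Set G) ⊓ normalizer (P : Set G)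
    have hU : U = T := by
      refine hl.eq_of_le ((hc.five.isPGroup_centralizer_two hz'1
        (hl.pow_four hc (hl.lt.le hz'P))).to_le inf_le_left) ?_ inf_le_right
      exact le_inf (fun b hb => mem_centralizer_singleton_iff.2 (mem_centralizer_iff.1 hz'T b hb))
        hl.leN
    refine haT (hU ▸ mem_inf.2 ⟨mem_centralizer_singleton_iff.2 ?_,
      mul_mem (mul_mem hyN (hl.leN ha)) (inv_mem hyN)⟩)
    have h1 := mem_centralizer_iff.1 hzT a ha
    rw [hz']
    calc y * a * y⁻¹ * (y * (x 2 * (x 1)⁻¹) * y⁻¹) = y * (a * (x 2 * (x 1)⁻¹)) * y⁻¹ := by group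
      _ = y * (x 2 * (x 1)⁻¹ * a) * y⁻¹ := by rw [h1]
      _ = _ := by group
  have h21 : x 2 = x 1 := mul_inv_eq_one.1 hz
  rw [h21] at heq
  have h02 : x 0 = x 1 := mul_right_cancel heq
  simpa [hx] using h02.symm

/-- If `A P / P` is not cyclic then it is the whole of `T / P`, which is not cyclic. -/
theorem Loc.not_cyc (hl : Loc P T) (hc : Ctx G) {A : Subgroup G} (hA : A ≤ T) (h : ¬ Cyc A P) :
    (∀ x ∈ T, ∃ a ∈ A, ∃ e ∈ P, x = a * e) ∧ ¬ Cyc T P := by
  haveI : (P.subgroupOf T).Normal :=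
    (normal_subgroupOf_iff_le_normalizer hl.lt.le).2 hl.leN
  set π := QuotientGroup.mk' (P.subgroupOf T) with hπ
  set A' := (A.subgroupOf T).map π with hA'
  have hcard : Nat.card (T ⧸ P.subgroupOf T) = 2 ∨ Nat.card (T ⧸ P.subgroupOf T) = 4 := by
    have h1 := card_eq_card_quotient_mul_card_subgroup (P.subgroupOf T)
    rw [Nat.card_congr (subgroupOfEquivOfLe hl.lt.le).toEquiv] at h1
    rcases (hl.facts hc).1 with e | ⟨e, -⟩
    · exact Or.inl (mul_right_cancel₀ Nat.card_pos.ne' (h1.symm.trans e))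
    · exact Or.inr (mul_right_cancel₀ Nat.card_pos.ne' (h1.symm.trans e))
  have hnc : ¬ IsCyclic A' := by
    intro hcyc
    obtain ⟨⟨g', g, hg, rfl⟩, hgen⟩ := IsCyclic.exists_generator (α := A')
    refine h ⟨g, hg, fun x hx => ?_⟩
    obtain ⟨n, hn⟩ := mem_zpowers_iff.1 (hgen ⟨π ⟨x, hA hx⟩, mem_map_of_mem π hx⟩)
    refine ⟨-n, ?_⟩
    have hn' : π g ^ n = π ⟨x, hA hx⟩ := by simpa using congrArg Subtype.val hn
    have : π (g ^ (-n) * ⟨x, hA hx⟩) = 1 := by
      rw [map_mul, map_zpow, zpow_neg, hn', inv_mul_cancel]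
    simpa using mem_subgroupOf.1 ((QuotientGroup.eq_one_iff _).1 this)
  have htop : A' = ⊤ := by
    refine eq_top_of_card_eq _ (le_antisymm (Nat.le_of_dvd Nat.card_pos (card_subgroup_dvd_card _)) ?_)
    by_contra hlt
    push Not at hlt
    have h2 : Nat.card A' ∣ 4 :=
      (card_subgroup_dvd_card A').trans (by rcases hcard with e | e <;> rw [e] <;> norm_num)
    have hp0 : 0 < Nat.card A' := Nat.card_pos
    have hle : Nat.card A' = 1 ∨ Nat.card A' = 2 := by
      have : Nat.card A' < 4 := by rcases hcard with e | e <;> omega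
      interval_cases Nat.card A' <;> first | norm_num at h2 ⊢ | exact absurd h2 (by norm_num)
    rcases hle with e | e
    · haveI : Subsingleton A' := (Nat.card_eq_one_iff_unique.1 e).1
      exact hnc inferInstance
    · exact hnc (isCyclic_of_prime_card (p := 2) e)
  refine ⟨fun x hx => ?_, fun ⟨g, hg, hgen⟩ => ?_⟩
  · obtain ⟨a, ha, hax⟩ := htop.ge (mem_top (π ⟨x, hx⟩))
    refine ⟨a, ha, (a : G)⁻¹ * x, ?_, by group⟩
    exact mem_subgroupOf.1 (QuotientGroup.eq.1 hax)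
  · refine hnc ?_
    haveI : IsCyclic (T ⧸ P.subgroupOf T) := by
      refine ⟨π ⟨g, hg⟩, fun q => ?_⟩
      obtain ⟨x, rfl⟩ := QuotientGroup.mk'_surjective (P.subgroupOf T) q
      obtain ⟨n, hn⟩ := hgen x x.2
      refine mem_zpowers_iff.2 ⟨-n, ?_⟩
      rw [← map_zpow]
      refine QuotientGroup.eq.2 (mem_subgroupOf.2 ?_)
      simpa using hn
    infer_instance

variable {P₁ P₂ : Subgroup G}

/-- The commuting case, one orientation. -/
theorem false_of_commuting' (hc : Ctx G) (h1 : Loc P₁ T) (h2 : Loc P₂ T) (h12 : ¬ P₁ ≤ P₂)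
    (hV : cenInv P₂ ≤ P₁) (hcase : Cyc P₁ P₂ ∨
      (∀ x ∈ T, ∃ a ∈ P₁, ∃ e ∈ P₂, x = a * e) ∧ ¬ Cyc T P₁) : False := by
  haveI : Fact (Nat.Prime 2) := ⟨Nat.prime_two⟩
  set C₁ := cenInv P₂ ⊓ centralizer (P₁ : Set G) with hC₁
  have hC₁V : C₁ ≤ cenInv P₁ := fun v hv =>
    ⟨hV hv.1, hv.1.2.1, fun d hd => mem_centralizer_iff.1 hv.2 d hd⟩
  have hlt : ∃ v ∈ cenInv P₂, v ∉ C₁ := by
    by_contra hall
    push Not at hall
    exact h12 fun d hd => h2.centralizer_cenInv hc d (h2.leN (h1.lt.le hd)) fun v hv =>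
      mem_centralizer_iff.1 (hall v hv).2 d hd
  obtain ⟨t, htV, htC, htD⟩ : ∃ t ∈ cenInv P₂, t ∉ C₁ ∧ ∀ d ∈ P₁, D t d ∈ C₁ := by
    set B := C₁.subgroupOf P₁
    haveI : B.Normal := ⟨fun b hb g => by
      have : g * b * g⁻¹ = b := Subtype.ext (by
        show (g : G) * b * (g : G)⁻¹ = b
        rw [mul_inv_eq_iff_eq_mul]
        exact mem_centralizer_iff.1 (mem_subgroupOf.1 hb).2 g g.2)
      rwa [this]⟩
    set A := (cenInv P₂).subgroupOf P₁
    haveI hAn : A.Normal := ⟨fun a ha g =>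
      mem_subgroupOf.2 (cenInv_conj (h2.leN (h1.lt.le g.2)) (mem_subgroupOf.1 ha))⟩
    haveI := hAn.map (QuotientGroup.mk' B) (QuotientGroup.mk'_surjective B)
    have hne : A.map (QuotientGroup.mk' B) ≠ ⊥ := by
      rw [Ne, Subgroup.map_eq_bot_iff, QuotientGroup.ker_mk']
      intro hle
      obtain ⟨v, hv, hv'⟩ := hlt
      exact hv' (mem_subgroupOf.1 (hle (mem_subgroupOf.2 (show ((⟨v, hV hv⟩ : P₁) : G) ∈ _ from hv))))
    obtain ⟨q, hq, hq1⟩ := (bot_or_exists_ne_one _).resolve_left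
      (CfsgLib.PGroups.inf_center_ne_bot (h1.twoP.to_quotient B) hne)
    obtain ⟨⟨t, ht, rfl⟩, hqc⟩ := Subgroup.mem_inf.1 hq
    refine ⟨t, mem_subgroupOf.1 ht, fun h => hq1 ((QuotientGroup.eq_one_iff _).2 (mem_subgroupOf.2 h)),
      fun d hd => ?_⟩
    have := mem_center_iff.1 hqc (QuotientGroup.mk' B ⟨d, hd⟩)
    have h' : (⟨d, hd⟩ : P₁) * t * (⟨d, hd⟩ : P₁)⁻¹ * t⁻¹ ∈ B := by
      rw [← QuotientGroup.eq_one_iff (N := B), QuotientGroup.mk_mul, QuotientGroup.mk_mul,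
        QuotientGroup.mk_mul]
      simp only [QuotientGroup.mk'_apply] at this
      rw [this]
      simp
    exact mem_subgroupOf.1 h'
  have htP : t ∈ P₁ := hV htV
  have hval : ∀ d ∈ P₁, D t d ∈ cenInv P₁ := fun d hd => hC₁V (htD d hd)
  have hone : ∀ e ∈ P₂, D t e = 1 := fun e he => D_eq_one_iff.2 (htV.2.2 e he)
  have hfin : ¬ ∀ d ∈ P₁, D t d = 1 := fun hall =>
    htC ⟨htV, mem_centralizer_iff.2 fun d hd => D_eq_one_iff.1 (hall d hd)⟩
  rcases hcase with ⟨g, hg, hgen⟩ | ⟨hT, hnc⟩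
  · have hpow : ∀ m : ℕ, D t (g ^ m) = 1 ∨ D t (g ^ m) = D t g := by
      intro m
      induction m with
      | zero => exact Or.inl (by simp [D])
      | succ m ih =>
        rw [pow_succ, D_mul_right (pow_mem hg m) (hval g hg)]
        rcases ih with e | e <;> rw [e]
        · exact Or.inr (mul_one _)
        · exact Or.inl (hval g hg).2.1
    have hv : ∀ d ∈ P₁, D t d = 1 ∨ D t d = D t g := fun d hd => by
      obtain ⟨n, hn⟩ := hgen d hd
      have he : g ^ n * d ∈ P₁ := mul_mem (zpow_mem hg n) hd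
      obtain ⟨m, hm⟩ := (isOfFinOrder_of_finite g).mem_powers_iff_mem_zpowers.2
        (zpow_mem (mem_zpowers g) (-n))
      have hd' : d = g ^ m * (g ^ n * d) := by
        rw [show g ^ m = g ^ (-n) from hm]; group
      rw [hd', D_mul_right (pow_mem hg m) (hval _ he), hone _ hn, one_mul]
      exact hpow m
    rcases eq_or_ne (D t g) 1 with e | e
    · exact hfin fun d hd => (hv d hd).elim id fun h => h.trans e
    · exact hfin (h1.two_values hc htP (hval g hg) e hv)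
  · obtain ⟨-, -, hy, -⟩ := h1.facts hc
    obtain ⟨y, hyN, hyo, hyT⟩ := hy.resolve_left hnc
    refine hfin (h1.central_values hc hyo hyN hyT htP hval fun d hd a ha => ?_)
    obtain ⟨b, hb, e, he, rfl⟩ := hT a ha
    have hm := htD d hd
    rw [mul_assoc, hm.1.2.2 e he, ← mul_assoc, mem_centralizer_iff.1 hm.2 b hb, mul_assoc]

theorem false_of_commuting (hc : Ctx G) (h1 : Loc P₁ T) (h2 : Loc P₂ T) (hne : P₁ ≠ P₂)
    (hV1 : cenInv P₁ ≤ P₂) (hV2 : cenInv P₂ ≤ P₁) : False := by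
  by_cases h12 : P₁ ≤ P₂
  · have h21 : ¬ P₂ ≤ P₁ := fun h => hne (le_antisymm h12 h)
    refine false_of_commuting' hc h2 h1 h21 hV1 (Or.inl ?_)
    by_contra hn
    obtain ⟨hT, -⟩ := h1.not_cyc hc h2.lt.le hn
    refine h2.lt.not_ge fun x hx => ?_
    obtain ⟨a, ha, e, he, rfl⟩ := hT x hx
    exact mul_mem ha (h12 he)
  · by_cases hcy : Cyc P₁ P₂
    · exact false_of_commuting' hc h1 h2 h12 hV2 (Or.inl hcy)
    obtain ⟨hT, -⟩ := h2.not_cyc hc h1.lt.le hcy
    have h21 : ¬ P₂ ≤ P₁ := fun h => h1.lt.not_ge fun x hx => by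
      obtain ⟨a, ha, e, he, rfl⟩ := hT x hx
      exact mul_mem ha (h he)
    by_cases hcy2 : Cyc P₂ P₁
    · exact false_of_commuting' hc h2 h1 h21 hV1 (Or.inl hcy2)
    exact false_of_commuting' hc h1 h2 h12 hV2
      (Or.inr ⟨hT, (h1.not_cyc hc h2.lt.le hcy2).2⟩)

end CfsgLib.Recog.OrdersFive
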