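import Cfsg.Agent.Lib.Recog.OrdersFive.Loc
import Cfsg.Agent.Lib.Small.SylowInter

/-!
# Simple groups whose elements have order at most five: odd Sylow subgroups and counting
-/

set_option autoImplicit false
set_option linter.unusedSectionVars false
set_option linter.style.haveILetI false

namespace CfsgLib.Recog.OrdersFive

open Subgroup Cfsg

section

variable {G : Type*} [Group G] [Finite G]

/-- The unique subgroup of prime order of a fixed point free prime power group. -/
theorem LeFive.eq_zpowers_of_fpf (h : LeFive G) {r : ℕ} [hr : Fact r.Prime] {R D : Subgroup G}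
    (hR : IsPGroup r R) (hf : CfsgLib.Base.IsFPF R D) (hD : D ≠ ⊥) {a b : G} (ha : a ∈ R)
    (hb : b ∈ R) (hao : orderOf a = r) (hbo : orderOf b = r) : b ∈ zpowers a := by
  rcases eq_or_ne r 2 with rfl | hr2
  · have hone : ∀ {c : G}, orderOf c = 2 → c ≠ 1 ∧ c * c = 1 := fun {c} hc =>
      ⟨fun e => by rw [e, orderOf_one] at hc; omega, by rw [← pow_two, ← hc, pow_orderOf_eq_one]⟩
    rw [hf.involution_unique hD hb (hone hbo).1 (hone hbo).2 ha (hone hao).1 (hone hao).2]
    exact mem_zpowers a
  · have hd := h.card_dvd_of_fpf hr2 hR hf hD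
    have hle : zpowers a ≤ R := zpowers_le.2 ha
    have : zpowers a = R := eq_of_le_of_card_ge hle
      (by rw [Nat.card_zpowers, hao]; exact Nat.le_of_dvd hr.out.pos hd)
    exact this ▸ hb

theorem zpow_fix {p r : ℕ} (hp : p = 3 ∨ p = 5) (hr : r = 2 ∨ r = 3 ∨ r = 5) (hne : r ≠ p)
    {i : ℕ} (hi : i < r) (h : i ^ p ≡ 1 [MOD r]) : i = 1 := by
  rcases hp with rfl | rfl <;> rcases hr with rfl | rfl | rfl <;>
    first | omega | (interval_cases i <;> first | rfl | (revert h; decide))

/-- A two-prime group with nontrivial core does not arise as such a quotient. -/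
theorem false_of_quotient (h : LeFive G) {p : ℕ} [hp : Fact p.Prime] (hp35 : p = 3 ∨ p = 5)
    {D : Subgroup G} [D.Normal] (hD : IsPGroup p D) (hDne : D ≠ ⊥)
    (hcore : pCore p (G ⧸ D) = ⊥) [Group.IsSolvable G] (hpd : p ∣ Nat.card (G ⧸ D)) : False := by
  haveI : Nontrivial (G ⧸ D) := by
    rw [← Finite.one_lt_card_iff_nontrivial]
    exact lt_of_lt_of_le hp.out.one_lt (Nat.le_of_dvd Nat.card_pos hpd)
  obtain ⟨r, hr, hrne⟩ := CfsgLib.Base.exists_prime_pCore_ne_bot (G := G ⧸ D)
  haveI := Fact.mk hr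
  have hrp : r ≠ p := by rintro rfl; exact hrne hcore
  have hM := h.quotient D
  set W := pCore r (G ⧸ D) with hWdef
  haveI : W.Normal := pCore_normal r _
  have hW : IsPGroup r W := CfsgLib.Base.isPGroup_pCore r _
  haveI : Nontrivial W := (nontrivial_iff_ne_bot W).2 hrne
  obtain ⟨n, hn0, hn⟩ := hW.nontrivial_iff_card.1 inferInstance
  obtain ⟨e, he⟩ := exists_prime_orderOf_dvd_card' (G := W) r (hn ▸ dvd_pow_self r hn0.ne')
  have heo : orderOf (e : G ⧸ D) = r := by rw [orderOf_coe, he]
  have hr235 : r = 2 ∨ r = 3 ∨ r = 5 := hM.prime_le (heo ▸ orderOf_dvd_natCard (e : G ⧸ D))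
  -- the unique subgroup of order `r`
  set π := QuotientGroup.mk' D
  let K := W.comap π
  obtain ⟨R⟩ : Nonempty (Sylow r K) := inferInstance
  set R' := (R : Subgroup K).map K.subtype
  have hR : IsPGroup r R' := R.2.map _
  have hf := h.isFPF_pGroup hrp hR hD Subgroup.le_normalizer_of_normal
  have hmapK : K.map π = W := map_comap_eq_self_of_surjective (QuotientGroup.mk'_surjective D) W
  have hRmap : R'.map π = W := by
    have hle : R'.map π ≤ W := hmapK ▸ map_mono (map_subtype_le _)
    refine eq_of_le_of_card_ge hle ?_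
    have hinj : Function.Injective (π.comp R'.subtype) := by
      refine (injective_iff_map_eq_one _).2 fun x hx => Subtype.ext ?_
      exact Subgroup.mem_bot.1 ((disjoint_iff.1 (hR.disjoint_of_ne r p hrp _ _ hD)) ▸
        mem_inf.2 ⟨x.2, (QuotientGroup.eq_one_iff (x : G)).1 hx⟩)
    have hc : Nat.card (R'.map π) = Nat.card R' := by
      have hh := Nat.card_congr (MonoidHom.ofInjective hinj).toEquiv
      rw [MonoidHom.range_comp, range_subtype] at hh
      exact hh.symm
    rw [hc, show Nat.card R' = Nat.card R from Subgroup.card_map_of_injective K.subtype_injective,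
      Sylow.card_eq_multiplicity R, hn]
    refine Nat.pow_le_pow_right hr.pos ?_
    refine (hr.pow_dvd_iff_le_factorization Nat.card_pos.ne').1 ?_
    rw [← hn, ← hmapK]
    exact Subgroup.card_map_dvd _ _
  have huniq : ∀ f : G ⧸ D, f ∈ W → orderOf f = r → f ∈ zpowers (e : G ⧸ D) := by
    intro f hfW hfo
    obtain ⟨a, ha, hae⟩ := hRmap.ge e.2
    obtain ⟨b, hb, hbf⟩ := hRmap.ge hfW
    have hord : ∀ {c : G} {q : G ⧸ D}, c ∈ R' → π c = q → orderOf q = r → orderOf c = r := by
      intro c q hc hcq hq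
      have hinj : ∀ x ∈ R', π x = 1 → x = 1 := fun x hx hx1 =>
        Subgroup.mem_bot.1 ((disjoint_iff.1 (hR.disjoint_of_ne r p hrp _ _ hD)) ▸
          mem_inf.2 ⟨hx, (QuotientGroup.eq_one_iff x).1 hx1⟩)
      refine _root_.orderOf_eq_prime (hinj _ (pow_mem hc r) ?_) fun e1 => ?_
      · rw [map_pow, hcq, ← hq, pow_orderOf_eq_one]
      · rw [e1, map_one] at hcq
        rw [← hcq, orderOf_one] at hq
        exact hr.ne_one hq.symm
    obtain ⟨m, hm⟩ := mem_zpowers_iff.1
      (h.eq_zpowers_of_fpf hR hf hDne ha hb (hord ha hae heo) (hord hb hbf hfo))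
    exact mem_zpowers_iff.2 ⟨m, by rw [← hae, ← map_zpow, hm, hbf]⟩
  -- it is centralized by an element of order `p`
  obtain ⟨y, hy⟩ := exists_prime_orderOf_dvd_card' p hpd
  have hmem := huniq (y * e * y⁻¹) ((inferInstance : W.Normal).conj_mem _ e.2 y) (by
    rw [← heo]; exact orderOf_injective (MulAut.conj y).toMonoidHom (MulAut.conj y).injective e)
  obtain ⟨i, hi, hie⟩ : ∃ i < r, (e : G ⧸ D) ^ i = y * e * y⁻¹ := by
    obtain ⟨k, hk⟩ := (isOfFinOrder_of_finite (e : G ⧸ D)).mem_powers_iff_mem_zpowers.2 hmem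
    exact ⟨k % r, Nat.mod_lt _ hr.pos, by rw [← heo, pow_mod_orderOf]; exact hk⟩
  have hiter : ∀ k : ℕ, y ^ k * e * (y ^ k)⁻¹ = (e : G ⧸ D) ^ i ^ k := by
    intro k
    induction k with
    | zero => simp
    | succ k ih =>
      calc y ^ (k + 1) * (e : G ⧸ D) * (y ^ (k + 1))⁻¹
          = y ^ k * (y * e * y⁻¹) * (y ^ k)⁻¹ := by rw [pow_succ]; group
        _ = (y ^ k * e * (y ^ k)⁻¹) ^ i := by rw [← hie, conj_pow]
        _ = _ := by rw [ih, ← pow_mul, pow_succ]
  have hmod : i ^ p ≡ 1 [MOD r] := by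
    have := hiter p
    rw [← hy, pow_orderOf_eq_one, one_mul, inv_one, mul_one, hy] at this
    rw [← heo, ← pow_eq_pow_iff_modEq, pow_one]
    exact this.symm
  obtain rfl := zpow_fix hp35 hr235 hrp hi hmod
  rw [pow_one, eq_mul_inv_iff_mul_eq] at hie
  rcases hM.coprime_commute (a := y) (b := (e : G ⧸ D)) hie.symm (by
    rw [hy, heo]; exact (Nat.coprime_primes hp.out hr).2 hrp.symm) with e1 | e1
  · rw [e1, orderOf_one] at hy; exact hp.out.ne_one hy.symm
  · rw [e1, orderOf_one] at heo; exact hr.ne_one heo.symm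

end

variable {G : Type*} [Group G] [Finite G]

theorem Ctx.isSolvable (hc : Ctx G) {p : ℕ} [hp : Fact p.Prime] (hp2 : p ≠ 2) {D : Subgroup G}
    (hD : IsPGroup p D) (hne : D ≠ ⊥) :
    normalizer (D : Set G) ≠ ⊤ ∧ Group.IsSolvable (normalizer (D : Set G)) := by
  have hN : normalizer (D : Set G) ≠ ⊤ := fun e => by
    haveI := normalizer_eq_top_iff.1 e
    haveI := hc.simple
    rcases (inferInstance : D.Normal).eq_bot_or_eq_top with hb | ht
    · exact hne hb
    · haveI := (hD.of_equiv ((MulEquiv.subgroupCongr ht).trans topEquiv)).isNilpotent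
      exact hc.ns inferInstance
  refine ⟨hN, by_contra fun hns => hp2 ?_⟩
  set N := normalizer (D : Set G)
  haveI : (D.subgroupOf N).Normal := normal_in_normalizer
  refine (extension_of_pGroup (hc.five.subgroup N) (hc.six N hN) hns
    (hD.of_equiv (subgroupOfEquivOfLe le_normalizer).symm) ?_).1
  rw [Ne, subgroupOf_eq_bot, disjoint_iff, inf_eq_left.2 le_normalizer]
  exact hne

/-- Odd Sylow subgroups intersect trivially. -/
theorem sylow_ti (hc : Ctx G) {p : ℕ} [hp : Fact p.Prime] (hp35 : p = 3 ∨ p = 5)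
    (P Q : Sylow p G) (hne : P ≠ Q) : (P : Subgroup G) ⊓ Q = ⊥ := by
  classical
  by_contra hbot
  haveI : Finite (Sylow p G × Sylow p G) := inferInstance
  obtain ⟨⟨P', Q'⟩, hPQ, hmax⟩ := Set.exists_max_image
    {R : Sylow p G × Sylow p G | R.1 ≠ R.2}
    (fun R => Nat.card ((R.1 : Subgroup G) ⊓ R.2 : Subgroup G)) (Set.toFinite _) ⟨(P, Q), hne⟩
  set D := (P' : Subgroup G) ⊓ Q' with hD
  have hDne : D ≠ ⊥ := fun e => by
    have : Nat.card ((P : Subgroup G) ⊓ Q : Subgroup G) ≤ Nat.card D := hmax (P, Q) hne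
    rw [e, card_bot] at this
    exact hbot (card_eq_one.1 (le_antisymm this Nat.card_pos))
  obtain ⟨hmany, hinter, -⟩ := CfsgLib.Small.largest_inter hPQ
    (fun R R' h => hmax (R, R') h)
  have hDp : IsPGroup p D := P'.2.to_le inf_le_left
  obtain ⟨hN, hs⟩ := hc.isSolvable (by omega) hDp hDne
  set N := normalizer (D : Set G)
  haveI := hs
  set D' := D.subgroupOf N
  haveI : D'.Normal := normal_in_normalizer
  obtain ⟨S, T, hST⟩ := (Finite.one_lt_card_iff_nontrivial.1 hmany).exists_pair_ne
  refine false_of_quotient (hc.five.subgroup N) hp35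
    (D := D') (hDp.of_equiv (subgroupOfEquivOfLe le_normalizer).symm)
    (by rw [Ne, subgroupOf_eq_bot, disjoint_iff, inf_eq_left.2 le_normalizer]; exact hDne) ?_ ?_
  · set C := (pCore p (N ⧸ D')).comap (QuotientGroup.mk' D') with hC
    haveI : C.Normal := (pCore_normal p _).comap _
    have hCp : IsPGroup p C := (CfsgLib.Base.isPGroup_pCore p _).comap_of_ker_isPGroup _
      (by rw [QuotientGroup.ker_mk']; exact hDp.of_equiv (subgroupOfEquivOfLe le_normalizer).symm)
    have hle : C ≤ D' := (le_inf (hCp.le_sylow_of_normal S) (hCp.le_sylow_of_normal T)).trans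
      (hinter S T hST).le
    rw [eq_bot_iff]
    intro q hq
    obtain ⟨x, rfl⟩ := QuotientGroup.mk'_surjective D' q
    exact (QuotientGroup.eq_one_iff x).2 (hle hq)
  · by_contra hnd
    have hle : (S : Subgroup N) ≤ D' := by
      intro x hx
      have h1 : orderOf (QuotientGroup.mk' D' x) ∣ Nat.card (N ⧸ D') := orderOf_dvd_natCard _
      obtain ⟨k, hk⟩ := IsPGroup.iff_orderOf.1 S.2 ⟨x, hx⟩
      rw [← orderOf_coe] at hk
      have h2 : orderOf (QuotientGroup.mk' D' x) ∣ p ^ k := hk ▸ orderOf_map_dvd _ x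
      obtain ⟨j, -, hj⟩ := (Nat.dvd_prime_pow hp.out).1 h2
      rcases j with _ | j
      · exact (QuotientGroup.eq_one_iff x).1 (orderOf_eq_one_iff.1 (by simpa using hj))
      · exact absurd ((hj ▸ dvd_pow_self p j.succ_ne_zero).trans h1) hnd
    have hle' : (S : Subgroup N) ≤ T := hle.trans ((hinter S T hST).ge.trans inf_le_right)
    exact hST (Sylow.ext (S.is_maximal' T.2 hle').symm)

theorem centralizer_le_sylow (hc : Ctx G) {p : ℕ} [hp : Fact p.Prime] (hp35 : p = 3 ∨ p = 5)
    (P : Sylow p G) {x : G} (hx : x ∈ (P : Subgroup G)) (hx1 : x ≠ 1) :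
    centralizer ({x} : Set G) ≤ P := by
  obtain ⟨k, hk⟩ := P.2 ⟨x, hx⟩
  have hxo : orderOf x = p :=
    hc.five.orderOf_eq_prime (by omega) hx1 (k := k) (by simpa using congrArg Subtype.val hk)
  obtain ⟨Q, hQ⟩ := (hc.five.isPGroup_centralizer hxo).exists_le_sylow
  rcases eq_or_ne Q P with rfl | hne
  · exact hQ
  · have := (sylow_ti hc hp35 Q P hne).le (mem_inf.2 ⟨hQ (mem_centralizer_singleton_iff.2 rfl), hx⟩)
    exact absurd (Subgroup.mem_bot.1 this) hx1

/-- The number of nontrivial `p`-elements, and the possible automizers. -/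
theorem sylow_data (hc : Ctx G) {p : ℕ} [hp : Fact p.Prime] (hp35 : p = 3 ∨ p = 5)
    (hdvd : p ∣ Nat.card G) :
    ∃ k n : ℕ, n * (p ^ (Nat.card G).factorization p * k) = Nat.card G ∧
      Nat.card {g : G // g ^ p = 1 ∧ g ≠ 1} = n * (p ^ (Nat.card G).factorization p - 1) ∧
      k ∣ p ^ (Nat.card G).factorization p - 1 ∧
      (k = 1 ∨ k = 2 ∨ k = 4 ∨ k = 8 ∨ k = 3 ∨ k = 5) ∧ k ≠ p := by
  classical
  obtain ⟨P⟩ : Nonempty (Sylow p G) := inferInstance
  set A := p ^ (Nat.card G).factorization p with hA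
  have hPA : Nat.card P = A := P.card_eq_multiplicity
  have hPne : (P : Subgroup G) ≠ ⊥ := P.ne_bot_of_dvd_card hdvd
  obtain ⟨-, hs⟩ := hc.isSolvable (by omega) P.2 hPne
  set N := normalizer ((P : Subgroup G) : Set G) with hN
  set P' := (P : Subgroup G).subgroupOf N with hP'
  haveI : P'.Normal := normal_in_normalizer
  have hP'A : Nat.card P' = A := (Nat.card_congr (subgroupOfEquivOfLe le_normalizer).toEquiv).trans hPA
  have hidx : ¬ p ∣ P'.index := fun h =>
    P.not_dvd_index (h.trans (relIndex_dvd_index_of_le le_normalizer))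
  have hcop : (Nat.card P').Coprime P'.index := by
    rw [hP'A, hA]
    exact Nat.Coprime.pow_left _ ((Nat.Prime.coprime_iff_not_dvd hp.out).2 hidx)
  obtain ⟨H, hH⟩ := exists_right_complement'_of_coprime hcop
  have hHcard : Nat.card H = P'.index := by
    have h1 := hH.card_mul_card
    have h2 := P'.card_mul_index
    exact Nat.eq_of_mul_eq_mul_left (Nat.card_pos (α := P')) (h1.trans h2.symm)
  have hf : CfsgLib.Base.IsFPF H P' := (hc.five.subgroup N).isFPF le_normalizer_of_normal
    (by rw [hHcard]; exact hcop.symm)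
  have hP'ne : P' ≠ ⊥ := by
    rw [hP', Ne, subgroupOf_eq_bot, disjoint_iff, inf_eq_left.2 le_normalizer]
    exact hPne
  refine ⟨P'.index, Nat.card (Sylow p G), ?_, ?_, hP'A ▸ hHcard ▸ hf.card_dvd, ?_, ?_⟩
  · rw [Sylow.card_eq_index_normalizer P]
    show N.index * (A * P'.index) = _
    rw [← hP'A, card_mul_index, mul_comm, card_mul_index]
  · have hbij : Function.Bijective (fun x : Σ R : Sylow p G, {g : (R : Subgroup G) // g ≠ 1} =>
        (⟨x.2.1, hc.five.pow_prime (by omega) x.1.2 x.2.1.2,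
          fun e => x.2.2 (Subtype.ext e)⟩ : {g : G // g ^ p = 1 ∧ g ≠ 1})) := by
      constructor
      · rintro ⟨R, ⟨⟨g, hg⟩, hg1⟩⟩ ⟨R', ⟨⟨g', hg'⟩, hg'1⟩⟩ e
        obtain rfl : g = g' := congrArg Subtype.val e
        obtain rfl : R = R' := by_contra fun hne => hg1 (Subtype.ext (Subgroup.mem_bot.1
          ((sylow_ti hc hp35 R R' hne).le (mem_inf.2 ⟨hg, hg'⟩))))
        rfl
      · rintro ⟨g, hgp, hg1⟩
        have hgP : IsPGroup p (zpowers g) :=
          IsPGroup.of_card (n := 1) (by rw [Nat.card_zpowers, orderOf_eq_prime hgp hg1, pow_one])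
        obtain ⟨R, hR⟩ := hgP.exists_le_sylow
        exact ⟨⟨R, ⟨g, hR (mem_zpowers g)⟩, fun e => hg1 (congrArg Subtype.val e)⟩, rfl⟩
    rw [← Nat.card_congr (Equiv.ofBijective _ hbij)]
    haveI : Fintype (Sylow p G) := Fintype.ofFinite _
    rw [Nat.card_sigma, Finset.sum_congr rfl (g := fun _ => A - 1) fun R _ => ?_]
    · simp
    haveI : Fintype (R : Subgroup G) := Fintype.ofFinite _
    rw [Nat.card_eq_fintype_card, Fintype.card_subtype_compl, Fintype.card_subtype_eq,
      ← Nat.card_eq_fintype_card, R.card_eq_multiplicity]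
  · haveI := hs
    have hNF := hc.five.subgroup N
    -- the complement is a group of prime power order
    have h2 := hNF.card_primeFactors_solvable
    have hpN : p ∈ (Nat.card N).primeFactors := by
      refine Nat.mem_primeFactors.2 ⟨hp.out, ?_, Nat.card_pos.ne'⟩
      refine dvd_trans ?_ (card_subgroup_dvd_card P')
      rw [hP'A, ← hPA]
      obtain ⟨m, hm⟩ := IsPGroup.iff_card.1 P.2
      rw [hm]; refine dvd_pow_self p ?_
      rintro rfl
      exact hPne (card_eq_one.1 (by simpa using hm))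
    rcases eq_or_ne H ⊥ with rfl | hHne
    · exact Or.inl (by rw [← hHcard, card_bot])
    obtain ⟨q, hq, hqd⟩ := Nat.exists_prime_and_dvd (fun e => hHne (card_eq_one.1 e) :
      Nat.card H ≠ 1)
    haveI := Fact.mk hq
    have hqp : q ≠ p := fun e => hidx (e ▸ hHcard ▸ hqd)
    have hHq : IsPGroup q H := by
      refine IsPGroup.of_card (n := (Nat.card H).factorization q) ?_
      have hsub : (Nat.card H).primeFactors = {q} := by
        refine Finset.eq_singleton_iff_unique_mem.2 ⟨Nat.mem_primeFactors.2 ⟨hq, hqd, Nat.card_pos.ne'⟩,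
          fun s hs => by_contra fun hsq => ?_⟩
        obtain ⟨hs1, hs2, -⟩ := Nat.mem_primeFactors.1 hs
        have hsp : s ≠ p := fun e => hidx (e ▸ hHcard ▸ hs2)
        have hsub : ({p, q, s} : Finset ℕ) ⊆ (Nat.card N).primeFactors := by
          intro a ha
          simp only [Finset.mem_insert, Finset.mem_singleton] at ha
          rcases ha with rfl | rfl | rfl
          · exact hpN
          · exact Nat.mem_primeFactors.2 ⟨hq, hqd.trans (card_subgroup_dvd_card H), Nat.card_pos.ne'⟩
          · exact Nat.mem_primeFactors.2 ⟨hs1, hs2.trans (card_subgroup_dvd_card H), Nat.card_pos.ne'⟩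
        have := Finset.card_le_card hsub
        rw [Finset.card_insert_of_notMem (by simp [hqp.symm, hsp.symm]),
          Finset.card_insert_of_notMem (by simpa using Ne.symm hsq), Finset.card_singleton] at this
        omega
      have := Nat.prod_primeFactors_pow_factorization (Nat.card_pos (α := H)).ne'
      rwa [hsub, Finset.prod_singleton] at this
    rw [← hHcard]
    rcases eq_or_ne q 2 with rfl | hq2
    · -- a `2`-group of exponent at most four with one involution
      have htop : IsPGroup 2 (⊤ : Subgroup H) := hHq.to_subgroup ⊤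
      have hexp : ∀ g : H, g ^ 4 = 1 := fun g =>
        Subtype.ext (by simpa using hNF.pow_four hHq g.2)
      rcases hf.isCyclic_or_quaternion hP'ne ⊤ htop with hcy | ⟨-, n, hn, ⟨φ⟩⟩
      · haveI : IsCyclic H := isCyclic_of_surjective _ (topEquiv (G := H)).surjective
        obtain ⟨g, hg⟩ := IsCyclic.exists_generator (α := H)
        have hcd : Nat.card H ∣ 4 := by
          rw [← orderOf_eq_card_of_forall_mem_zpowers hg]
          exact orderOf_dvd_of_pow_eq_one (hexp g)
        have := Nat.le_of_dvd (by norm_num) hcd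
        interval_cases hh : Nat.card H <;> revert hcd <;> norm_num
      · haveI : NeZero (2 ^ n) := ⟨pow_ne_zero n two_ne_zero⟩
        have ha := hNF.subgroup H (φ.symm (QuaternionGroup.a 1) : (⊤ : Subgroup H))
        rw [orderOf_coe, MulEquiv.orderOf_eq, QuaternionGroup.orderOf_a_one] at ha
        have hn1 : n = 1 := by
          have : 2 ^ n ≤ 2 := by omega
          have := (Nat.pow_le_pow_iff_right (m := 1) (by norm_num : 2 ≤ 2)).1 (by simpa using this)
          omega
        subst hn1
        have : Nat.card H = 8 := by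
          rw [← Nat.card_congr (topEquiv (G := H)).toEquiv, Nat.card_congr φ.toEquiv,
            Nat.card_eq_fintype_card, QuaternionGroup.card]
          norm_num
        simp [this]
    · have hd := hNF.card_dvd_of_fpf hq2 hHq hf hP'ne
      rcases (Nat.dvd_prime hq).1 hd with e | e
      · exact Or.inl e
      · have := (hc.five.prime_le ((hqd.trans (card_subgroup_dvd_card H)).trans
          (card_subgroup_dvd_card N))).resolve_left hq2
        rcases this with rfl | rfl <;> simp [e]
  · exact fun e => hidx (e ▸ dvd_rfl)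

/-- The three kinds of elements. -/
theorem card_partition (h : LeFive G) :
    Nat.card G = Nat.card {g : G // g ^ 4 = 1} + Nat.card {g : G // g ^ 3 = 1 ∧ g ≠ 1} +
      Nat.card {g : G // g ^ 5 = 1 ∧ g ≠ 1} := by
  classical
  haveI := Fintype.ofFinite G
  have h1 : ∀ g : G, g ^ 4 = 1 ∨ (g ^ 3 = 1 ∧ g ≠ 1) ∨ (g ^ 5 = 1 ∧ g ≠ 1) := by
    intro g
    have hp := pow_orderOf_eq_one g
    rcases h.order_cases g with e | e | e | e | e <;> rw [e] at hp
    · exact Or.inl (by rw [orderOf_eq_one_iff.1 e, one_pow])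
    · exact Or.inl (by rw [show (4 : ℕ) = 2 * 2 from rfl, pow_mul, hp, one_pow])
    · exact Or.inr (Or.inl ⟨hp, fun e1 => by rw [e1, orderOf_one] at e; omega⟩)
    · exact Or.inl hp
    · exact Or.inr (Or.inr ⟨hp, fun e1 => by rw [e1, orderOf_one] at e; omega⟩)
  have h2 : ∀ (g : G) (m n : ℕ), m.Coprime n → g ^ m = 1 → g ^ n = 1 → g = 1 := fun g m n hc e1 e2 =>
    orderOf_eq_one_iff.1 (Nat.eq_one_of_dvd_coprimes hc (orderOf_dvd_of_pow_eq_one e1)
      (orderOf_dvd_of_pow_eq_one e2))
  simp only [Nat.card_eq_fintype_card, Fintype.card_subtype]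
  rw [← Finset.card_union_of_disjoint, ← Finset.card_union_of_disjoint, ← Finset.card_univ]
  · congr 1
    ext g
    simpa [or_assoc] using h1 g
  · rw [Finset.disjoint_left]
    intro g hg hg'
    simp only [Finset.mem_union, Finset.mem_filter, Finset.mem_univ, true_and] at hg hg'
    rcases hg with e | e
    · exact hg'.2 (h2 g 4 5 (by norm_num) e hg'.1)
    · exact hg'.2 (h2 g 3 5 (by norm_num) e.1 hg'.1)
  · rw [Finset.disjoint_left]
    intro g hg hg'
    simp only [Finset.mem_filter, Finset.mem_univ, true_and] at hg hg'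
    exact hg'.2 (h2 g 4 3 (by norm_num) hg hg'.1)

end CfsgLib.Recog.OrdersFive
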