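import Cfsg.Agent.Lib.Recog.OrdersFive.Fusion
import Cfsg.Agent.Lib.Recog.OrdersFive.Odd
import Cfsg.Agent.Lib.Recog.OrdersFive.Arith
import Cfsg.Agent.Lib.CharsMore.DihedralEight
import Cfsg.Agent.Lib.Small.Order360
import Cfsg.Agent.Lib.Involutions.Isolated
import Cfsg.Agent.Lib.Involutions.ZStar.Main
import Cfsg.Agent.S0231

/-!
# Simple groups whose elements have order at most five and order divisible by nine
-/

set_option autoImplicit false
set_option linter.unusedSectionVars false
set_option linter.style.haveILetI false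

namespace CfsgLib.Recog.OrdersFive

open Subgroup Cfsg
open scoped Pointwise

variable {G : Type*} [Group G] [Finite G]

/-- The shape of the counting equation. -/
theorem equation (hc : Ctx G) : ∃ A B k₃ k₅ n₃ n₅ : ℕ,
    Nat.card G = 2 ^ (Nat.card G).factorization 2 * A * B ∧
    (A = 9 ∨ A = 27 ∨ 81 ≤ A) ∧ (B = 5 ∨ B = 25 ∨ 125 ≤ B) ∧
    (k₃ = 1 ∨ k₃ = 2 ∨ k₃ = 4 ∨ k₃ = 5 ∨ k₃ = 8) ∧
    (k₅ = 1 ∨ k₅ = 2 ∨ k₅ = 3 ∨ k₅ = 4 ∨ k₅ = 8) ∧
    (k₃ = 5 → 81 ≤ A) ∧ (k₅ = 3 → 25 ≤ B) ∧
    n₃ * k₃ = 2 ^ (Nat.card G).factorization 2 * B ∧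
    n₅ * k₅ = 2 ^ (Nat.card G).factorization 2 * A ∧
    Nat.card G = Nat.card {g : G // g ^ 4 = 1} + n₃ * (A - 1) + n₅ * (B - 1) := by
  classical
  haveI : Fact (Nat.Prime 3) := ⟨Nat.prime_three⟩
  haveI : Fact (Nat.Prime 5) := ⟨by norm_num⟩
  obtain ⟨h2, h3, h5⟩ := hc.five.dvd_of_not_solvable hc.ns
  obtain ⟨k₃, n₃, hn3, hu3, hd3, hk3, hk3'⟩ := sylow_data hc (p := 3) (Or.inl rfl) h3
  obtain ⟨k₅, n₅, hn5, hu5, hd5, hk5, hk5'⟩ := sylow_data hc (p := 5) (Or.inr rfl) h5
  set a := (Nat.card G).factorization 3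
  set b := (Nat.card G).factorization 5
  set N := 2 ^ (Nat.card G).factorization 2 with hN
  have hG0 : Nat.card G ≠ 0 := Nat.card_pos.ne'
  have hprod : Nat.card G = N * 3 ^ a * 5 ^ b := by
    have hsub : (Nat.card G).primeFactors = {2, 3, 5} := by
      refine Finset.Subset.antisymm (fun p hp => ?_) ?_
      · obtain ⟨hp1, hp2, -⟩ := Nat.mem_primeFactors.1 hp
        haveI := Fact.mk hp1
        rcases hc.five.prime_le hp2 with e | e | e <;> simp [e]
      · intro p hp
        simp only [Finset.mem_insert, Finset.mem_singleton] at hp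
        rcases hp with rfl | rfl | rfl
        · exact Nat.mem_primeFactors.2 ⟨Nat.prime_two, h2, hG0⟩
        · exact Nat.mem_primeFactors.2 ⟨Nat.prime_three, h3, hG0⟩
        · exact Nat.mem_primeFactors.2 ⟨by norm_num, h5, hG0⟩
    have := Nat.prod_primeFactors_pow_factorization hG0
    rw [hsub, Finset.prod_insert (by simp), Finset.prod_insert (by simp), Finset.prod_singleton] at this
    rw [mul_assoc]; exact this
  have ha2 : 2 ≤ a := (Nat.prime_three.pow_dvd_iff_le_factorization hG0).1 (by
    norm_num; exact hc.nine)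
  have hb1 : 1 ≤ b := ((by norm_num : Nat.Prime 5).pow_dvd_iff_le_factorization hG0).1
    (by rwa [pow_one])
  have hA : 3 ^ a = 9 ∨ 3 ^ a = 27 ∨ 81 ≤ 3 ^ a := by
    match a, ha2 with
    | 2, _ => exact Or.inl rfl
    | 3, _ => exact Or.inr (Or.inl rfl)
    | n + 4, _ => exact Or.inr (Or.inr (by
        calc 81 = 3 ^ 4 := rfl
          _ ≤ 3 ^ (n + 4) := Nat.pow_le_pow_right (by norm_num) (by omega)))
  have hB : 5 ^ b = 5 ∨ 5 ^ b = 25 ∨ 125 ≤ 5 ^ b := by
    match b, hb1 with
    | 1, _ => exact Or.inl rfl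
    | 2, _ => exact Or.inr (Or.inl rfl)
    | n + 3, _ => exact Or.inr (Or.inr (by
        calc 125 = 5 ^ 3 := rfl
          _ ≤ 5 ^ (n + 3) := Nat.pow_le_pow_right (by norm_num) (by omega)))
  refine ⟨3 ^ a, 5 ^ b, k₃, k₅, n₃, n₅, hprod, hA, hB, ?_, ?_, ?_, ?_, ?_, ?_, ?_⟩
  · omega
  · omega
  · rintro rfl
    rcases hA with e | e | e
    · rw [e] at hd3; norm_num at hd3
    · rw [e] at hd3; norm_num at hd3
    · exact e
  · rintro rfl
    rcases hB with e | e | e
    · rw [e] at hd5; norm_num at hd5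
    · exact e.ge
    · omega
  · rw [hprod, show n₃ * (3 ^ a * k₃) = (n₃ * k₃) * 3 ^ a by ring,
      show N * 3 ^ a * 5 ^ b = (N * 5 ^ b) * 3 ^ a by ring] at hn3
    exact mul_right_cancel₀ (by positivity) hn3
  · rw [hprod, show n₅ * (5 ^ b * k₅) = (n₅ * k₅) * 5 ^ b by ring] at hn5
    exact mul_right_cancel₀ (by positivity) hn5
  · conv_lhs => rw [card_partition hc.five]
    rw [hu3, hu5]

theorem card_sylow_two (S : Sylow 2 G) :
    Nat.card (S : Subgroup G) = 2 ^ (Nat.card G).factorization 2 := by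
  haveI : Fact (Nat.Prime 2) := ⟨Nat.prime_two⟩
  exact S.card_eq_multiplicity

/-- The dihedral configuration. -/
theorem six_of_dihedral (hc : Ctx G) {P₁ P₂ T : Subgroup G} (hk : Config P₁ P₂ T 2) :
    Nonempty (G ≃* alternatingGroup (Fin 6)) := by
  haveI := hc.simple
  haveI := Fintype.ofFinite G
  obtain ⟨z, hz, ⟨e⟩⟩ := hk.dihedral hc
  have hperf : commutator G = ⊤ := by
    rcases ((commutator_def G).symm ▸ (inferInstance : (commutator G).Normal)).eq_bot_or_eq_top with hb | ht
    · refine absurd ?_ hc.ns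
      have hcomm : ∀ a b : G, a * b = b * a := fun a b =>
        commutatorElement_eq_one_iff_mul_comm.1 (mem_bot.1 (hb ▸
          (commutator_def G ▸ commutator_mem_commutator (mem_top a) (mem_top b))))
      exact Group.isSolvable_of_comm hcomm
    · exact ht
  rcases CfsgLib.CharsMore.perfect_dihedral_eight_order hperf z hz e with h | h
  · exact absurd (h ▸ hc.nine) (by norm_num)
  · exact CfsgLib.Small.equiv_alternating_six h

/-- The number of `2`-elements in the large configuration. -/
theorem count_of_config (hc : Ctx G) {P₁ P₂ T : Subgroup G} (hk : Config P₁ P₂ T 4) :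
    2 ^ (Nat.card G).factorization 2 = 64 ∧
      64 * Nat.card {g : G // g ^ 4 = 1} = 64 + 13 * Nat.card G := by
  classical
  haveI : Fact (Nat.Prime 2) := ⟨Nat.prime_two⟩
  haveI := Fintype.ofFinite G
  obtain ⟨S, hS⟩ := hk.loc₁.twoT.exists_le_sylow
  have hST : (S : Subgroup G) = T := hk.maximal _ S.2 hS
  refine ⟨by rw [← card_sylow_two S, hST, hk.cardT]; norm_num, ?_⟩
  obtain ⟨z, hz, hz1⟩ := (bot_or_exists_ne_one (P₁ ⊓ P₂)).resolve_left fun e => by
    have := hk.cardC; rw [e, card_bot] at this; omega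
  have hz2 : orderOf z = 2 := orderOf_eq_prime (by rw [pow_two, hk.exp₁ z hz.1]) hz1
  -- every involution is conjugate to `z`
  have hone : ∀ v : G, orderOf v = 2 → ∃ g, g * z * g⁻¹ = v := by
    intro v hv
    obtain ⟨g, hg⟩ := CfsgLib.Involutions.exists_conj_mem_sylow_one S hv
    rw [← SetLike.mem_coe, ← Sylow.coe_coe, hST] at hg
    obtain ⟨h, hh⟩ := hk.one_class hc (hk.loc₁.lt.le hz.1) hz2 hg
      ((orderOf_injective (MulAut.conj g).toMonoidHom (MulAut.conj g).injective v).trans hv)
    exact ⟨g⁻¹ * h, by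
      calc g⁻¹ * h * z * (g⁻¹ * h)⁻¹ = g⁻¹ * (h * z * h⁻¹) * g := by group
        _ = v := by rw [hh]; group⟩
  have hCz : centralizer ({z} : Set G) = T := hk.centralizer_eq hc hz hz1
  -- the number of involutions
  have hI : 64 * Nat.card {v : G // orderOf v = 2} = Nat.card G := by
    set O := MulAction.orbit (ConjAct G) z
    have hO : Nat.card {v : G // orderOf v = 2} = O.ncard := by
      rw [← Nat.card_coe_set_eq]
      refine Nat.card_congr (Equiv.subtypeEquivRight fun v => ⟨fun hv => ?_, ?_⟩)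
      · obtain ⟨g, hg⟩ := hone v hv
        exact ⟨ConjAct.toConjAct g, by simpa [ConjAct.smul_def] using hg⟩
      · rintro ⟨g, rfl⟩
        show orderOf (g • z) = 2
        rw [ConjAct.smul_def]
        exact (orderOf_injective (MulAut.conj (ConjAct.ofConjAct g)).toMonoidHom
          (MulAut.conj (ConjAct.ofConjAct g)).injective z).trans hz2
    rw [hO, ← MulAction.index_stabilizer, ← show Nat.card (MulAction.stabilizer (ConjAct G) z) = 64 by
      rw [← nat_card_centralizer_nat_card_stabilizer, hCz, hk.cardT]; norm_num, card_mul_index]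
    rfl
  -- square roots
  let R : G → Finset G := fun w => Finset.univ.filter fun g => g * g = w
  have hR : ∀ v, orderOf v = 2 → (R v).card = (R z).card := by
    intro v hv
    obtain ⟨g, hg⟩ := hone v hv
    refine Finset.card_bij' (fun x _ => g⁻¹ * x * g) (fun x _ => g * x * g⁻¹) ?_ ?_ ?_ ?_
    · intro x hx
      simp only [R, Finset.mem_filter, Finset.mem_univ, true_and] at hx ⊢
      rw [show g⁻¹ * x * g * (g⁻¹ * x * g) = g⁻¹ * (x * x) * g by group, hx, ← hg]
      group
    · intro x hx
      simp only [R, Finset.mem_filter, Finset.mem_univ, true_and] at hx ⊢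
      rw [show g * x * g⁻¹ * (g * x * g⁻¹) = g * (x * x) * g⁻¹ by group, hx, hg]
    · intro x _; group
    · intro x _; group
  -- the elements of order four of `T`
  have hT4 : (Finset.univ.filter fun g : G => g ∈ T ∧ g * g ≠ 1).card = 36 := by
    have hall : (Finset.univ.filter fun g : G => g ∈ T ∧ g * g = 1) =
        (Finset.univ.filter fun g : G => g ∈ P₁) ∪ Finset.univ.filter fun g : G => g ∈ P₂ := by
      ext g
      simp only [Finset.mem_filter, Finset.mem_univ, true_and, Finset.mem_union]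
      exact ⟨fun h => hk.invol g h.1 h.2, fun h => h.elim
        (fun h => ⟨hk.loc₁.lt.le h, hk.exp₁ g h⟩) fun h => ⟨hk.loc₂.lt.le h, hk.exp₂ g h⟩⟩
    have hc' : ∀ H : Subgroup G, (Finset.univ.filter fun g : G => g ∈ H).card = Nat.card H :=
      fun H => by rw [Nat.card_eq_fintype_card, Fintype.card_subtype]
    have h1 := congrArg Finset.card hall
    have h2 := Finset.card_union_add_card_inter (Finset.univ.filter fun g : G => g ∈ P₁)
      (Finset.univ.filter fun g : G => g ∈ P₂)
    have h3 : (Finset.univ.filter fun g : G => g ∈ P₁) ∩ (Finset.univ.filter fun g : G => g ∈ P₂) =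
        Finset.univ.filter fun g : G => g ∈ (P₁ ⊓ P₂ : Subgroup G) := by
      ext g; simp [Subgroup.mem_inf]
    rw [h3, hc', hc', hc', hk.card₁, hk.card₂, hk.cardC, ← h1] at h2
    have h4 := Finset.card_filter_add_card_filter_not (s := Finset.univ.filter fun g : G => g ∈ T)
      (fun g : G => g * g = 1)
    rw [hc', hk.cardT, Finset.filter_filter, Finset.filter_filter] at h4
    simp only [ne_eq]
    omega
  have hsq : ∀ g ∈ T, g * g ∈ P₁ ⊓ P₂ := by
    intro g hg
    obtain ⟨a, ha, b, hb, rfl⟩ := hk.prod g hg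
    have h1 : b * a * b⁻¹ ∈ P₁ :=
      (mem_normalizer_iff.1 (hk.loc₁.leN (hk.loc₂.lt.le hb)) a).1 ha
    have h2 : a * b * a⁻¹ ∈ P₂ :=
      (mem_normalizer_iff.1 (hk.loc₂.leN (hk.loc₁.lt.le ha)) b).1 hb
    refine mem_inf.2 ⟨?_, ?_⟩
    · rw [show a * b * (a * b) = a * (b * a * b⁻¹) * (b * b) by group, hk.exp₂ b hb, mul_one]
      exact mul_mem ha h1
    · rw [show a * b * (a * b) = (a * b * a⁻¹) * (a * a) * b by group, hk.exp₁ a ha, mul_one]
      exact mul_mem h2 hb
  have hk12 : (R z).card = 12 := by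
    have hkey := Finset.card_eq_sum_card_fiberwise
      (s := Finset.univ.filter fun g : G => g ∈ T ∧ g * g ≠ 1)
      (t := (Finset.univ.filter fun w : G => w ∈ (P₁ ⊓ P₂ : Subgroup G)).erase 1)
      (f := fun g => g * g) (fun g hg => by
        simp only [Finset.coe_filter, Finset.mem_univ, true_and, Set.mem_setOf_eq] at hg
        simp only [Finset.coe_erase, Set.mem_diff, Set.mem_singleton_iff, Finset.coe_filter,
          Finset.mem_univ, true_and, Set.mem_setOf_eq]
        exact ⟨hsq g hg.1, hg.2⟩)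
    rw [hT4, Finset.sum_congr rfl (g := fun _ => (R z).card) fun w hw => ?_, Finset.sum_const,
      smul_eq_mul, Finset.card_erase_of_mem (by simp), show (Finset.univ.filter fun g : G =>
        g ∈ (P₁ ⊓ P₂ : Subgroup G)).card = 4 by
        rw [← Fintype.card_subtype, ← Nat.card_eq_fintype_card]; exact hk.cardC] at hkey
    · omega
    simp only [Finset.mem_erase, Finset.mem_filter, Finset.mem_univ, true_and] at hw
    have hwo : orderOf w = 2 := orderOf_eq_prime (by rw [pow_two, hk.exp₁ w hw.2.1]) hw.1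
    rw [← hR w hwo]
    congr 1
    ext g
    simp only [R, Finset.mem_filter, Finset.mem_univ, true_and]
    refine ⟨fun h => h.2, fun h => ⟨⟨?_, h ▸ hw.1⟩, h⟩⟩
    rw [← hk.centralizer_eq hc hw.2 hw.1, mem_centralizer_singleton_iff, ← h, mul_assoc]
  -- the elements of order four
  have hfour : (Finset.univ.filter fun g : G => g ^ 4 = 1 ∧ g * g ≠ 1).card =
      Nat.card {v : G // orderOf v = 2} * 12 := by
    have hkey := Finset.card_eq_sum_card_fiberwise
      (s := Finset.univ.filter fun g : G => g ^ 4 = 1 ∧ g * g ≠ 1)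
      (t := Finset.univ.filter fun v : G => orderOf v = 2) (f := fun g => g * g) (fun g hg => by
        simp only [Finset.coe_filter, Finset.mem_univ, true_and, Set.mem_setOf_eq] at hg ⊢
        exact orderOf_eq_prime (by rw [← pow_two, ← pow_mul]; exact hg.1) hg.2)
    rw [hkey, Finset.sum_congr rfl (g := fun _ => 12) fun v hv => ?_, Finset.sum_const,
      smul_eq_mul, Nat.card_eq_fintype_card, Fintype.card_subtype]
    simp only [Finset.mem_filter, Finset.mem_univ, true_and] at hv
    rw [← hk12, ← hR v hv]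
    congr 1
    ext g
    simp only [R, Finset.mem_filter, Finset.mem_univ, true_and]
    refine ⟨fun h => h.2, fun h => ⟨⟨?_, fun e => ?_⟩, h⟩⟩
    · rw [show (4 : ℕ) = 2 * 2 from rfl, pow_mul, pow_two g, h, ← hv, pow_orderOf_eq_one]
    · rw [← h, e, orderOf_one] at hv; omega
  -- the partition
  have hu : Nat.card {g : G // g ^ 4 = 1} = 1 + Nat.card {v : G // orderOf v = 2} +
      Nat.card {v : G // orderOf v = 2} * 12 := by
    rw [← hfour, Nat.card_eq_fintype_card, Fintype.card_subtype, Nat.card_eq_fintype_card,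
      Fintype.card_subtype, ← Finset.card_singleton (1 : G),
      ← Finset.card_union_of_disjoint (by simp), ← Finset.card_union_of_disjoint ?_]
    · congr 1
      ext g
      simp only [Finset.mem_filter, Finset.mem_univ, true_and, Finset.mem_union,
        Finset.mem_singleton]
      constructor
      · intro h
        by_cases h2 : g * g = 1
        · rcases eq_or_ne g 1 with e | e
          · exact Or.inl (Or.inl e)
          · exact Or.inl (Or.inr (orderOf_eq_prime (by rw [pow_two, h2]) e))
        · exact Or.inr ⟨h, h2⟩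
      · rintro ((rfl | h) | h)
        · simp
        · rw [show (4 : ℕ) = 2 * 2 from rfl, pow_mul, ← h, pow_orderOf_eq_one, one_pow]
        · exact h.1
    · rw [Finset.disjoint_left]
      intro g hg hg'
      simp only [Finset.mem_union, Finset.mem_singleton, Finset.mem_filter, Finset.mem_univ,
        true_and] at hg hg'
      rcases hg with rfl | hg
      · exact hg'.2 (mul_one 1)
      · exact hg'.2 (by rw [← pow_two, ← hg, pow_orderOf_eq_one])
  omega

/-- An odd index over a nontrivial normal `2`-subgroup is one, three or five. -/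
theorem odd_index_cases {L : Type*} [Group L] [Finite L] (h : LeFive L) [Group.IsSolvable L]
    {Q : Subgroup L} [Q.Normal] (hQ : IsPGroup 2 Q) (hne : Q ≠ ⊥) (hodd : ¬ 2 ∣ Q.index) :
    Q.index = 1 ∨ Q.index = 3 ∨ Q.index = 5 := by
  haveI : Fact (Nat.Prime 2) := ⟨Nat.prime_two⟩
  obtain ⟨n, hn⟩ := IsPGroup.iff_card.1 hQ
  have hcop : (Nat.card Q).Coprime Q.index :=
    hn ▸ Nat.Coprime.pow_left _ (Nat.prime_two.coprime_iff_not_dvd.2 hodd)
  obtain ⟨H, hH⟩ := exists_right_complement'_of_coprime hcop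
  have hHcard : Nat.card H = Q.index :=
    Nat.eq_of_mul_eq_mul_left (Nat.card_pos (α := Q)) (hH.card_mul_card.trans Q.card_mul_index.symm)
  rw [← hHcard]
  have hf : CfsgLib.Base.IsFPF H Q := h.isFPF le_normalizer_of_normal (by rw [hHcard]; exact hcop.symm)
  rcases eq_or_ne H ⊥ with rfl | hHne
  · exact Or.inl card_bot
  obtain ⟨q, hq, hqd⟩ := Nat.exists_prime_and_dvd (fun e => hHne (card_eq_one.1 e) : Nat.card H ≠ 1)
  haveI := Fact.mk hq
  have hq2 : q ≠ 2 := fun e => hodd (e ▸ hHcard ▸ hqd)
  have h2L : 2 ∈ (Nat.card L).primeFactors := by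
    refine Nat.mem_primeFactors.2 ⟨Nat.prime_two, ?_, Nat.card_pos.ne'⟩
    refine dvd_trans ?_ (card_subgroup_dvd_card Q)
    rw [hn]
    refine dvd_pow_self 2 ?_
    rintro rfl
    exact hne (card_eq_one.1 (by simpa using hn))
  have hmem : ∀ s, s.Prime → s ∣ Nat.card H → s ∈ (Nat.card L).primeFactors := fun s hs hd =>
    Nat.mem_primeFactors.2 ⟨hs, hd.trans (card_subgroup_dvd_card H), Nat.card_pos.ne'⟩
  have hsub : (Nat.card H).primeFactors = {q} := by
    refine Finset.eq_singleton_iff_unique_mem.2 ⟨Nat.mem_primeFactors.2 ⟨hq, hqd, Nat.card_pos.ne'⟩,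
      fun s hs => by_contra fun hsq => ?_⟩
    obtain ⟨hs1, hs2, -⟩ := Nat.mem_primeFactors.1 hs
    have hs2' : s ≠ 2 := fun e => hodd (e ▸ hHcard ▸ hs2)
    have hss : ({2, q, s} : Finset ℕ) ⊆ (Nat.card L).primeFactors := by
      intro a ha
      simp only [Finset.mem_insert, Finset.mem_singleton] at ha
      rcases ha with rfl | rfl | rfl
      · exact h2L
      · exact hmem _ hq hqd
      · exact hmem _ hs1 hs2
    have := Finset.card_le_card hss
    rw [Finset.card_insert_of_notMem (by simp [hq2.symm, hs2'.symm]),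
      Finset.card_insert_of_notMem (by simpa using Ne.symm hsq), Finset.card_singleton] at this
    have := h.card_primeFactors_solvable
    omega
  have hHq : IsPGroup q H := IsPGroup.of_card (n := (Nat.card H).factorization q) (by
    have := Nat.prod_primeFactors_pow_factorization (Nat.card_pos (α := H)).ne'
    rwa [hsub, Finset.prod_singleton] at this)
  rcases (Nat.dvd_prime hq).1 (h.card_dvd_of_fpf hq2 hHq hf hne) with e | e
  · exact Or.inl e
  · rcases (h.prime_le (hqd.trans (card_subgroup_dvd_card H))).resolve_left hq2 with rfl | rfl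
    · exact Or.inr (Or.inl e)
    · exact Or.inr (Or.inr e)

/-- Without proper two-local subgroups the Sylow `2`-subgroups are disjoint, with three
involutions each. -/
theorem count_of_ti (hc : Ctx G) (S : Sylow 2 G)
    (hctl : Controls (S : Subgroup G) (normalizer ((S : Subgroup G) : Set G))) :
    3 ∣ Nat.card (S : Subgroup G) - 1 ∧
      3 * Nat.card {g : G // g ^ 4 = 1} * Nat.card (S : Subgroup G) =
        3 * Nat.card (S : Subgroup G) + Nat.card G * (Nat.card (S : Subgroup G) - 1) := by
  classical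
  haveI : Fact (Nat.Prime 2) := ⟨Nat.prime_two⟩
  haveI := hc.simple
  set M := normalizer ((S : Subgroup G) : Set G) with hM
  have hSne : (S : Subgroup G) ≠ ⊥ := S.ne_bot_of_dvd_card (hc.five.dvd_of_not_solvable hc.ns).1
  have hinv : ∀ {x : G}, x ∈ (S : Subgroup G) → x * x = 1 → x ≠ 1 →
      centralizer ({x} : Set G) ≤ (S : Subgroup G) := by
    intro x hx hxx hx1
    obtain ⟨l, hl, hle⟩ := centralizer_le_of_controls hc S hctl hx hx1 (hc.five.pow_four S.2 hx)
    exact hle.trans (mem_normalizer_iff_map_conj_eq.1 hl).le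
  have hMne : M ≠ ⊤ := fun e => by
    haveI := normalizer_eq_top_iff.1 e
    rcases (inferInstance : (S : Subgroup G).Normal).eq_bot_or_eq_top with hb | ht
    · exact hSne hb
    · haveI := (S.2.of_equiv ((MulEquiv.subgroupCongr ht).trans topEquiv)).isNilpotent
      exact hc.ns inferInstance
  -- trivial intersections
  have hti : ∀ R R' : Sylow 2 G, R ≠ R' → (R : Subgroup G) ⊓ R' = ⊥ := by
    have hS : ∀ R : Sylow 2 G, R ≠ S → (R : Subgroup G) ⊓ S = ⊥ := by
      intro R hne
      by_contra hbot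
      obtain ⟨d, hd⟩ := exists_prime_orderOf_dvd_card' (G := ((R : Subgroup G) ⊓ S : Subgroup G)) 2 (by
        obtain ⟨n, hn⟩ := IsPGroup.iff_card.1 (S.2.to_le inf_le_right :
          IsPGroup 2 ((R : Subgroup G) ⊓ S : Subgroup G))
        rw [hn]
        refine dvd_pow_self 2 ?_
        rintro rfl
        exact hbot (card_eq_one.1 (by simpa using hn)))
      obtain ⟨hdR, hdS⟩ := mem_inf.1 d.2
      have hdd : (d : G) * d = 1 := by
        have hdo : orderOf (d : G) = 2 := by rw [orderOf_coe, hd]
        have : (d : G) ^ 2 = 1 := orderOf_dvd_iff_pow_eq_one.1 hdo.dvd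
        rwa [pow_two] at this
      have hd1 : (d : G) ≠ 1 := fun e => by rw [← orderOf_coe, e, orderOf_one] at hd; omega
      obtain ⟨z, hz, hz1⟩ := (bot_or_exists_ne_one _).resolve_left
        (cenInv_ne_bot R.2 (R.ne_bot_of_dvd_card (hc.five.dvd_of_not_solvable hc.ns).1))
      have hzS : z ∈ (S : Subgroup G) := hinv hdS hdd hd1
        (mem_centralizer_singleton_iff.2 (hz.2.2 _ hdR).symm)
      have hle : (R : Subgroup G) ≤ S := fun r hr => hinv hzS hz.2.1 hz1
        (mem_centralizer_singleton_iff.2 (hz.2.2 r hr))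
      exact hne (Sylow.ext (R.is_maximal' S.2 hle).symm)
    intro R R' hne
    obtain ⟨g, hg⟩ := MulAction.exists_smul_eq G R' S
    have h := hS (g • R) (fun e => hne (MulAction.injective g (e.trans hg.symm)))
    rw [eq_bot_iff_forall] at h ⊢
    intro x hx
    have : g * x * g⁻¹ = 1 := by
      refine h _ (mem_inf.2 ⟨?_, ?_⟩)
      · rw [Sylow.coe_subgroup_smul]
        exact smul_mem_pointwise_smul _ (MulAut.conj g) _ (mem_inf.1 hx).1
      · rw [← hg, Sylow.coe_subgroup_smul]
        exact smul_mem_pointwise_smul _ (MulAut.conj g) _ (mem_inf.1 hx).2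
    simpa using this
  -- one class of involutions
  have hnn : ¬ (S : Subgroup G).Normal := fun hn => hMne (normalizer_eq_top_iff.2 hn)
  have hclass : ∀ s t : G, orderOf s = 2 → orderOf t = 2 → IsConj s t := fun s t hs ht =>
    Cfsg.Agent.S0231.result S hnn (fun g hg => by
      have hne : g • S ≠ S := fun e => hg (by
        have := congrArg (fun R : Sylow 2 G => (R : Subgroup G)) e
        simpa [Sylow.coe_subgroup_smul] using this)
      have := hti _ _ hne
      simpa [Sylow.coe_subgroup_smul] using this) s t hs ht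
  obtain ⟨z, hz, hz1⟩ := (bot_or_exists_ne_one _).resolve_left (cenInv_ne_bot S.2 hSne)
  have hzo : orderOf z = 2 := orderOf_eq_prime (by rw [pow_two, hz.2.1]) hz1
  have hzS : z ∈ (S : Subgroup G) := hz.1
  have hconj : ∀ x ∈ (S : Subgroup G), orderOf x = 2 → ∃ l ∈ M, x = l⁻¹ * z * l := by
    intro x hx hxo
    obtain ⟨g, hg⟩ := isConj_iff.1 (hclass z x hzo hxo)
    obtain ⟨l, hl, hle⟩ := hctl z hzS g⁻¹ (by rw [inv_inv, hg]; exact hx)
    exact ⟨l, hl, by rwa [inv_inv, hg] at hle⟩
  -- the number of involutions of `S`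
  set j := (Nat.card (cenInv (S : Subgroup G))) - 1 with hj
  set S' := (S : Subgroup G).subgroupOf M
  haveI : S'.Normal := normal_in_normalizer
  have hS'2 : IsPGroup 2 S' := S.2.of_equiv (subgroupOfEquivOfLe le_normalizer).symm
  have hidx : ¬ 2 ∣ S'.index := fun h =>
    S.not_dvd_index (h.trans (relIndex_dvd_index_of_le le_normalizer))
  have hS'ne : S' ≠ ⊥ := by
    rw [Ne, subgroupOf_eq_bot, disjoint_iff, inf_eq_left.2 le_normalizer]
    exact hSne
  have hsol : Group.IsSolvable M := by
    by_contra hns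
    obtain ⟨-, N, hN, hN2, hle, ⟨e⟩⟩ :=
      extension_of_pGroup (hc.five.subgroup M) (hc.six M hMne) hns hS'2 hS'ne
    haveI := hN
    refine hidx ?_
    have : N.index = 60 := by rw [Subgroup.index_eq_card, Nat.card_congr e.toEquiv, card_five]
    exact (this ▸ (by norm_num : 2 ∣ 60) : 2 ∣ N.index).trans (index_dvd_of_le hle)
  haveI := hsol
  let zM : M := ⟨z, le_normalizer hzS⟩
  have horbit : j = S'.index := by
    have hCen : centralizer ({zM} : Set M) = S' := by
      refine le_antisymm (fun x hx => mem_subgroupOf.2 (hinv hzS hz.2.1 hz1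
        (mem_centralizer_singleton_iff.2 (congrArg Subtype.val (mem_centralizer_singleton_iff.1 hx)))))
        fun x hx => mem_centralizer_singleton_iff.2 (Subtype.ext (hz.2.2 _ (mem_subgroupOf.1 hx)))
    have horb : MulAction.orbit (ConjAct M) zM =
        {w : M | (w : G) ∈ cenInv (S : Subgroup G) ∧ w ≠ 1} := by
      ext w
      constructor
      · rintro ⟨g, rfl⟩
        refine ⟨?_, fun e => hz1 ?_⟩
        · simpa [ConjAct.smul_def, zM] using cenInv_conj (ConjAct.ofConjAct g).2 hz
        · exact congrArg Subtype.val (smul_eq_iff_eq_inv_smul g |>.1 e |>.trans (smul_one _))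
      · rintro ⟨hw, hw1⟩
        obtain ⟨l, hl, hle⟩ := hconj w hw.1
          (orderOf_eq_prime (by rw [pow_two, hw.2.1]) fun e => hw1 (Subtype.ext e))
        exact ⟨ConjAct.toConjAct (⟨l, hl⟩⁻¹ : M), Subtype.ext (by
          simpa [ConjAct.smul_def, zM] using hle.symm)⟩
    have h1 : (MulAction.orbit (ConjAct M) zM).ncard = j := by
      rw [horb, ← Set.ncard_image_of_injective _ M.subtype_injective,
        show M.subtype '' {w : M | (w : G) ∈ cenInv (S : Subgroup G) ∧ w ≠ 1} =
          (cenInv (S : Subgroup G) : Set G) \ {1} from ?_,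
        Set.ncard_sdiff_singleton_of_mem (one_mem (cenInv (S : Subgroup G))), ← Nat.card_coe_set_eq]
      · rfl
      ext x
      refine ⟨?_, fun ⟨h, h'⟩ => ⟨⟨x, le_normalizer h.1⟩, ⟨h, fun e => h' (congrArg Subtype.val e)⟩, rfl⟩⟩
      rintro ⟨a, ⟨h, h'⟩, rfl⟩
      exact ⟨h, fun e => h' (Subtype.ext e)⟩
    have h3 := card_mul_index (MulAction.stabilizer (ConjAct M) zM)
    rw [← nat_card_centralizer_nat_card_stabilizer, hCen, MulAction.index_stabilizer, h1] at h3
    exact Nat.eq_of_mul_eq_mul_left (Nat.card_pos (α := S'))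
      (h3.trans (card_mul_index S').symm)
  have hj3 : j = 3 := by
    obtain ⟨m, hm⟩ := IsPGroup.iff_card.1 (S.2.to_le (cenInv_le (S : Subgroup G)))
    have hj' : j + 1 = 2 ^ m := by
      rw [hj, ← hm]
      have : 1 ≤ Nat.card (cenInv (S : Subgroup G)) := Nat.card_pos
      omega
    have hne1 : j ≠ 1 := by
      intro e
      have hiso : IsIsolatedInvolution z := by
        refine CfsgLib.Involutions.isolated_of_sylow S hzo fun g hg => ?_
        obtain ⟨l, hl, hle⟩ := hconj _ hg
          ((orderOf_injective (MulAut.conj g).toMonoidHom (MulAut.conj g).injective z).trans hzo)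
        have hmem : l⁻¹ * z * l ∈ cenInv (S : Subgroup G) := by
          simpa using cenInv_conj (inv_mem hl) hz
        rw [hle]
        by_contra hne
        have h3 : ({1, z, l⁻¹ * z * l} : Finset G).card ≤ Nat.card (cenInv (S : Subgroup G)) := by
          haveI := Fintype.ofFinite G
          rw [Nat.card_eq_fintype_card, Fintype.card_subtype]
          refine Finset.card_le_card fun x hx => ?_
          simp only [Finset.mem_insert, Finset.mem_singleton] at hx
          simp only [Finset.mem_filter, Finset.mem_univ, true_and]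
          rcases hx with rfl | rfl | rfl
          · exact one_mem _
          · exact hz
          · exact hmem
        have hne0 : l⁻¹ * z * l ≠ 1 := fun e => hz1 (by
          simpa [mul_assoc] using congrArg (fun w => l * w * l⁻¹) e)
        rw [Finset.card_insert_of_notMem (by simp [hz1.symm, hne0.symm]),
          Finset.card_insert_of_notMem (by simpa using Ne.symm hne), Finset.card_singleton] at h3
        omega
      refine hz1 (mem_bot.1 ?_)
      have hO : oddCore G = ⊥ := hc.pPrimeCore_eq_bot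
      have := CfsgLib.Involutions.ZStar.mem_center_of_oddCore_eq_bot hiso hO
      rcases (inferInstance : (center G).Normal).eq_bot_or_eq_top with hb | ht
      · exact hb ▸ this
      · exact absurd (Group.isSolvable_of_comm fun a b => (mem_center_iff.1 (ht ▸ mem_top b) a)) hc.ns
    rcases odd_index_cases (hc.five.subgroup M) hS'2 hS'ne hidx with e | e | e
    · exact absurd (horbit.trans e) hne1
    · exact horbit.trans e
    · exfalso
      have h5 : j = 5 := horbit.trans e
      rw [h5] at hj'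
      match m with
      | 0 | 1 | 2 => norm_num at hj'
      | m + 3 =>
        have : 2 ^ 3 ≤ 2 ^ (m + 3) := Nat.pow_le_pow_right (by norm_num) (by omega)
        omega
  have hidx3 : S'.index = 3 := horbit.symm.trans hj3
  have hcS' : Nat.card S' = Nat.card (S : Subgroup G) :=
    Nat.card_congr (subgroupOfEquivOfLe le_normalizer).toEquiv
  refine ⟨?_, ?_⟩
  · haveI : Fact (Nat.Prime 3) := ⟨Nat.prime_three⟩
    obtain ⟨y, hy⟩ := exists_prime_orderOf_dvd_card' (G := M) 3
      (dvd_trans (hidx3 ▸ dvd_rfl) (index_dvd_card S'))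
    exact dvd_card_sub_one hc.five S.2 (by norm_num) (y := (y : G)) (by rw [orderOf_coe, hy]) y.2
  · set N := Nat.card (S : Subgroup G) with hN
    have hn2 : Nat.card (Sylow 2 G) * (N * 3) = Nat.card G := by
      rw [Sylow.card_eq_index_normalizer S]
      show M.index * _ = _
      rw [← hcS', ← hidx3, card_mul_index, mul_comm, card_mul_index]
    -- the elements of the Sylow subgroups
    have hset : Nat.card {g : G // g ^ 4 = 1 ∧ g ≠ 1} = Nat.card (Sylow 2 G) * (N - 1) := by
      have hbij : Function.Bijective (fun x : Σ R : Sylow 2 G, {g : (R : Subgroup G) // g ≠ 1} =>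
          (⟨x.2.1, hc.five.pow_four x.1.2 x.2.1.2,
            fun e => x.2.2 (Subtype.ext e)⟩ : {g : G // g ^ 4 = 1 ∧ g ≠ 1})) := by
        constructor
        · rintro ⟨R, ⟨⟨g, hg⟩, hg1⟩⟩ ⟨R', ⟨⟨g', hg'⟩, hg'1⟩⟩ e
          obtain rfl : g = g' := congrArg Subtype.val e
          obtain rfl : R = R' := by_contra fun hne => hg1 (Subtype.ext (Subgroup.mem_bot.1
            ((hti R R' hne).le (mem_inf.2 ⟨hg, hg'⟩))))
          rfl
        · rintro ⟨g, hgp, hg1⟩
          have hd : orderOf g ∣ 2 ^ 2 := orderOf_dvd_of_pow_eq_one hgp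
          obtain ⟨k, -, hk⟩ := (Nat.dvd_prime_pow Nat.prime_two).1 hd
          have hgP : IsPGroup 2 (zpowers g) := IsPGroup.of_card (n := k) (by rw [Nat.card_zpowers, hk])
          obtain ⟨R, hR⟩ := hgP.exists_le_sylow
          exact ⟨⟨R, ⟨g, hR (mem_zpowers g)⟩, fun e => hg1 (congrArg Subtype.val e)⟩, rfl⟩
      rw [← Nat.card_congr (Equiv.ofBijective _ hbij)]
      haveI : Fintype (Sylow 2 G) := Fintype.ofFinite _
      rw [Nat.card_sigma, Finset.sum_congr rfl (g := fun _ => N - 1) fun R _ => ?_]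
      · simp
      haveI : Fintype (R : Subgroup G) := Fintype.ofFinite _
      rw [Nat.card_eq_fintype_card, Fintype.card_subtype_compl, Fintype.card_subtype_eq,
        ← Nat.card_eq_fintype_card, R.card_eq_multiplicity, hN, S.card_eq_multiplicity]
    have hu : Nat.card {g : G // g ^ 4 = 1} = 1 + Nat.card {g : G // g ^ 4 = 1 ∧ g ≠ 1} := by
      haveI := Fintype.ofFinite G
      simp only [Nat.card_eq_fintype_card, Fintype.card_subtype]
      rw [← Finset.card_singleton (1 : G), ← Finset.card_union_of_disjoint (by simp)]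
      congr 1
      ext g
      by_cases hg : g = 1 <;> simp [hg]
    rw [hu, hset, ← hn2]
    have hN1 : 1 ≤ N := Nat.card_pos
    obtain ⟨N', hN'⟩ := Nat.exists_eq_add_of_le hN1
    rw [hN', Nat.add_sub_cancel_left]
    ring

set_option maxHeartbeats 1600000 in
/-- A simple group with all orders at most five and order divisible by nine. -/
theorem six_of_simple (hc : Ctx G) : Nonempty (G ≃* alternatingGroup (Fin 6)) := by
  classical
  haveI : Fact (Nat.Prime 2) := ⟨Nat.prime_two⟩
  obtain ⟨S⟩ : Nonempty (Sylow 2 G) := inferInstance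
  obtain ⟨A, B, k₃, k₅, n₃, n₅, hG, hA, hB, hk3, hk5, hk3', hk5', hn3, hn5, heq⟩ := equation hc
  set N := 2 ^ (Nat.card G).factorization 2 with hN
  set u := Nat.card {g : G // g ^ 4 = 1}
  have hA1 : 1 ≤ A := by omega
  have hB1 : 1 ≤ B := by omega
  have hn3' : (n₃ : ℤ) * k₃ = N * B := by exact_mod_cast hn3
  have hn5' : (n₅ : ℤ) * k₅ = N * A := by exact_mod_cast hn5
  have hG' : (Nat.card G : ℤ) = N * A * B := by exact_mod_cast hG
  have heq' : (Nat.card G : ℤ) = u + n₃ * ((A : ℤ) - 1) + n₅ * ((B : ℤ) - 1) := by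
    rw [← Nat.cast_one, ← Nat.cast_sub hA1, ← Nat.cast_sub hB1]
    exact_mod_cast heq
  rcases local_cases hc S with ⟨P₁, P₂, T, q, hk⟩ | ⟨P, hP, -, hctl⟩ | hctl
  · rcases hk.q_cases with rfl | rfl
    · exact six_of_dihedral hc hk
    · exfalso
      obtain ⟨hN64, hu⟩ := count_of_config hc hk
      have hu' : (64 : ℤ) * u = 64 + 13 * (Nat.card G : ℤ) := by exact_mod_cast hu
      have h64 : (N : ℤ) = 64 := by exact_mod_cast hN64
      rw [h64] at hn3' hn5' hG'
      rw [hG'] at heq' hu'
      refine no_count_sixtyFour (A := (A : ℤ)) (B := (B : ℤ)) (k₃ := (k₃ : ℤ)) (k₅ := (k₅ : ℤ))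
        (by omega) (by omega) (by omega) (by omega) ?_
      have hu1 : (u : ℤ) = 1 + 13 * A * B := by linarith
      linear_combination ((k₃ : ℤ) * k₅) * heq' +
        (((A : ℤ) - 1) * k₅) * hn3' + (((B : ℤ) - 1) * k₃) * hn5' +
        ((k₃ : ℤ) * k₅) * hu1
  · exact (false_of_unique hc S hP hctl).elim
  · exfalso
    obtain ⟨h3, hu⟩ := count_of_ti hc S hctl
    rw [card_sylow_two S] at h3 hu
    have hN' : N = 4 ∨ N = 16 ∨ 64 ≤ N := by
      have h0 : (Nat.card G).factorization 2 ≠ 0 := (Nat.prime_two.factorization_pos_of_dvd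
        Nat.card_pos.ne' (hc.five.dvd_of_not_solvable hc.ns).1).ne'
      rw [hN]
      revert h3 h0
      generalize (Nat.card G).factorization 2 = e
      intro h3 h0
      match e with
      | 0 => exact absurd rfl h0
      | 1 | 3 | 5 => norm_num at h3
      | 2 => norm_num
      | 4 => norm_num
      | e + 6 =>
        exact Or.inr (Or.inr (by
          calc 64 = 2 ^ 6 := rfl
            _ ≤ 2 ^ (e + 6) := Nat.pow_le_pow_right (by norm_num) (by omega)))
    have hN1 : 1 ≤ N := by omega
    have hu' : (3 : ℤ) * u * N = 3 * N + (Nat.card G : ℤ) * ((N : ℤ) - 1) := by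
      rw [← Nat.cast_one, ← Nat.cast_sub hN1]; exact_mod_cast hu
    rw [hG'] at heq' hu'
    have hN0 : (N : ℤ) ≠ 0 := by omega
    have hu'' : (3 : ℤ) * u = 3 + A * B * ((N : ℤ) - 1) := by
      refine mul_right_cancel₀ hN0 ?_
      linear_combination hu'
    refine no_count_ti (A := (A : ℤ)) (B := (B : ℤ)) (N := (N : ℤ)) (k₃ := (k₃ : ℤ))
      (k₅ := (k₅ : ℤ)) (by exact_mod_cast hA) (by exact_mod_cast hB) (by exact_mod_cast hN')
      (by exact_mod_cast hk3) (by exact_mod_cast hk5) (by exact_mod_cast hk3') (by exact_mod_cast hk5') ?_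
    linear_combination (-3 * ((k₃ : ℤ) * k₅)) * heq' - (3 * ((A : ℤ) - 1) * k₅) * hn3' -
      (3 * ((B : ℤ) - 1) * k₃) * hn5' - ((k₃ : ℤ) * k₅) * hu''

end CfsgLib.Recog.OrdersFive
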