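import Cfsg.Agent.Lib.Recog.OrdersFive.Basic
import Cfsg.Agent.Lib.Base.Cores
import Cfsg.Agent.Lib.Base.MinimalNormal

/-!
# Finite groups whose elements have order at most five: two-local subgroups
-/

set_option autoImplicit false
set_option linter.unusedSectionVars false
set_option linter.style.haveILetI false

namespace CfsgLib.Recog.OrdersFive

open Subgroup CfsgLib.Base Cfsg

/-- The induction hypothesis: a group of order divisible by nine is solvable or alternating. -/
def Six (L : Type*) [Group L] : Prop :=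
  9 ∣ Nat.card L → ¬ Group.IsSolvable L → Nonempty (L ≃* alternatingGroup (Fin 6))

theorem simple_five : IsSimpleGroup (alternatingGroup (Fin 5)) :=
  alternatingGroup.isSimpleGroup (by simp)

theorem card_five : Nat.card (alternatingGroup (Fin 5)) = 60 := by
  rw [nat_card_alternatingGroup, Nat.card_fin]; rfl

theorem not_isSolvable_five : ¬ Group.IsSolvable (alternatingGroup (Fin 5)) := fun hs => by
  haveI := hs
  haveI := simple_five
  have hc := IsSimpleGroup.comm_iff_isSolvable.2 hs
  revert hc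
  decide +kernel

theorem card_six : Nat.card (alternatingGroup (Fin 6)) = 360 := by
  rw [nat_card_alternatingGroup, Nat.card_fin]; rfl

theorem isPGroup_elementary {G : Type*} [Group G] {N : Subgroup G}
    (hN : IsElementaryAbelian 2 N) : IsPGroup 2 N := fun n =>
  ⟨1, Subtype.ext (by simpa using hN.2 n n.2)⟩

variable {L : Type*} [Group L] [Finite L]

/-- A nonsolvable group with a nontrivial normal `p`-subgroup is an extension of a `2`-group by
the alternating group of degree five. -/
theorem extension_of_pGroup (h : LeFive L) (h6 : Six L) (hns : ¬ Group.IsSolvable L) {p : ℕ}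
    [hp : Fact p.Prime] {D : Subgroup L} [D.Normal] (hD : IsPGroup p D) (hne : D ≠ ⊥) :
    p = 2 ∧ ∃ (N : Subgroup L) (_ : N.Normal), IsPGroup 2 N ∧ D ≤ N ∧
      Nonempty (L ⧸ N ≃* alternatingGroup (Fin 5)) := by
  by_cases h9 : 9 ∣ Nat.card L
  · exfalso
    obtain ⟨e⟩ := h6 h9 hns
    haveI : IsSimpleGroup (alternatingGroup (Fin 6)) := alternatingGroup.isSimpleGroup (by simp)
    haveI : IsSimpleGroup L := e.isSimpleGroup
    rcases (inferInstance : D.Normal).eq_bot_or_eq_top with hb | ht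
    · exact hne hb
    · haveI := (hD.of_equiv ((MulEquiv.subgroupCongr ht).trans Subgroup.topEquiv)).isNilpotent
      exact hns inferInstance
  · obtain ⟨N, hN, hel, ⟨e⟩⟩ := h.small hns h9
    haveI := hN
    haveI := simple_five
    haveI : IsSimpleGroup (L ⧸ N) := e.isSimpleGroup
    have hN2 := isPGroup_elementary hel
    have hle : D ≤ N := by
      rcases ((inferInstance : D.Normal).map (QuotientGroup.mk' N)
        (QuotientGroup.mk'_surjective N)).eq_bot_or_eq_top with hb | ht
      · rwa [Subgroup.map_eq_bot_iff, QuotientGroup.ker_mk'] at hb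
      · exfalso
        have hq : IsPGroup p (L ⧸ N) := (hD.map (QuotientGroup.mk' N)).of_equiv
          ((MulEquiv.subgroupCongr ht).trans Subgroup.topEquiv)
        haveI := (hq.of_equiv e).isNilpotent
        exact not_isSolvable_five inferInstance
    refine ⟨?_, N, hN, hN2, hle, ⟨e⟩⟩
    obtain ⟨d, hd, hd1⟩ := (bot_or_exists_ne_one D).resolve_left hne
    obtain ⟨a, ha⟩ := IsPGroup.iff_orderOf.1 hD ⟨d, hd⟩
    obtain ⟨b, hb⟩ := IsPGroup.iff_orderOf.1 hN2 ⟨d, hle hd⟩
    rw [← Subgroup.orderOf_coe] at ha hb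
    have hd1' : orderOf d ≠ 1 := fun e => hd1 (orderOf_eq_one_iff.1 e)
    have hpb : p ∣ 2 ^ b := by
      rw [← hb, show orderOf d = p ^ a from ha]
      exact dvd_pow_self p fun e => hd1' (by rw [show orderOf d = p ^ a from ha, e, pow_zero])
    exact (Nat.prime_dvd_prime_iff_eq hp.out Nat.prime_two).1 (hp.out.dvd_of_dvd_pow hpb)

/-- A `p`-subgroup of a group modulo a nontrivial normal `2`-subgroup has order dividing `p`. -/
theorem card_dvd_quotient (h : LeFive L) {Q : Subgroup L} [Q.Normal] (hQ : IsPGroup 2 Q)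
    (hQne : Q ≠ ⊥) {p : ℕ} [hp : Fact p.Prime] (hp2 : p ≠ 2) {Y : Subgroup (L ⧸ Q)}
    (hY : IsPGroup p Y) : Nat.card Y ∣ p := by
  let K := Y.comap (QuotientGroup.mk' Q)
  obtain ⟨R⟩ : Nonempty (Sylow p K) := inferInstance
  let R' : Subgroup L := (R : Subgroup K).map K.subtype
  have hR : IsPGroup p R' := R.2.map _
  have hf := h.isFPF_pGroup hp2 hR hQ Subgroup.le_normalizer_of_normal
  have hd := h.card_dvd_of_fpf hp2 hR hf hQne
  have hcard : Nat.card Y ∣ Nat.card K := by
    have hmap : K.map (QuotientGroup.mk' Q) = Y :=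
      map_comap_eq_self_of_surjective (QuotientGroup.mk'_surjective Q) Y
    rw [← hmap]; exact Subgroup.card_map_dvd _ _
  obtain ⟨n, hn⟩ := IsPGroup.iff_card.1 hY
  refine dvd_trans ?_ hd
  rw [show Nat.card R' = Nat.card R from Subgroup.card_map_of_injective K.subtype_injective,
    Sylow.card_eq_multiplicity R, hn]
  rw [hn] at hcard
  exact pow_dvd_pow p ((hp.out.pow_dvd_iff_le_factorization Nat.card_pos.ne').1 hcard)

/-- A normal subgroup of prime index over a `2`-group with an even quotient gives an outer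
involution. -/
theorem exists_outer_involution (h : LeFive L) {Q : Subgroup L} [Q.Normal] (hQ : IsPGroup 2 Q)
    {p : ℕ} [hp : Fact p.Prime] (hp2 : p ≠ 2) {Y : Subgroup (L ⧸ Q)} [Y.Normal]
    (hY : Nat.card Y = p) (heven : 2 ∣ Nat.card (L ⧸ Q)) :
    ∃ t : L, orderOf t = 2 ∧ t ∉ Q := by
  haveI : Fact (Nat.Prime 2) := ⟨Nat.prime_two⟩
  set π := QuotientGroup.mk' Q with hπ
  let K := Y.comap π
  obtain ⟨R⟩ : Nonempty (Sylow p K) := inferInstance
  set R' : Subgroup L := (R : Subgroup K).map K.subtype with hR'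
  have hR : IsPGroup p R' := R.2.map _
  -- `K = Q R'`
  have hRne : R' ≠ ⊥ := by
    intro e
    have hRb : (R : Subgroup K) = ⊥ := (map_eq_bot_iff_of_injective _ K.subtype_injective).1 e
    have hdvd : p ∣ Nat.card K := by
      rw [← hY]
      have hmap : K.map π = Y := map_comap_eq_self_of_surjective (QuotientGroup.mk'_surjective Q) Y
      rw [← hmap]; exact Subgroup.card_map_dvd _ _
    have := R.ne_bot_of_dvd_card hdvd
    exact this hRb
  have hRQ : R' ⊓ Q = ⊥ := disjoint_iff.1 (hR.disjoint_of_ne p 2 hp2 _ _ hQ)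
  have hKmap : R'.map π = Y := by
    have hle : R'.map π ≤ Y := by
      rintro _ ⟨r, ⟨k, -, rfl⟩, rfl⟩
      exact k.2
    refine eq_of_le_of_card_ge hle ?_
    obtain ⟨n, hn⟩ := IsPGroup.iff_card.1 (hR.map π)
    rw [hY, hn]
    refine Nat.le_self_pow ?_ p
    rintro rfl
    refine hRne ?_
    have hb : R'.map π = ⊥ := Subgroup.card_eq_one.1 (by rw [hn, pow_zero])
    rw [Subgroup.map_eq_bot_iff, hπ, QuotientGroup.ker_mk'] at hb
    rw [← inf_eq_left.2 hb, hRQ]
  -- Frattini
  set N := normalizer (R' : Set L)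
  have htop : N ⊔ K = ⊤ := Sylow.normalizer_sup_eq_top R
  have hKle : K ≤ N ⊔ Q := by
    intro k hk
    obtain ⟨r, hr, hrk⟩ := hKmap.ge (show π k ∈ Y from hk)
    rw [show k = r * (r⁻¹ * k) by group]
    refine mul_mem (mem_sup_left (le_normalizer hr)) (mem_sup_right ?_)
    rw [← QuotientGroup.eq]
    exact hrk
  have hNQ : N ⊔ Q = ⊤ := eq_top_iff.2 (htop ▸ sup_le le_sup_left hKle)
  have hN2 : 2 ∣ Nat.card N := by
    have hmap : N.map π = ⊤ := by
      rw [← map_top_of_surjective π (QuotientGroup.mk'_surjective Q), ← hNQ, Subgroup.map_sup,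
        show Q.map π = ⊥ from (Subgroup.map_eq_bot_iff _).2 (QuotientGroup.ker_mk' Q).ge, sup_bot_eq]
    refine heven.trans ?_
    rw [← Nat.card_congr (Subgroup.topEquiv (G := L ⧸ Q)).toEquiv, ← hmap]
    exact Subgroup.card_map_dvd _ _
  obtain ⟨t, ht⟩ := exists_prime_orderOf_dvd_card' (G := N) 2 hN2
  refine ⟨t, by rw [Subgroup.orderOf_coe, ht], fun htQ => ?_⟩
  obtain ⟨r, hr, hr1⟩ := (bot_or_exists_ne_one R').resolve_left hRne
  have hc : ((t : L) * r * (t : L)⁻¹) * r⁻¹ = 1 := by
    rw [← Subgroup.mem_bot, ← hRQ]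
    refine Subgroup.mem_inf.2 ⟨mul_mem ((mem_normalizer_iff.1 t.2 r).1 hr) (R'.inv_mem hr), ?_⟩
    rw [show (t : L) * r * (t : L)⁻¹ * r⁻¹ = (t : L) * (r * (t : L)⁻¹ * r⁻¹) by group]
    exact Q.mul_mem htQ ((inferInstance : Q.Normal).conj_mem _ (Q.inv_mem htQ) r)
  have hcomm : Commute (t : L) r := mul_inv_eq_iff_eq_mul.1 (mul_inv_eq_one.1 hc)
  have ho : orderOf r = p := orderOf_eq_prime (h.pow_prime hp2 hR hr) hr1
  rcases h.coprime_commute hcomm (by
    rw [Subgroup.orderOf_coe, ht, ho]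
    exact (Nat.coprime_primes Nat.prime_two hp.out).2 hp2.symm) with e | e
  · rw [show t = 1 from Subtype.ext e, orderOf_one] at ht; omega
  · exact hr1 e

/-- The structure of a group modulo its nontrivial `2`-core. -/
theorem quotient_cases (h : LeFive L) (h6 : Six L) (hne : pCore 2 L ≠ ⊥)
    (hnt : pCore 2 L ≠ ⊤) :
    Nonempty (L ⧸ pCore 2 L ≃* alternatingGroup (Fin 5)) ∨
      ∃ (p : ℕ) (_ : Fact p.Prime) (Y : Subgroup (L ⧸ pCore 2 L)) (_ : Y.Normal), (p = 3 ∨ p = 5) ∧
        Nat.card Y = p ∧ centralizer (Y : Set (L ⧸ pCore 2 L)) = Y ∧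
        Nat.card (L ⧸ pCore 2 L) ∣ p * (p - 1) := by
  haveI : Fact (Nat.Prime 2) := ⟨Nat.prime_two⟩
  set Q := pCore 2 L
  by_cases hs : Group.IsSolvable L
  · right
    haveI := hs
    haveI : Nontrivial (L ⧸ Q) := (QuotientGroup.nontrivial_iff).2 hnt
    obtain ⟨p, hp, hpne⟩ := exists_prime_pCore_ne_bot (G := L ⧸ Q)
    haveI := Fact.mk hp
    have hp2 : p ≠ 2 := by
      rintro rfl
      exact hpne (pCore_quotient_pCore 2 L)
    set Y := pCore p (L ⧸ Q) with hY
    haveI : Y.Normal := pCore_normal p _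
    have hYp : IsPGroup p Y := isPGroup_pCore p _
    have hQ2 : IsPGroup 2 Q := isPGroup_pCore 2 L
    have hYcard : Nat.card Y = p :=
      ((Nat.dvd_prime hp).1 (card_dvd_quotient h hQ2 hne hp2 hYp)).resolve_left
        fun e => hpne (Subgroup.card_eq_one.1 e)
    have hhQ : LeFive (L ⧸ Q) := h.quotient Q
    obtain ⟨y, hy, hy1⟩ := (bot_or_exists_ne_one Y).resolve_left hpne
    have hyo : orderOf y = p := by
      refine ((Nat.dvd_prime hp).1 (hYcard ▸ Y.orderOf_dvd_natCard hy)).resolve_left fun e => hy1 ?_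
      exact orderOf_eq_one_iff.1 e
    have hp35 : p = 3 ∨ p = 5 :=
      (hhQ.prime_le (hyo ▸ orderOf_dvd_natCard y)).resolve_left hp2
    haveI : IsCyclic Y := isCyclic_of_prime_card hYcard
    have hC : centralizer (Y : Set (L ⧸ Q)) = Y := by
      refine (eq_of_le_of_card_ge ?_ ?_).symm
      · intro a ha
        rw [mem_centralizer_iff]
        intro b hb
        obtain ⟨g, hg⟩ := IsCyclic.exists_generator (α := Y)
        obtain ⟨i, hi⟩ := mem_zpowers_iff.1 (hg ⟨a, ha⟩)
        obtain ⟨j, hj⟩ := mem_zpowers_iff.1 (hg ⟨b, hb⟩)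
        have : (⟨b, hb⟩ * ⟨a, ha⟩ : Y) = ⟨a, ha⟩ * ⟨b, hb⟩ := by
          rw [← hi, ← hj, ← zpow_add, ← zpow_add, add_comm]
        exact congrArg Subtype.val this
      · have hpg : IsPGroup p (centralizer (Y : Set (L ⧸ Q))) :=
          (hhQ.isPGroup_centralizer hyo).to_le (centralizer_le (Set.singleton_subset_iff.2 hy))
        exact (Nat.le_of_dvd hp.pos (card_dvd_quotient h hQ2 hne hp2 hpg)).trans hYcard.ge
    refine ⟨p, inferInstance, Y, inferInstance, hp35, hYcard, hC, ?_⟩
    let φ : L ⧸ Q →* MulAut Y := MulAut.conjNormal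
    have hker : φ.ker ≤ Y := fun g hg => by
      rw [← hC, mem_centralizer_iff]
      intro b hb
      have h1 : g * b * g⁻¹ = b :=
        congrArg (fun ψ : MulAut Y => ((ψ ⟨b, hb⟩ : Y) : L ⧸ Q)) hg
      exact (mul_inv_eq_iff_eq_mul.1 h1).symm
    have hd2 : Nat.card φ.ker ∣ p := hYcard ▸ card_dvd_of_le hker
    have hd1 : Nat.card φ.range ∣ p - 1 := by
      have := card_subgroup_dvd_card φ.range
      rwa [IsCyclic.card_mulAut, hYcard, Nat.totient_prime hp] at this
    rw [card_eq_card_quotient_mul_card_subgroup φ.ker,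
      Nat.card_congr (QuotientGroup.quotientKerEquivRange φ).toEquiv, mul_comm]
    exact mul_dvd_mul hd2 hd1
  · left
    obtain ⟨-, N, hN, hN2, hle, e⟩ :=
      extension_of_pGroup h h6 hs (D := Q) (isPGroup_pCore 2 L) hne
    haveI := hN
    obtain rfl : Q = N := le_antisymm hle (le_pCore hN2)
    exact e

theorem five_decomp : ∃ s c : alternatingGroup (Fin 5),
    s * s = 1 ∧ s ≠ 1 ∧ c ^ 3 = 1 ∧ c ≠ 1 ∧ s * c * s⁻¹ = c⁻¹ := by
  decide +kernel

/-- The facts about a `2`-local subgroup with a proper `2`-core. -/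
theorem local_facts (h : LeFive L) (h6 : Six L) (hne : pCore 2 L ≠ ⊥) (T : Sylow 2 L)
    (hlt : pCore 2 L < T) :
    (Nat.card T = 2 * Nat.card (pCore 2 L) ∨
        Nat.card T = 4 * Nat.card (pCore 2 L) ∧ ∃ y : L, orderOf y = 5) ∧
      (∃ p, (p = 3 ∨ p = 5) ∧ ∃ y : L, orderOf y = p) ∧
      ((∃ g ∈ (T : Subgroup L), ∀ x ∈ (T : Subgroup L), ∃ n : ℤ, g ^ n * x ∈ pCore 2 L) ∨
        ∃ y : L, orderOf y = 3 ∧ y ∉ normalizer ((T : Subgroup L) : Set L)) ∧
      ∃ t : L, orderOf t = 2 ∧ t ∉ pCore 2 L := by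
  haveI : Fact (Nat.Prime 2) := ⟨Nat.prime_two⟩
  set Q := pCore 2 L with hQdef
  have hQ2 : IsPGroup 2 Q := isPGroup_pCore 2 L
  have hnt : Q ≠ ⊤ := fun e => hlt.ne (le_antisymm hlt.le (e ▸ le_top))
  have hQcard := card_eq_card_quotient_mul_card_subgroup Q
  -- the index of `Q` in `T`
  set π := QuotientGroup.mk' Q with hπ
  have hker : π.ker = Q := QuotientGroup.ker_mk' Q
  have hTcard : Nat.card T = Nat.card ((T : Subgroup L).map π) * Nat.card Q := by
    have hh := card_eq_card_quotient_mul_card_subgroup ((π.comp (T : Subgroup L).subtype).ker)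
    rw [Nat.card_congr (QuotientGroup.quotientKerEquivRange _).toEquiv, MonoidHom.range_comp,
      Subgroup.range_subtype] at hh
    rw [hh]
    congr 1
    rw [← MonoidHom.comap_ker, hker]
    exact Nat.card_congr (subgroupOfEquivOfLe hlt.le).toEquiv
  obtain ⟨j, hj⟩ := IsPGroup.iff_card.1 (T.2.map π)
  have hdvd : 2 ^ j ∣ Nat.card (L ⧸ Q) := hj ▸ card_subgroup_dvd_card _
  have hj0 : j ≠ 0 := by
    rintro rfl
    refine hlt.not_ge ?_
    have : (T : Subgroup L).map π = ⊥ := Subgroup.card_eq_one.1 (by simpa using hj)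
    rwa [Subgroup.map_eq_bot_iff, hker] at this
  have heven : 2 ∣ Nat.card (L ⧸ Q) := (dvd_pow_self 2 hj0).trans hdvd
  have hord : ∀ {p : ℕ} [Fact p.Prime], p ∣ Nat.card (L ⧸ Q) → ∃ y : L, orderOf y = p := by
    intro p _ hpd
    exact exists_prime_orderOf_dvd_card' p (hQcard ▸ dvd_mul_of_dvd_left hpd _)
  have hfour : ∀ {n : ℕ}, Nat.card (L ⧸ Q) ∣ n → ¬ 8 ∣ n → j = 1 ∨ j = 2 := by
    intro n hn h8
    have h2 : j < 3 := by
      by_contra hj3
      exact h8 ((pow_dvd_pow 2 (by omega : 3 ≤ j)).trans (hdvd.trans hn))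
    omega
  haveI : Fact (Nat.Prime 5) := ⟨by norm_num⟩
  haveI : Fact (Nat.Prime 3) := ⟨Nat.prime_three⟩
  rcases quotient_cases h h6 hne hnt with ⟨⟨e⟩⟩ | ⟨p, hp, Y, hYn, hp35, hY, hC, hd⟩
  · have hc : Nat.card (L ⧸ Q) = 60 := by rw [Nat.card_congr e.toEquiv, card_five]
    haveI := simple_five
    haveI : IsSimpleGroup (L ⧸ Q) := e.isSimpleGroup
    refine ⟨?_, ⟨5, Or.inr rfl, hord (hc ▸ by norm_num)⟩, Or.inr ?_, ?_⟩
    · rcases hfour (n := 60) hc.dvd (by norm_num) with rfl | rfl
      · exact Or.inl (by rw [hTcard, hj, pow_one])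
      · exact Or.inr ⟨by rw [hTcard, hj]; norm_num, hord (hc ▸ by norm_num)⟩
    · by_contra hall
      push Not at hall
      set K := closure {g : L | g ^ 3 = 1} with hK
      haveI hKn : K.Normal := ⟨fun n hn g => by
        have hle : K ≤ K.comap (MulAut.conj g).toMonoidHom := by
          conv_lhs => rw [hK]
          refine (closure_le _).2 fun x hx => subset_closure ?_
          show (g * x * g⁻¹) ^ 3 = 1
          rw [conj_pow, show x ^ 3 = 1 from hx, mul_one, mul_inv_cancel]
        simpa using hle hn⟩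
      have hKN : K ≤ normalizer ((T : Subgroup L) : Set L) := by
        rw [hK, closure_le]
        intro g hg
        rcases eq_or_ne g 1 with rfl | hg1
        · exact one_mem _
        · exact hall g (orderOf_eq_prime hg hg1)
      have hQN : Q ≤ normalizer ((T : Subgroup L) : Set L) := hlt.le.trans le_normalizer
      obtain ⟨y, hy⟩ := hord (p := 3) (hc ▸ by norm_num)
      have hKt : K.map π = ⊤ := by
        refine ((hKn.map π (QuotientGroup.mk'_surjective Q)).eq_bot_or_eq_top).resolve_left ?_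
        intro hb
        rw [Subgroup.map_eq_bot_iff, hker] at hb
        have hyQ : y ∈ Q := hb (subset_closure (show y ^ 3 = 1 from hy ▸ pow_orderOf_eq_one y))
        obtain ⟨m, hm⟩ := IsPGroup.iff_orderOf.1 hQ2 ⟨y, hyQ⟩
        rw [← Subgroup.orderOf_coe] at hm
        have : 2 ∣ 3 ∨ 3 = 1 := by
          rcases m with _ | m
          · exact Or.inr (hy ▸ by simpa using hm)
          · exact Or.inl (hy ▸ hm ▸ dvd_pow_self 2 m.succ_ne_zero)
        omega
      have htop : normalizer ((T : Subgroup L) : Set L) = ⊤ := by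
        refine eq_top_iff.2 fun g _ => ?_
        obtain ⟨k, hk, hkg⟩ := hKt.ge (mem_top (π g))
        rw [show g = k * (k⁻¹ * g) by group]
        refine mul_mem (hKN hk) (hQN ?_)
        rw [← QuotientGroup.eq]
        exact hkg
      haveI := normalizer_eq_top_iff.1 htop
      exact hlt.not_ge (le_pCore T.2)
    · obtain ⟨s, c, hs, hs1, hc3, hc1, hsc⟩ := five_decomp
      set A := zpowers (e.symm s) ⊔ zpowers (e.symm c) with hA
      have hAnorm : A ≤ normalizer (zpowers (e.symm c) : Set (L ⧸ Q)) := by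
        refine sup_le (zpowers_le.2 (mem_normalizer_iff_map_conj_eq.2 ?_)) le_normalizer
        rw [MonoidHom.map_zpowers]
        have hsc' : (MulAut.conj (e.symm s)).toMonoidHom (e.symm c) = (e.symm c)⁻¹ := by
          simp only [MulEquiv.coe_toMonoidHom, MulAut.conj_apply, ← map_inv, ← map_mul, hsc]
        erw [hsc', zpowers_inv]
      let H := A.comap π
      let QH := Q.subgroupOf H
      have hQH : Q ≤ H := fun q hq => by
        show π q ∈ A
        rw [show π q = 1 from (QuotientGroup.eq_one_iff q).2 hq]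
        exact one_mem _
      let Φ : H ⧸ QH →* L ⧸ Q := QuotientGroup.map QH Q H.subtype (fun _ hx => hx)
      have hΦi : Function.Injective Φ := by
        refine (injective_iff_map_eq_one Φ).2 ?_
        intro x hx
        obtain ⟨x, rfl⟩ := QuotientGroup.mk_surjective x
        exact (QuotientGroup.eq_one_iff _).2 ((QuotientGroup.eq_one_iff (x : L)).1 hx)
      have hΦr : A ≤ Φ.range := fun a ha => by
        obtain ⟨x, rfl⟩ := QuotientGroup.mk'_surjective Q a
        exact ⟨QuotientGroup.mk ⟨x, ha⟩, rfl⟩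
      have hZA : zpowers (e.symm c) ≤ A := le_sup_right
      set Z := (zpowers (e.symm c)).comap Φ with hZ
      haveI : Z.Normal := ⟨fun x hx g => by
        rw [hZ, Subgroup.mem_comap] at hx ⊢
        rw [map_mul, map_mul, map_inv]
        obtain ⟨g', rfl⟩ := QuotientGroup.mk_surjective g
        exact (mem_normalizer_iff.1 (hAnorm g'.2) _).1 hx⟩
      have hcZ : Nat.card Z = 3 := by
        have h1 : Z.map Φ = zpowers (e.symm c) := map_comap_eq_self (hZA.trans hΦr)
        rw [← Subgroup.card_map_of_injective hΦi, h1, Nat.card_zpowers, MulEquiv.orderOf_eq,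
          orderOf_eq_prime hc3 hc1]
      have hev : 2 ∣ Nat.card (H ⧸ QH) := by
        obtain ⟨x, hx⟩ := hΦr (show e.symm s ∈ A from mem_sup_left (mem_zpowers _))
        have : orderOf x = 2 := by
          rw [← orderOf_injective Φ hΦi, hx, MulEquiv.orderOf_eq,
            orderOf_eq_prime (by rw [pow_two, hs]) hs1]
        exact this ▸ orderOf_dvd_natCard x
      obtain ⟨t, ht, htQ⟩ := exists_outer_involution (h.subgroup H) (Q := QH)
        (hQ2.of_equiv (subgroupOfEquivOfLe hQH).symm) (p := 3) (by norm_num) hcZ hev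
      exact ⟨t, by rw [Subgroup.orderOf_coe, ht], htQ⟩
  · haveI := hp
    haveI := hYn
    have hp2 : p ≠ 2 := by omega
    refine ⟨?_, ⟨p, hp35, hord (hY ▸ card_subgroup_dvd_card Y)⟩, Or.inl ?_,
      exists_outer_involution h hQ2 hp2 hY heven⟩
    · rcases hfour hd (by rcases hp35 with rfl | rfl <;> norm_num) with rfl | rfl
      · exact Or.inl (by rw [hTcard, hj, pow_one])
      · refine Or.inr ⟨by rw [hTcard, hj]; norm_num, hord ?_⟩
        rcases hp35 with rfl | rfl
        · exact absurd (hdvd.trans hd) (by norm_num)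
        · exact hY ▸ card_subgroup_dvd_card Y
    · -- `T Q / Q` embeds into the automorphisms of `Y`
      haveI : IsCyclic Y := isCyclic_of_prime_card hY
      haveI : IsCyclic (MulAut Y) := by
        haveI := Fact.mk (hY.symm ▸ hp.out : (Nat.card Y).Prime)
        exact isCyclic_of_surjective _ (IsCyclic.mulAutMulEquiv Y).symm.surjective
      let φ : L ⧸ Q →* MulAut Y := MulAut.conjNormal
      set A := (T : Subgroup L).map π with hA
      have hinj : Function.Injective (φ.comp A.subtype) := by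
        refine (injective_iff_map_eq_one _).2 ?_
        intro a ha
        have haY : (a : L ⧸ Q) ∈ Y := by
          rw [← hC, mem_centralizer_iff]
          intro b hb
          have h1 : (a : L ⧸ Q) * b * (a : L ⧸ Q)⁻¹ = b :=
            congrArg (fun ψ : MulAut Y => ((ψ ⟨b, hb⟩ : Y) : L ⧸ Q)) ha
          exact (mul_inv_eq_iff_eq_mul.1 h1).symm
        have hAY : A ⊓ Y = ⊥ := Subgroup.inf_eq_bot_of_coprime (by
          rw [hj, hY]
          exact Nat.Coprime.pow_left _ ((Nat.coprime_primes Nat.prime_two hp.out).2 hp2.symm))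
        exact Subtype.ext (mem_bot.1 (hAY ▸ ⟨a.2, haY⟩))
      haveI := isCyclic_of_injective _ hinj
      obtain ⟨⟨g₀, g, hg, rfl⟩, hgen⟩ := IsCyclic.exists_generator (α := A)
      refine ⟨g, hg, fun x hx => ?_⟩
      obtain ⟨n, hn⟩ := mem_zpowers_iff.1 (hgen ⟨π x, mem_map_of_mem π hx⟩)
      refine ⟨-n, ?_⟩
      rw [← hker, MonoidHom.mem_ker, map_mul, map_zpow]
      have hn' : π g ^ n = π x := by simpa using congrArg Subtype.val hn
      rw [zpow_neg, hn', inv_mul_cancel]

end CfsgLib.Recog.OrdersFive
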