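import Cfsg.Agent.Lib.Recog.OrdersFive.Affine
import Cfsg.Agent.Lib.Recog.OrdersFive.Local
import Cfsg.Agent.Lib.Recog.SL2Four
import Cfsg.Agent.Lib.Classical.Order

/-!
# Extensions of elementary abelian `2`-groups by the alternating group of degree five: spectra
-/

set_option autoImplicit false
set_option linter.unusedSectionVars false
set_option linter.style.haveILetI false

namespace CfsgLib.Recog.OrdersFive

open Subgroup Cfsg

variable {G : Type*} [Group G] [Finite G]

theorem five_no_four : ∀ x : alternatingGroup (Fin 5), x ^ 4 = 1 → x * x = 1 := by decide +kernel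

/-- A proper extension contains an element of order four. -/
theorem exists_four (h : LeFive G) (N : Subgroup G) [N.Normal] (hN : IsElementaryAbelian 2 N)
    (hne : N ≠ ⊥) (e : G ⧸ N ≃* alternatingGroup (Fin 5)) : ∃ g : G, orderOf g = 4 := by
  classical
  haveI : Fact (Nat.Prime 2) := ⟨Nat.prime_two⟩
  haveI : Fact (Nat.Prime 3) := ⟨Nat.prime_three⟩
  haveI := simple_five
  haveI : IsSimpleGroup (G ⧸ N) := e.isSimpleGroup
  by_contra hno
  push Not at hno
  obtain ⟨t, ht⟩ := exists_prime_orderOf_dvd_card' (G := G ⧸ N) 2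
    (by rw [Nat.card_congr e.toEquiv, card_five]; norm_num)
  obtain ⟨S⟩ : Nonempty (Sylow 2 G) := inferInstance
  obtain ⟨S', hS'⟩ := (IsPGroup.of_card (n := 1) (by rw [Nat.card_zpowers, ht, pow_one]) :
    IsPGroup 2 (zpowers t)).exists_le_sylow
  -- the Sylow `2`-subgroup has exponent two
  have hexp : ∀ g ∈ (S : Subgroup G), g * g = 1 := fun g hg => by
    have h4 := h.pow_four S.2 hg
    rcases h.order_cases g with o | o | o | o | o
    · rw [orderOf_eq_one_iff.1 o, mul_one]
    · rw [← pow_two, ← o, pow_orderOf_eq_one]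
    · have hd := orderOf_dvd_of_pow_eq_one h4
      rw [o] at hd; norm_num at hd
    · exact absurd o (hno g)
    · have hd := orderOf_dvd_of_pow_eq_one h4
      rw [o] at hd; norm_num at hd
  have hN2 := isPGroup_elementary hN
  have hNS : N ≤ (S : Subgroup G) := hN2.le_sylow_of_normal S
  have hSN : ¬ (S : Subgroup G) ≤ N := fun hle => by
    refine absurd (S.not_dvd_index) (not_not.2 (dvd_trans ?_ (index_dvd_of_le hle)))
    rw [Subgroup.index_eq_card, Nat.card_congr e.toEquiv, card_five]
    norm_num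
  obtain ⟨g, hgS, hgN⟩ := SetLike.not_le_iff_exists.1 hSN
  set C := centralizer (N : Set G)
  haveI : C.Normal := normal_centralizer
  have hgC : g ∈ C := mem_centralizer_iff.2 fun n hn => by
    calc n * g = (g * g) * (n * g) * 1 := by rw [hexp _ hgS, one_mul, mul_one]
      _ = (g * g) * (n * g) * (n * n) := by rw [hexp _ (hNS hn)]
      _ = g * ((g * n) * (g * n)) * n := by group
      _ = g * n := by rw [hexp _ (mul_mem hgS (hNS hn)), mul_one]
  -- so the whole quotient centralizes `N`
  have htop : C.map (QuotientGroup.mk' N) = ⊤ := by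
    refine (((inferInstance : C.Normal).map (QuotientGroup.mk' N)
      (QuotientGroup.mk'_surjective N)).eq_bot_or_eq_top).resolve_left fun hb => hgN ?_
    exact (QuotientGroup.eq_one_iff g).1 (mem_bot.1 (hb ▸ mem_map_of_mem _ hgC))
  haveI := hN.1
  have hNC : N ≤ C := le_centralizer N
  have hC : C = ⊤ := eq_top_iff.2 fun a _ => by
    obtain ⟨b, hb, hba⟩ := htop.ge (mem_top (QuotientGroup.mk' N a))
    rw [show a = b * (b⁻¹ * a) by group]
    exact mul_mem hb (hNC (QuotientGroup.eq.1 hba))
  obtain ⟨x, hx⟩ := exists_prime_orderOf_dvd_card' (G := G) 3 (by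
    rw [card_eq_card_quotient_mul_card_subgroup N, Nat.card_congr e.toEquiv, card_five]
    exact dvd_mul_of_dvd_left (by norm_num) _)
  obtain ⟨n, hn, hn1⟩ := (bot_or_exists_ne_one N).resolve_left hne
  rcases h.coprime_commute (mem_centralizer_iff.1 (hC.ge (mem_top x)) n hn : Commute n x) (by
      rw [hx, orderOf_eq_prime (hN.2 n hn) hn1]; norm_num) with e1 | e1
  · exact hn1 e1
  · rw [e1, orderOf_one] at hx; omega

/-- The affine group as a semidirect product. -/
theorem affine_semidirect {F : Type*} [Field F] [CharP F 2] :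
    Nonempty (↥(Subgroup.closure {M : Matrix.SpecialLinearGroup (Fin 3) F |
      (M : Matrix (Fin 3) (Fin 3) F) 2 0 = 0 ∧ (M : Matrix (Fin 3) (Fin 3) F) 2 1 = 0 ∧
        (M : Matrix (Fin 3) (Fin 3) F) 2 2 = 1}) ≃*
      Multiplicative (Fin 2 → F) ⋊[CfsgLib.Recog.slAct (F := F)] Matrix.SpecialLinearGroup (Fin 2) F) := by
  set S : Set (Matrix.SpecialLinearGroup (Fin 3) F) := {M : Matrix.SpecialLinearGroup (Fin 3) F |
    (M : Matrix (Fin 3) (Fin 3) F) 2 0 = 0 ∧ (M : Matrix (Fin 3) (Fin 3) F) 2 1 = 0 ∧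
      (M : Matrix (Fin 3) (Fin 3) F) 2 2 = 1} with hS
  let f0 : Multiplicative (Fin 2 → F) ⋊[CfsgLib.Recog.slAct (F := F)]
      Matrix.SpecialLinearGroup (Fin 2) F → Matrix.SpecialLinearGroup (Fin 3) F := fun x =>
    ⟨!![(x.right : Matrix (Fin 2) (Fin 2) F) 0 0, (x.right : Matrix (Fin 2) (Fin 2) F) 0 1, x.left.toAdd 0;
        (x.right : Matrix (Fin 2) (Fin 2) F) 1 0, (x.right : Matrix (Fin 2) (Fin 2) F) 1 1, x.left.toAdd 1;
        0, 0, 1], by
      have hd : (x.right : Matrix (Fin 2) (Fin 2) F).det = 1 := x.right.2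
      rw [Matrix.det_fin_two] at hd
      simp [Matrix.det_fin_three]
      linear_combination hd⟩
  have hf0 : ∀ x, (f0 x : Matrix (Fin 3) (Fin 3) F) =
      !![(x.right : Matrix (Fin 2) (Fin 2) F) 0 0, (x.right : Matrix (Fin 2) (Fin 2) F) 0 1, x.left.toAdd 0;
        (x.right : Matrix (Fin 2) (Fin 2) F) 1 0, (x.right : Matrix (Fin 2) (Fin 2) F) 1 1, x.left.toAdd 1;
        0, 0, 1] := fun x => rfl
  have hf01 : f0 1 = 1 := by
    apply Subtype.ext
    rw [hf0, Matrix.SpecialLinearGroup.coe_one]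
    ext i j
    fin_cases i <;> fin_cases j <;> simp
  have hf0m : ∀ x y, f0 (x * y) = f0 x * f0 y := fun x y => by
    apply Subtype.ext
    rw [Matrix.SpecialLinearGroup.coe_mul, hf0, hf0, hf0]
    ext i j
    fin_cases i <;> fin_cases j <;>
      simp [Matrix.mul_apply, Fin.sum_univ_three, Fin.sum_univ_two, CfsgLib.Recog.slAct_apply,
        Matrix.mulVec, dotProduct, add_comm, add_left_comm, add_assoc]
  let f : Multiplicative (Fin 2 → F) ⋊[CfsgLib.Recog.slAct (F := F)]
      Matrix.SpecialLinearGroup (Fin 2) F →* Matrix.SpecialLinearGroup (Fin 3) F :=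
    { toFun := f0, map_one' := hf01, map_mul' := hf0m }
  have hff : ∀ x, (f x : Matrix (Fin 3) (Fin 3) F) =
      !![(x.right : Matrix (Fin 2) (Fin 2) F) 0 0, (x.right : Matrix (Fin 2) (Fin 2) F) 0 1, x.left.toAdd 0;
        (x.right : Matrix (Fin 2) (Fin 2) F) 1 0, (x.right : Matrix (Fin 2) (Fin 2) F) 1 1, x.left.toAdd 1;
        0, 0, 1] := fun x => rfl
  have hf : Function.Injective f := by
    intro x y hxy
    have h : ∀ i j, (f x : Matrix (Fin 3) (Fin 3) F) i j = (f y : Matrix (Fin 3) (Fin 3) F) i j :=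
      fun i j => by rw [hxy]
    refine SemidirectProduct.ext (Multiplicative.toAdd.injective (funext fun i => ?_))
      (Subtype.ext ?_)
    · fin_cases i
      · simpa [hff] using h 0 2
      · simpa [hff] using h 1 2
    · ext i j
      fin_cases i <;> fin_cases j
      · simpa [hff] using h 0 0
      · simpa [hff] using h 0 1
      · simpa [hff] using h 1 0
      · simpa [hff] using h 1 1
  have hrange : f.range = Subgroup.closure S := by
    refine le_antisymm ?_ ((Subgroup.closure_le _).2 ?_)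
    · rintro _ ⟨x, rfl⟩
      exact Subgroup.subset_closure ⟨by simp [hff], by simp [hff], by simp [hff]⟩
    · rintro M ⟨h0, h1, h2⟩
      have hd : (M : Matrix (Fin 3) (Fin 3) F).det = 1 := M.2
      refine ⟨⟨Multiplicative.ofAdd ![(M : Matrix (Fin 3) (Fin 3) F) 0 2, (M : Matrix (Fin 3) (Fin 3) F) 1 2],
        ⟨!![(M : Matrix (Fin 3) (Fin 3) F) 0 0, (M : Matrix (Fin 3) (Fin 3) F) 0 1;
            (M : Matrix (Fin 3) (Fin 3) F) 1 0, (M : Matrix (Fin 3) (Fin 3) F) 1 1], ?_⟩⟩, ?_⟩
      · rw [Matrix.det_fin_three, h0, h1, h2] at hd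
        simp [Matrix.det_fin_two]
        linear_combination hd
      · apply Subtype.ext
        rw [hff]
        ext i j
        fin_cases i <;> fin_cases j <;> simp [h0, h1, h2]
  exact ⟨((MonoidHom.ofInjective hf).trans (MulEquiv.subgroupCongr hrange)).symm⟩

/-- The affine group `F² ⋊ SL(2, F)` over four points is the model. -/
theorem affine_equiv_model {F : Type*} [Field F] [Fintype F] (hF : Fintype.card F = 4) :
    Nonempty (↥(Subgroup.closure {M : Matrix.SpecialLinearGroup (Fin 3) F |
      (M : Matrix (Fin 3) (Fin 3) F) 2 0 = 0 ∧ (M : Matrix (Fin 3) (Fin 3) F) 2 1 = 0 ∧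
        (M : Matrix (Fin 3) (Fin 3) F) 2 2 = 1}) ≃* model) := by
  classical
  haveI : CharP F 2 := CfsgLib.Recog.charP_two_of_card_four hF
  obtain ⟨g⟩ := affine_semidirect (F := F)
  let A := Multiplicative (Fin 2 → F) ⋊[CfsgLib.Recog.slAct (F := F)] Matrix.SpecialLinearGroup (Fin 2) F
  haveI : Finite A := Finite.of_equiv _ SemidirectProduct.equivProd.symm
  have hrange : Set.range (orderOf : A → ℕ) = ({1, 2, 3, 4, 5} : Set ℕ) :=
    CfsgLib.Recog.range_orderOf_affine_SL_two_four hF
  have hle : LeFive A := fun a => by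
    have := hrange.le ⟨a, rfl⟩
    simp only [Set.mem_insert_iff, Set.mem_singleton_iff] at this
    omega
  have hcard : Nat.card A = 960 := by
    rw [SemidirectProduct.card, CfsgLib.Classical.card_SL_two, Nat.card_congr Multiplicative.toAdd,
      Nat.card_fun, Nat.card_eq_fintype_card (α := F), hF, Nat.card_eq_fintype_card, Fintype.card_fin]
    norm_num
  have hns : ¬ Group.IsSolvable A := fun hs => by
    haveI := hs
    have h2 := hle.card_primeFactors_solvable
    rw [hcard] at h2
    have hsub : ({2, 3, 5} : Finset ℕ) ⊆ (960 : ℕ).primeFactors := fun p hp => by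
      simp only [Finset.mem_insert, Finset.mem_singleton] at hp
      rcases hp with rfl | rfl | rfl <;> exact Nat.mem_primeFactors.2 ⟨by norm_num, by norm_num, by norm_num⟩
    have := (Finset.card_le_card hsub).trans h2
    norm_num at this
  obtain ⟨N, hN, hel, ⟨e⟩⟩ := hle.small hns (by rw [hcard]; norm_num)
  haveI := hN
  have hcN : Nat.card N = 16 := by
    have := card_eq_card_quotient_mul_card_subgroup N
    rw [hcard, Nat.card_congr e.toEquiv, card_five] at this
    omega
  have hne : N ≠ ⊥ := fun hb => by rw [hb, card_bot] at hcN; omega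
  refine ⟨g.trans (equiv_model hle N hel hne (fun D hD hDN hDne => ?_) e).some⟩
  haveI := hD
  haveI : Fact (Nat.Prime 5) := ⟨by norm_num⟩
  obtain ⟨y, hy⟩ := exists_prime_orderOf_dvd_card' (G := A) 5 (by rw [hcard]; norm_num)
  have hD2 : IsPGroup 2 D := (isPGroup_elementary hel).to_le hDN
  haveI : Fact (Nat.Prime 2) := ⟨Nat.prime_two⟩
  have hd := (hle.isFPF_pGroup (by norm_num : (5 : ℕ) ≠ 2)
    (IsPGroup.of_card (n := 1) (by rw [Nat.card_zpowers, hy, pow_one]) : IsPGroup 5 (zpowers y))
    hD2 le_normalizer_of_normal).card_dvd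
  rw [Nat.card_zpowers, hy] at hd
  refine eq_of_le_of_card_ge hDN ?_
  obtain ⟨k, hk⟩ := IsPGroup.iff_card.1 hD2
  have hk0 : k ≠ 0 := fun e0 => hDne (card_eq_one.1 (by rw [hk, e0, pow_zero]))
  rw [hcN, hk]
  by_contra hlt
  push Not at hlt
  rw [show (16 : ℕ) = 2 ^ 4 from rfl, Nat.pow_lt_pow_iff_right (by norm_num)] at hlt
  rw [hk] at hd
  interval_cases k <;> omega

end CfsgLib.Recog.OrdersFive
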