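import Cfsg.Agent.Lib.Recog.OrdersFive.Pair
import Cfsg.Agent.Lib.Techniques.AlperinGoldschmidt

/-!
# Simple groups whose elements have order at most five: two-local subgroups and fusion
-/

set_option autoImplicit false
set_option linter.unusedSectionVars false
set_option linter.style.haveILetI false

namespace CfsgLib.Recog.OrdersFive

open Subgroup Cfsg CfsgLib.Techniques
open scoped Pointwise

variable {G : Type*} [Group G] [Finite G]

theorem Ctx.pPrimeCore_eq_bot (hc : Ctx G) : pPrimeCore 2 G = ⊥ := by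
  haveI : Fact (Nat.Prime 2) := ⟨Nat.prime_two⟩
  haveI := hc.simple
  rcases (pPrimeCore_normal 2 G).eq_bot_or_eq_top with hb | ht
  · exact hb
  · exfalso
    have h := CfsgLib.Base.pPrimeCore_coprime 2 G
    rw [ht, card_top] at h
    exact (Nat.prime_two.coprime_iff_not_dvd.1 h.symm) (hc.five.dvd_of_not_solvable hc.ns).1

/-- A fusion target below a Sylow subgroup gives a two-local subgroup. -/
theorem loc_of_target (hc : Ctx G) (S : Sylow 2 G) {D : Subgroup G} (hD : IsFusionTarget S D)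
    (hlt : D < (S : Subgroup G)) : Loc D ((S : Subgroup G) ⊓ normalizer (D : Set G)) := by
  classical
  haveI : Fact (Nat.Prime 2) := ⟨Nat.prime_two⟩
  obtain ⟨hDS, hC, ⟨-, -, hcomm, -, hsup⟩, hrel⟩ := hD
  set N := normalizer (D : Set G) with hN
  set O := (pPrimeCore 2 N).map N.subtype with hO
  have hOodd : ∀ o ∈ O, ¬ 2 ∣ orderOf o := by
    rintro _ ⟨o, ho, rfl⟩ h2
    have h := CfsgLib.Base.pPrimeCore_coprime 2 N
    rw [coe_subtype, orderOf_coe] at h2
    exact (Nat.prime_two.coprime_iff_not_dvd.1 h.symm)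
      (h2.trans (Subgroup.orderOf_dvd_natCard _ ho))
  have hDne : D ≠ ⊥ := by
    intro hbot
    have hNt : N = ⊤ := by
      rw [hN, normalizer_eq_top_iff, hbot]
      infer_instance
    have hObot : O ≤ ⊥ := by
      have : O ≤ pPrimeCore 2 G := by
        rw [hO]
        refine CfsgLib.Base.map_pPrimeCore_le_of_isSubnormal ?_
        rw [hNt]
        exact Subgroup.IsSubnormal.top
      exact this.trans hc.pPrimeCore_eq_bot.le
    have htop : (⊤ : Subgroup G) ≤ ⊥ := by
      refine le_trans (fun g _ => ?_) ((hC.trans hsup.ge).trans (sup_le hObot hbot.le))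
      rw [mem_centralizer_iff]
      intro d hd
      rw [hbot, coe_bot, Set.mem_singleton_iff] at hd
      rw [hd, one_mul, mul_one]
    haveI : Subsingleton G := subsingleton_of_forall_eq 1 fun g => mem_bot.1 (htop (mem_top g))
    exact hc.ns inferInstance
  have hObot : O = ⊥ := by
    rw [eq_bot_iff_forall]
    intro o ho
    by_contra hne
    obtain ⟨d, hd, hd1⟩ := (bot_or_exists_ne_one D).resolve_left hDne
    have hd4 : d ^ 4 = 1 := hc.five.pow_four S.2 (hDS hd)
    obtain ⟨k, hk⟩ := hc.five.isPGroup_centralizer_two hd1 hd4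
      ⟨o, mem_centralizer_singleton_iff.2 (hcomm o ho d hd)⟩
    have hdv : orderOf o ∣ 2 ^ k := orderOf_dvd_of_pow_eq_one (by simpa using congrArg Subtype.val hk)
    obtain ⟨j, -, hj⟩ := (Nat.dvd_prime_pow Nat.prime_two).1 hdv
    rcases j with _ | j
    · exact hne (orderOf_eq_one_iff.1 (by simpa using hj))
    · exact hOodd o ho (hj ▸ dvd_pow_self 2 j.succ_ne_zero)
  rw [hObot, bot_sup_eq] at hsup
  refine ⟨?_, S.2.to_le inf_le_left, hDne, hC.trans hsup.ge, inf_le_right, hrel, ?_⟩
  · -- the normalizer condition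
    haveI := S.2.isNilpotent
    have h1 : D.subgroupOf S < ⊤ :=
      lt_top_iff_ne_top.2 fun e => hlt.not_ge (subgroupOf_eq_top.1 e)
    obtain ⟨x, hx, hxD⟩ := SetLike.exists_of_lt (Group.normalizerCondition_of_isNilpotent _ h1)
    refine lt_of_le_of_ne (le_inf hDS le_normalizer) fun e => hxD (mem_subgroupOf.2 ?_)
    rw [e]
    refine mem_inf.2 ⟨x.2, mem_normalizer_iff.2 fun d => ⟨fun hd => ?_, fun hd => ?_⟩⟩
    · exact mem_subgroupOf.1 ((mem_normalizer_iff.1 hx ⟨d, hDS hd⟩).1 (mem_subgroupOf.2 hd))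
    · have hdS : d ∈ (S : Subgroup G) := by
        rw [show d = (x : G)⁻¹ * ((x : G) * d * (x : G)⁻¹) * x by group]
        exact mul_mem (mul_mem (inv_mem x.2) (hDS hd)) x.2
      exact mem_subgroupOf.1 ((mem_normalizer_iff.1 hx ⟨d, hdS⟩).2 (mem_subgroupOf.2 hd))
  · intro U hU hUN hinv
    rw [hsup]
    intro u hu
    haveI hUn : (U.subgroupOf N).Normal := ⟨fun a ha g => mem_subgroupOf.2 (by
      simpa using hinv g g.2 _ (mem_subgroupOf.1 ha))⟩
    haveI := hUn.map (QuotientGroup.mk' (pPrimeCore 2 N)) (QuotientGroup.mk'_surjective _)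
    exact ⟨⟨u, hUN hu⟩, (CfsgLib.Base.le_pCore
      ((hU.of_equiv (subgroupOfEquivOfLe hUN).symm).map _)
        (mem_map_of_mem _ (mem_subgroupOf.2 hu)) :
      QuotientGroup.mk' (pPrimeCore 2 N) ⟨u, hUN hu⟩ ∈ pCore 2 _), rfl⟩

/-- Fusion is controlled by `M`. -/
def Controls (S : Subgroup G) (M : Subgroup G) : Prop :=
  ∀ a ∈ S, ∀ g : G, g⁻¹ * a * g ∈ S → ∃ l ∈ M, g⁻¹ * a * g = l⁻¹ * a * l

theorem controls_of (S : Sylow 2 G) {M : Subgroup G}
    (h : ∀ D, IsFusionTarget S D → normalizer (D : Set G) ≤ M) : Controls (S : Subgroup G) M := by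
  haveI : Fact (Nat.Prime 2) := ⟨Nat.prime_two⟩
  intro a ha g hg
  obtain ⟨c, l, hcc, hl, rfl⟩ := agFact S (A := {a}) (g := g) (Set.singleton_subset_iff.2 ha)
    (by rintro b rfl; exact hg)
  have hlM : ∀ {A : Set G} {l : G}, AGChain S A l → l ∈ M := by
    intro A l hch
    induction hch with
    | nil A => exact one_mem _
    | cons D x hD hx _ _ ih => exact mul_mem (h D hD hx) ih
  refine ⟨l, hlM hl, ?_⟩
  have hca : a * c = c * a := mem_centralizer_iff.1 hcc a rfl
  calc (c * l)⁻¹ * a * (c * l) = l⁻¹ * c⁻¹ * (a * c) * l := by group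
    _ = l⁻¹ * a * l := by rw [hca]; group

/-- The three cases. -/
theorem local_cases (hc : Ctx G) (S : Sylow 2 G) :
    (∃ P₁ P₂ T q, Config (G := G) P₁ P₂ T q) ∨
      (∃ P, Loc P (S : Subgroup G) ∧ (normalizer ((S : Subgroup G) : Set G) ≤ normalizer (P : Set G)) ∧
        Controls (S : Subgroup G) (normalizer (P : Set G))) ∨
      Controls (S : Subgroup G) (normalizer ((S : Subgroup G) : Set G)) := by
  classical
  haveI : Fact (Nat.Prime 2) := ⟨Nat.prime_two⟩
  by_cases hconf : ∃ P₁ P₂ T q, Config (G := G) P₁ P₂ T q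
  · exact Or.inl hconf
  right
  have uniq : ∀ {P Q : Subgroup G}, Loc P (S : Subgroup G) → Loc Q (S : Subgroup G) → P = Q :=
    fun {P Q} hP hQ => by_contra fun hne => by
      obtain ⟨q, hq⟩ := pair hc hP hQ hne
      exact hconf ⟨P, Q, _, q, hq⟩
  have hfull : ∀ D, IsFusionTarget S D → D = (S : Subgroup G) ∨ Loc D (S : Subgroup G) := by
    intro D hD
    rcases hD.1.eq_or_lt with e | hlt
    · exact Or.inl e
    right
    have hl := loc_of_target hc S hD hlt
    by_contra hnot
    set T := (S : Subgroup G) ⊓ normalizer (D : Set G) with hT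
    have hTS : T < (S : Subgroup G) := lt_of_le_of_ne inf_le_left fun e => hnot (e ▸ hl)
    haveI := S.2.isNilpotent
    have h1 : T.subgroupOf S < ⊤ :=
      lt_top_iff_ne_top.2 fun e => hTS.not_ge (subgroupOf_eq_top.1 e)
    obtain ⟨u, hu, huT⟩ := SetLike.exists_of_lt (Group.normalizerCondition_of_isNilpotent _ h1)
    have hmap : T.map (MulAut.conj (u : G)).toMonoidHom = T := by
      refine eq_of_le_of_card_ge ?_ (Nat.le_of_eq (Nat.card_congr
        (equivMapOfInjective _ _ (MulAut.conj (u : G)).injective).toEquiv))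
      rintro _ ⟨a, ha, rfl⟩
      exact mem_subgroupOf.1 ((mem_normalizer_iff.1 hu ⟨a, hTS.le ha⟩).1 (mem_subgroupOf.2 ha))
    have hl' := hl.conj (u : G)
    rw [hmap] at hl'
    have hne : D ≠ D.map (MulAut.conj (u : G)).toMonoidHom := fun e =>
      huT (mem_subgroupOf.2 (mem_inf.2 ⟨u.2, mem_normalizer_iff_map_conj_eq.2 e.symm⟩))
    obtain ⟨q, hq⟩ := pair hc hl hl' hne
    exact hconf ⟨_, _, _, q, hq⟩
  by_cases hex : ∃ P, Loc P (S : Subgroup G)
  · obtain ⟨P, hP⟩ := hex
    have hNS : normalizer ((S : Subgroup G) : Set G) ≤ normalizer (P : Set G) := by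
      intro x hx
      have h' := hP.conj x
      have e : (S : Subgroup G).map (MulAut.conj x).toMonoidHom = S :=
        mem_normalizer_iff_map_conj_eq.1 hx
      rw [e] at h'
      exact mem_normalizer_iff_map_conj_eq.2 (uniq h' hP)
    refine Or.inl ⟨P, hP, hNS, controls_of S fun D hD => ?_⟩
    rcases hfull D hD with rfl | hl
    · exact hNS
    · rw [uniq hl hP]
  · refine Or.inr (controls_of S fun D hD => ?_)
    rcases hfull D hD with rfl | hl
    · exact le_rfl
    · exact absurd ⟨D, hl⟩ hex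

/-- Involution centralizers lie in the controlling subgroup. -/
theorem centralizer_le_of_controls (hc : Ctx G) (S : Sylow 2 G) {M : Subgroup G}
    (hctl : Controls (S : Subgroup G) M) {t : G} (htS : t ∈ (S : Subgroup G)) (ht : t ≠ 1)
    (ht4 : t ^ 4 = 1) : ∃ l ∈ M, centralizer ({t} : Set G) ≤
      (S : Subgroup G).map (MulAut.conj l).toMonoidHom := by
  haveI : Fact (Nat.Prime 2) := ⟨Nat.prime_two⟩
  obtain ⟨R, hR⟩ := (hc.five.isPGroup_centralizer_two ht ht4).exists_le_sylow
  obtain ⟨g, rfl⟩ := MulAction.exists_smul_eq G S R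
  have hmem : ∀ x ∈ centralizer ({t} : Set G), g⁻¹ * x * g ∈ (S : Subgroup G) := fun x hx => by
    have := hR hx
    rw [Sylow.coe_subgroup_smul, Subgroup.mem_pointwise_smul_iff_inv_smul_mem] at this
    simpa [← map_inv, MulAut.conj_apply] using this
  obtain ⟨l, hl, hlt⟩ := hctl t htS g (hmem t (mem_centralizer_singleton_iff.2 rfl))
  refine ⟨l, hl, fun x hx => ?_⟩
  -- `l g⁻¹` centralizes `t`, so it permutes the centralizer of `t`
  set c := g * l⁻¹ with hcdef
  have hc' : c * t = t * c := by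
    rw [hcdef]
    calc g * l⁻¹ * t = g * (l⁻¹ * t * l) * l⁻¹ := by group
      _ = g * (g⁻¹ * t * g) * l⁻¹ := by rw [hlt]
      _ = t * (g * l⁻¹) := by group
  have hxc : c * x * c⁻¹ ∈ centralizer ({t} : Set G) :=
    mul_mem (mul_mem (mem_centralizer_singleton_iff.2 hc') hx)
      (inv_mem (mem_centralizer_singleton_iff.2 hc'))
  refine ⟨g⁻¹ * (c * x * c⁻¹) * g, hmem _ hxc, ?_⟩
  simp [hcdef, mul_assoc]

theorem conj_into (S : Sylow 2 G) {M : Subgroup G} (hSM : (S : Subgroup G) ≤ M) {t : G}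
    (htM : t ∈ M) (ht : IsPGroup 2 (zpowers t)) : ∃ m ∈ M, m * t * m⁻¹ ∈ (S : Subgroup G) := by
  haveI : Fact (Nat.Prime 2) := ⟨Nat.prime_two⟩
  obtain ⟨R, hR⟩ := (ht.comap_subtype (K := M)).exists_le_sylow
  let S' : Sylow 2 M := S.subtype hSM
  obtain ⟨m, hm⟩ := MulAction.exists_smul_eq M R S'
  refine ⟨m, m.2, ?_⟩
  have h1 : (MulAut.conj m) ⟨t, htM⟩ ∈ (S' : Subgroup M) := by
    rw [← hm, Sylow.coe_subgroup_smul]
    exact Subgroup.smul_mem_pointwise_smul _ _ _ (hR (mem_subgroupOf.2 (mem_zpowers t)))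
  exact h1

/-- A unique two-local subgroup would be strongly embedded. -/
theorem false_of_unique (hc : Ctx G) (S : Sylow 2 G) {P : Subgroup G}
    (hP : Loc P (S : Subgroup G))
    (hctl : Controls (S : Subgroup G) (normalizer (P : Set G))) : False := by
  haveI : Fact (Nat.Prime 2) := ⟨Nat.prime_two⟩
  haveI := hc.simple
  set M := normalizer (P : Set G)
  have h2 : ∀ {t : G}, orderOf t = 2 → t ≠ 1 ∧ t * t = 1 ∧ IsPGroup 2 (zpowers t) :=
    fun {t} ht => ⟨fun e => by rw [e, orderOf_one] at ht; omega,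
      by rw [← pow_two, ← ht, pow_orderOf_eq_one],
      IsPGroup.of_card (n := 1) (by rw [Nat.card_zpowers, ht, pow_one])⟩
  have hCM : ∀ t ∈ M, orderOf t = 2 → centralizer ({t} : Set G) ≤ M := by
    intro t htM ht
    obtain ⟨m, hm, hmS⟩ := conj_into S hP.leN htM (h2 ht).2.2
    obtain ⟨l, hl, hle⟩ := centralizer_le_of_controls hc S hctl hmS
      (fun e => (h2 ht).1 (by simpa [mul_assoc] using congrArg (fun z => m⁻¹ * z * m) e))
      (hc.five.pow_four S.2 hmS)
    intro x hx
    have hx' : m * x * m⁻¹ ∈ centralizer ({m * t * m⁻¹} : Set G) :=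
      mem_centralizer_singleton_iff.2 (by
        have := mem_centralizer_singleton_iff.1 hx
        calc m * x * m⁻¹ * (m * t * m⁻¹) = m * (x * t) * m⁻¹ := by group
          _ = m * (t * x) * m⁻¹ := by rw [this]
          _ = _ := by group)
    obtain ⟨a, ha, hae⟩ := hle hx'
    have : m * x * m⁻¹ ∈ M := by
      rw [← hae]
      exact mul_mem (mul_mem hl (hP.leN ha)) (inv_mem hl)
    simpa [mul_assoc] using mul_mem (mul_mem (inv_mem hm) this) hm
  -- an involution outside
  obtain ⟨u, hu, huM⟩ : ∃ u : G, orderOf u = 2 ∧ u ∉ M := by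
    by_contra hall
    push Not at hall
    set K := normalClosure {u : G | orderOf u = 2}
    have hsub : K ≤ M := by
      refine closure_le _ |>.2 fun x hx => ?_
      obtain ⟨u, hu, hxu⟩ := Group.mem_conjugatesOfSet_iff.1 hx
      obtain ⟨g, rfl⟩ := isConj_iff.1 hxu
      exact hall _ ((orderOf_injective (MulAut.conj g).toMonoidHom (MulAut.conj g).injective u).trans hu)
    rcases (inferInstance : K.Normal).eq_bot_or_eq_top with hb | ht
    · obtain ⟨u, hu⟩ := exists_prime_orderOf_dvd_card' (G := G) 2 (hc.five.dvd_of_not_solvable hc.ns).1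
      exact (h2 hu).1 (mem_bot.1 (hb ▸ subset_normalClosure hu))
    · exact hP.normalizer_ne hc (eq_top_iff.2 (ht ▸ hsub))
  have hconj : ∀ t ∈ M, orderOf t = 2 → IsConj t u := by
    intro t htM ht
    obtain ⟨ht1, htt, -⟩ := h2 ht
    obtain ⟨-, huu, -⟩ := h2 hu
    have hout : ∀ w ∈ M, orderOf w = 2 → u * w ≠ w * u := fun w hw hwo e =>
      huM (hCM w hw hwo (mem_centralizer_singleton_iff.2 e))
    have hti : t⁻¹ = t := inv_eq_of_mul_eq_one_left htt
    have hui : u⁻¹ = u := inv_eq_of_mul_eq_one_left huu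
    have hinv : (t * u)⁻¹ = u * t := by rw [mul_inv_rev, hti, hui]
    have hp := pow_orderOf_eq_one (t * u)
    rcases hc.five.order_cases (t * u) with e | e | e | e | e <;> rw [e] at hp
    · rw [pow_one, mul_eq_one_iff_eq_inv, hui] at hp
      exact absurd htM (hp ▸ huM)
    · refine absurd ?_ (hout t htM ht)
      rw [← hinv, eq_comm, eq_inv_iff_mul_eq_one, ← pow_two]
      exact hp
    · refine isConj_iff.2 ⟨t * u, ?_⟩
      rw [hinv, ← hui]
      refine eq_inv_of_mul_eq_one_left ?_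
      rw [← hp]
      simp [pow_succ, mul_assoc, hui]
    · exfalso
      set w := (t * u) * (t * u) with hw
      have hwo : orderOf w = 2 := by rw [hw, ← pow_two, orderOf_pow, e]; rfl
      have hwi : w⁻¹ = w := inv_eq_of_mul_eq_one_left (h2 hwo).2.1
      have hwt : w * t = t * w := by
        nth_rewrite 1 [← hwi]
        rw [hw, mul_inv_rev, hinv]
        simp [mul_assoc, htt]
        rw [← mul_assoc t t, htt, one_mul]
      have hwu : u * w = w * u := by
        nth_rewrite 1 [← hwi]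
        rw [hw, mul_inv_rev, hinv]
        simp only [← mul_assoc, huu, one_mul]
        simp [mul_assoc, huu]
      exact hout w (hCM t htM ht (mem_centralizer_singleton_iff.2 hwt)) hwo hwu
    · refine isConj_iff.2 ⟨t * u * (t * u), ?_⟩
      rw [mul_inv_rev, hinv, ← hui]
      refine eq_inv_of_mul_eq_one_left ?_
      rw [← hp]
      simp [pow_succ, mul_assoc, hui]
  -- two kinds of involutions
  obtain ⟨-, -, -, t', ht'M, ht', ht'P⟩ := hP.facts hc
  obtain ⟨v, hv, hv1⟩ := (bot_or_exists_ne_one _).resolve_left (cenInv_ne_bot hP.twoP hP.ne)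
  have hvo : orderOf v = 2 := orderOf_eq_prime (by rw [pow_two, hv.2.1]) hv1
  have hvM : v ∈ M := le_normalizer hv.1
  obtain ⟨m, hm, hmS⟩ := conj_into S hP.leN ht'M (h2 ht').2.2
  obtain ⟨g, hg⟩ := isConj_iff.1 ((hconj v hvM hvo).trans (hconj t' ht'M ht').symm)
  obtain ⟨l, hl, hle⟩ := hctl v (hP.lt.le hv.1) (m * g)⁻¹ (by
    rw [inv_inv, show m * g * v * (m * g)⁻¹ = m * (g * v * g⁻¹) * m⁻¹ by group, hg]
    exact hmS)
  rw [inv_inv, show m * g * v * (m * g)⁻¹ = m * (g * v * g⁻¹) * m⁻¹ by group, hg] at hle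
  have hPl : l⁻¹ * v * l ∈ P := by
    simpa using (mem_normalizer_iff.1 (inv_mem hl) v).1 hv.1
  rw [← hle] at hPl
  exact ht'P ((mem_normalizer_iff.1 hm t').2 hPl)

end CfsgLib.Recog.OrdersFive
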