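import Cfsg.Agent.Lib.Recog.OrdersFive.Local

/-!
# Finite groups whose elements have order at most five: two-local pairs
-/

set_option autoImplicit false
set_option linter.unusedSectionVars false
set_option linter.style.haveILetI false

namespace CfsgLib.Recog.OrdersFive

open Subgroup Cfsg

variable {G : Type*} [Group G] [Finite G]

theorem LeFive.isPGroup_centralizer_two (h : LeFive G) {e : G} (he : e ≠ 1) (h4 : e ^ 4 = 1) :
    IsPGroup 2 (centralizer ({e} : Set G)) := by
  haveI : Fact (Nat.Prime 2) := ⟨Nat.prime_two⟩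
  rcases eq_or_ne (e ^ 2) 1 with h2 | h2
  · exact h.isPGroup_centralizer (_root_.orderOf_eq_prime h2 he)
  · refine (h.isPGroup_centralizer (x := e ^ 2)
      (_root_.orderOf_eq_prime (by rw [← pow_mul]; exact h4) h2)).to_le fun g hg => ?_
    rw [mem_centralizer_singleton_iff] at hg ⊢
    exact (Commute.pow_right hg 2).eq

/-- A two-local subgroup with proper two-core, and a Sylow subgroup of it. -/
structure Loc (P T : Subgroup G) : Prop where
  lt : P < T
  twoT : IsPGroup 2 T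
  ne : P ≠ ⊥
  cent : centralizer (P : Set G) ≤ P
  leN : T ≤ normalizer (P : Set G)
  syl : ¬ 2 ∣ T.relIndex (normalizer (P : Set G))
  core : ∀ U : Subgroup G, IsPGroup 2 U → U ≤ normalizer (P : Set G) →
    (∀ g ∈ normalizer (P : Set G), ∀ u ∈ U, g * u * g⁻¹ ∈ U) → U ≤ P

/-- The hypotheses on a simple group. -/
structure Ctx (G : Type*) [Group G] : Prop where
  five : LeFive G
  six : ∀ K : Subgroup G, K ≠ ⊤ → Six K
  simple : IsSimpleGroup G
  ns : ¬ Group.IsSolvable G
  nine : 9 ∣ Nat.card G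

/-- The commutator in the convention used below. -/
def D (t d : G) : G := d * t * d⁻¹ * t⁻¹

theorem D_eq_one_iff {t d : G} : D t d = 1 ↔ d * t = t * d := by
  unfold D
  rw [mul_inv_eq_one, mul_inv_eq_iff_eq_mul]

theorem D_conj (y t d : G) : y * D t d * y⁻¹ = D (y * t * y⁻¹) (y * d * y⁻¹) := by
  unfold D; group

/-- The involutions in the centre of `P`. -/
def cenInv (P : Subgroup G) : Subgroup G where
  carrier := {v | v ∈ P ∧ v * v = 1 ∧ ∀ d ∈ P, d * v = v * d}
  one_mem' := ⟨one_mem _, mul_one 1, fun d _ => by simp⟩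
  mul_mem' := by
    rintro a b ⟨ha, ha2, hac⟩ ⟨hb, hb2, hbc⟩
    refine ⟨mul_mem ha hb, ?_, fun d hd => ?_⟩
    · rw [show a * b * (a * b) = a * (b * a) * b by group, hac b hb,
        show a * (a * b) * b = a * a * (b * b) by group, ha2, hb2, mul_one]
    · rw [← mul_assoc, hac d hd, mul_assoc, hbc d hd, mul_assoc]
  inv_mem' := by
    rintro a ⟨ha, ha2, hac⟩
    have : a⁻¹ = a := inv_eq_of_mul_eq_one_left ha2
    exact this.symm ▸ ⟨ha, ha2, hac⟩

theorem mem_cenInv {P : Subgroup G} {v : G} :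
    v ∈ cenInv P ↔ v ∈ P ∧ v * v = 1 ∧ ∀ d ∈ P, d * v = v * d := Iff.rfl

theorem cenInv_le (P : Subgroup G) : cenInv P ≤ P := fun _ h => h.1

theorem cenInv_ne_bot {P : Subgroup G} (hP : IsPGroup 2 P) (hne : P ≠ ⊥) : cenInv P ≠ ⊥ := by
  haveI : Fact (Nat.Prime 2) := ⟨Nat.prime_two⟩
  haveI : Nontrivial P := (nontrivial_iff_ne_bot P).2 hne
  haveI := hP.center_nontrivial
  have hd : 2 ∣ Nat.card (center P) := by
    obtain ⟨n, hn⟩ := IsPGroup.iff_card.1 (hP.to_subgroup (center P))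
    rw [hn]
    refine dvd_pow_self 2 ?_
    rintro rfl
    have := (Finite.one_lt_card : 1 < Nat.card (center P))
    omega
  obtain ⟨z, hz⟩ := exists_prime_orderOf_dvd_card' (G := center P) 2 hd
  intro hb
  have hz2 : z * z = 1 := by rw [← pow_two, ← hz, pow_orderOf_eq_one]
  have : ((z : P) : G) ∈ cenInv P :=
    ⟨(z : P).2, by simpa using congrArg (fun w : center P => ((w : P) : G)) hz2,
      fun d hd => congrArg Subtype.val (mem_center_iff.1 z.2 ⟨d, hd⟩)⟩
  rw [hb, Subgroup.mem_bot] at this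
  rw [show z = 1 from Subtype.ext (Subtype.ext this), orderOf_one] at hz
  omega

theorem cenInv_conj {P : Subgroup G} {g v : G} (hg : g ∈ normalizer (P : Set G))
    (hv : v ∈ cenInv P) : g * v * g⁻¹ ∈ cenInv P := by
  refine ⟨(mem_normalizer_iff.1 hg v).1 hv.1, ?_, fun d hd => ?_⟩
  · rw [show g * v * g⁻¹ * (g * v * g⁻¹) = g * (v * v) * g⁻¹ by group, hv.2.1, mul_one,
      mul_inv_cancel]
  · have hd' : g⁻¹ * d * g ∈ P := by
      simpa using (mem_normalizer_iff.1 (inv_mem hg) d).1 hd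
    calc d * (g * v * g⁻¹) = g * ((g⁻¹ * d * g) * v) * g⁻¹ := by group
      _ = g * (v * (g⁻¹ * d * g)) * g⁻¹ := by rw [hv.2.2 _ hd']
      _ = g * v * g⁻¹ * d := by group

namespace Loc

variable {P T : Subgroup G} (hl : Loc P T)
include hl

theorem twoP : IsPGroup 2 P := hl.twoT.to_le hl.lt.le

theorem normalizer_ne (hc : Ctx G) : normalizer (P : Set G) ≠ ⊤ := fun e => by
  haveI := normalizer_eq_top_iff.1 e
  haveI := hc.simple
  rcases (inferInstance : P.Normal).eq_bot_or_eq_top with hb | ht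
  · exact hl.ne hb
  · exact hl.lt.not_ge (ht.symm ▸ le_top)

theorem eq_of_le {U : Subgroup G} (hU : IsPGroup 2 U) (hle : T ≤ U)
    (hUN : U ≤ normalizer (P : Set G)) : U = T := by
  haveI : Fact (Nat.Prime 2) := ⟨Nat.prime_two⟩
  have h1 : T.relIndex U ∣ T.relIndex (normalizer (P : Set G)) :=
    ⟨_, (relIndex_mul_relIndex T U _ hle hUN).symm⟩
  obtain ⟨n, hn⟩ := hU.index (T.subgroupOf U)
  have : T.relIndex U = 1 := by
    rcases Nat.eq_zero_or_pos n with rfl | hn0
    · simpa [relIndex] using hn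
    · exact absurd ((show 2 ∣ T.relIndex U by
        rw [relIndex, hn]; exact dvd_pow_self 2 hn0.ne').trans h1) hl.syl
  exact le_antisymm (relIndex_eq_one.1 this) hle

theorem conj (u : G) :
    Loc (P.map (MulAut.conj u).toMonoidHom) (T.map (MulAut.conj u).toMonoidHom) := by
  have hN : normalizer ((P.map (MulAut.conj u).toMonoidHom : Subgroup G) : Set G) =
      (normalizer (P : Set G)).map (MulAut.conj u).toMonoidHom :=
    (map_normalizer_eq_of_bijective P (MulAut.conj u).bijective).symm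
  refine ⟨?_, hl.twoT.map _, ?_, ?_, ?_, ?_, ?_⟩
  · exact map_lt_map_iff_of_injective (MulAut.conj u).injective |>.2 hl.lt
  · exact fun e => hl.ne ((map_eq_bot_iff_of_injective _ (MulAut.conj u).injective).1 e)
  · intro x hx
    refine ⟨u⁻¹ * x * u, hl.cent (mem_centralizer_iff.2 fun d hd => ?_), by simp [mul_assoc]⟩
    have := mem_centralizer_iff.1 hx (u * d * u⁻¹) ⟨d, hd, by simp⟩
    calc d * (u⁻¹ * x * u) = u⁻¹ * ((u * d * u⁻¹) * x) * u := by group
      _ = u⁻¹ * (x * (u * d * u⁻¹)) * u := by rw [this]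
      _ = u⁻¹ * x * u * d := by group
  · rw [hN]; exact map_mono hl.leN
  · rw [hN, relIndex_map_map_of_injective _ _ (f := (MulAut.conj u).toMonoidHom)
      (MulAut.conj u).injective]
    exact hl.syl
  · intro U hU hUN hinv
    rw [hN] at hUN hinv
    have hcom : U.comap (MulAut.conj u).toMonoidHom ≤ P := by
      refine hl.core _ (hU.comap_of_injective _ (MulAut.conj u).injective) ?_ ?_
      · intro x hx
        obtain ⟨y, hy, hyx⟩ := hUN hx
        rwa [← (MulAut.conj u).injective hyx]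
      · intro g hg x hx
        rw [mem_comap, map_mul, map_mul, map_inv]
        exact hinv _ (mem_map_of_mem _ hg) _ hx
    intro x hx
    refine ⟨u⁻¹ * x * u, hcom ?_, by simp [mul_assoc]⟩
    simpa [mem_comap, mul_assoc] using hx

theorem core_eq : pCore 2 (normalizer (P : Set G)) = P.subgroupOf (normalizer (P : Set G)) := by
  set N := normalizer (P : Set G)
  refine le_antisymm ?_ ?_
  · intro x hx
    refine hl.core ((pCore 2 N).map N.subtype) ((CfsgLib.Base.isPGroup_pCore 2 N).map _)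
      (map_subtype_le _) ?_ ⟨x, hx, rfl⟩
    rintro g hg _ ⟨v, hv, rfl⟩
    exact ⟨⟨g, hg⟩ * v * ⟨g, hg⟩⁻¹, (pCore_normal 2 N).conj_mem _ hv ⟨g, hg⟩, rfl⟩
  · haveI : (P.subgroupOf N).Normal := normal_in_normalizer
    exact CfsgLib.Base.le_pCore (hl.twoP.of_equiv (subgroupOfEquivOfLe le_normalizer).symm)

theorem facts (hc : Ctx G) :
    (Nat.card T = 2 * Nat.card P ∨
        Nat.card T = 4 * Nat.card P ∧ ∃ y ∈ normalizer (P : Set G), orderOf y = 5) ∧
      (∃ p, (p = 3 ∨ p = 5) ∧ ∃ y ∈ normalizer (P : Set G), orderOf y = p) ∧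
      ((∃ g ∈ T, ∀ x ∈ T, ∃ n : ℤ, g ^ n * x ∈ P) ∨
        ∃ y ∈ normalizer (P : Set G), orderOf y = 3 ∧ ∃ a ∈ T, y * a * y⁻¹ ∉ T) ∧
      ∃ t ∈ normalizer (P : Set G), orderOf t = 2 ∧ t ∉ P := by
  haveI : Fact (Nat.Prime 2) := ⟨Nat.prime_two⟩
  set N := normalizer (P : Set G) with hN
  let T' : Sylow 2 N :=
    (hl.twoT.of_equiv (subgroupOfEquivOfLe hl.leN).symm).toSylow hl.syl
  have hT' : (T' : Subgroup N) = T.subgroupOf N := rfl
  have hQ := hl.core_eq
  have hne : pCore 2 N ≠ ⊥ := by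
    rw [hQ, Ne, subgroupOf_eq_bot, disjoint_iff, inf_eq_left.2 le_normalizer]
    exact hl.ne
  have hlt : pCore 2 N < T' := by
    rw [hQ, hT']
    refine lt_of_le_of_ne (fun x hx => hl.lt.le hx) fun e => hl.lt.ne ?_
    have := congrArg (Subgroup.map N.subtype) e
    rwa [subgroupOf_map_subtype, subgroupOf_map_subtype, inf_eq_left.2 le_normalizer,
      inf_eq_left.2 hl.leN] at this
  obtain ⟨h1, ⟨p, hp, y, hy⟩, h3, t, ht, htP⟩ :=
    local_facts (hc.five.subgroup N) (hc.six N (hl.normalizer_ne hc)) hne T' hlt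
  have hcT : Nat.card T' = Nat.card T := Nat.card_congr (subgroupOfEquivOfLe hl.leN).toEquiv
  have hcP : Nat.card (pCore 2 N) = Nat.card P := by
    rw [hQ]; exact Nat.card_congr (subgroupOfEquivOfLe le_normalizer).toEquiv
  refine ⟨?_, ⟨p, hp, y, y.2, by rw [Subgroup.orderOf_coe, hy]⟩, ?_,
    t, t.2, by rw [Subgroup.orderOf_coe, ht], fun h => htP (hQ ▸ (mem_subgroupOf.2 h))⟩
  · rw [hcT, hcP] at h1
    rcases h1 with h | ⟨h, y, hy⟩
    · exact Or.inl h
    · exact Or.inr ⟨h, y, y.2, by rw [Subgroup.orderOf_coe, hy]⟩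
  · rcases h3 with ⟨g, hg, hgen⟩ | ⟨y, hy, hyT⟩
    · refine Or.inl ⟨g, hg, fun x hx => ?_⟩
      obtain ⟨n, hn⟩ := hgen ⟨x, hl.leN hx⟩ hx
      rw [hQ, mem_subgroupOf] at hn
      exact ⟨n, by simpa using hn⟩
    · refine Or.inr ⟨y, y.2, by rw [Subgroup.orderOf_coe, hy], ?_⟩
      by_contra hall
      push Not at hall
      refine hyT ?_
      rw [mem_normalizer_iff_map_conj_eq]
      refine eq_of_le_of_card_ge ?_ (Nat.le_of_eq (Nat.card_congr
        (equivMapOfInjective _ _ (MulAut.conj y).injective).toEquiv))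
      rintro _ ⟨a, ha, rfl⟩
      exact hall a ha

theorem pow_four (hc : Ctx G) {x : G} (hx : x ∈ T) : x ^ 4 = 1 := hc.five.pow_four hl.twoT hx

theorem not_commute (hc : Ctx G) {p : ℕ} [hp : Fact p.Prime] (hp2 : p ≠ 2) {y : G}
    (hy : orderOf y = p) {w : G} (hw : w ∈ T) (h : y * w = w * y) : w = 1 := by
  refine (hc.five.coprime_commute (a := y) (b := w) h ?_).resolve_left ?_
  · rw [hy]
    refine Nat.Coprime.coprime_dvd_right (orderOf_dvd_of_pow_eq_one (hl.pow_four hc hw)) ?_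
    exact Nat.Coprime.pow_right 2 ((Nat.coprime_primes hp.out Nat.prime_two).2 hp2)
  · rintro rfl
    rw [orderOf_one] at hy
    exact hp.out.ne_one hy.symm

/-- Conjugation by an odd element moves `d` by every element of the core. -/
theorem exists_diff (hc : Ctx G) {p : ℕ} [hp : Fact p.Prime] (hp2 : p ≠ 2) {y : G}
    (hy : orderOf y = p) (hyN : y ∈ normalizer (P : Set G)) {w : G} (hw : w ∈ P) :
    ∃ d ∈ P, d⁻¹ * (y⁻¹ * d * y) = w := by
  let f : P → P := fun d => ⟨(d : G)⁻¹ * (y⁻¹ * d * y), mul_mem (inv_mem d.2) (by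
    simpa using (mem_normalizer_iff.1 (inv_mem hyN) (d : G)).1 d.2)⟩
  have hf : Function.Injective f := by
    intro a b hab
    have he : (a : G)⁻¹ * (y⁻¹ * a * y) = (b : G)⁻¹ * (y⁻¹ * b * y) := congrArg Subtype.val hab
    refine Subtype.ext (mul_inv_eq_one.1 (hl.not_commute hc hp2 hy
      (hl.lt.le (mul_mem a.2 (inv_mem b.2))) ?_))
    calc y * ((a : G) * (b : G)⁻¹)
        = y * (a * ((a : G)⁻¹ * (y⁻¹ * a * y))) * (y⁻¹ * (b : G)⁻¹ * y) := by
          rw [he]; group
      _ = (a : G) * (b : G)⁻¹ * y := by group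
  obtain ⟨d, hd⟩ := Finite.injective_iff_surjective.1 hf ⟨w, hw⟩
  exact ⟨d, d.2, congrArg Subtype.val hd⟩

/-- The product of the conjugates of an element of the core under an odd element is trivial. -/
theorem mul_pow_eq_one (hc : Ctx G) {p : ℕ} [hp : Fact p.Prime] (hp35 : p = 3 ∨ p = 5) {y : G}
    (hy : orderOf y = p) (hyN : y ∈ normalizer (P : Set G)) {t : G} (ht : t ∈ P) :
    (t * y) ^ p = 1 := by
  set N := normalizer (P : Set G)
  haveI : (P.subgroupOf N).Normal := normal_in_normalizer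
  set π := QuotientGroup.mk' (P.subgroupOf N)
  have htN : t ∈ N := le_normalizer ht
  have hny : π ⟨y, hyN⟩ ≠ 1 := fun e => by
    have hyP : y ∈ P := (QuotientGroup.eq_one_iff (⟨y, hyN⟩ : N)).1 e
    have := hl.not_commute hc (p := p) (by omega) hy (hl.lt.le hyP) rfl
    rw [this, orderOf_one] at hy
    exact hp.out.ne_one hy.symm
  have heq : π ⟨t * y, mul_mem htN hyN⟩ = π ⟨y, hyN⟩ := by
    have h1 : π ⟨t, htN⟩ = 1 := (QuotientGroup.eq_one_iff (⟨t, htN⟩ : N)).2 ht
    rw [show (⟨t * y, mul_mem htN hyN⟩ : N) = ⟨t, htN⟩ * ⟨y, hyN⟩ from rfl, map_mul, h1, one_mul]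
  have hord : orderOf (π ⟨y, hyN⟩) = p := by
    refine orderOf_eq_prime ?_ hny
    rw [← map_pow, show (⟨y, hyN⟩ : N) ^ p = 1 from Subtype.ext (by simp [← hy, pow_orderOf_eq_one]),
      map_one]
  have hd : p ∣ orderOf (t * y) := by
    have h1 := orderOf_map_dvd π (⟨t * y, mul_mem htN hyN⟩ : N)
    rwa [heq, hord, Subgroup.orderOf_mk] at h1
  have := hc.five (t * y)
  have hpos := orderOf_pos (t * y)
  obtain ⟨k, hk⟩ := hd
  have : k = 1 := by
    rcases k with _ | _ | k
    · omega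
    · rfl
    · rcases hp35 with rfl | rfl <;> omega
  rw [show p = orderOf (t * y) by rw [hk, this, mul_one]]
  exact pow_orderOf_eq_one _

end Loc

end CfsgLib.Recog.OrdersFive
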