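import Cfsg.Agent.Lib.Recog.OrdersFive.Commuting
import Cfsg.Agent.Lib.Involutions.BaerSuzuki
import Cfsg.Agent.S0206

/-!
# Two two-local subgroups with a common Sylow subgroup: the dihedral and order `64` configurations
-/

set_option autoImplicit false
set_option linter.unusedSectionVars false
set_option linter.style.haveILetI false

namespace CfsgLib.Recog.OrdersFive

open Subgroup Cfsg

variable {G : Type*} [Group G] [Finite G] {P P₁ P₂ T : Subgroup G}

theorem card_inf_mul_relIndex (A B : Subgroup G) :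
    Nat.card (A ⊓ B : Subgroup G) * A.relIndex B = Nat.card B := by
  rw [← relIndex_bot_left, ← relIndex_bot_left B, ← inf_relIndex_right A B]
  exact relIndex_mul_relIndex ⊥ (A ⊓ B) B bot_le inf_le_right

theorem card_mul_relIndex {A B : Subgroup G} (h : A ≤ B) :
    Nat.card A * A.relIndex B = Nat.card B := by
  rw [← relIndex_bot_left, ← relIndex_bot_left B]
  exact relIndex_mul_relIndex ⊥ A B bot_le h

/-- An odd normalizing element makes the order of a `2`-subgroup congruent to one. -/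
theorem dvd_card_sub_one (h : LeFive G) {W : Subgroup G} (hW : IsPGroup 2 W) {p : ℕ}
    [hp : Fact p.Prime] (hp2 : p ≠ 2) {y : G} (hy : orderOf y = p)
    (hyW : y ∈ normalizer (W : Set G)) : p ∣ Nat.card W - 1 := by
  haveI : Fact (Nat.Prime 2) := ⟨Nat.prime_two⟩
  have hY : IsPGroup p (zpowers y) := IsPGroup.of_card (n := 1) (by rw [Nat.card_zpowers, hy, pow_one])
  have := (h.isFPF_pGroup hp2 hY hW (zpowers_le.2 hyW)).card_dvd
  rwa [Nat.card_zpowers, hy] at this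

theorem Loc.card_le_sq (hl : Loc P T) (hc : Ctx G) {v : G} (hv : v * v = 1)
    (hvN : v ∈ normalizer (P : Set G)) (hvP : v ∉ P) :
    Nat.card P ≤ (centralizer ({v} : Set G)).relIndex P ^ 2 := by
  classical
  haveI : Fact (Nat.Prime 2) := ⟨Nat.prime_two⟩
  set N := normalizer (P : Set G) with hN
  obtain ⟨l, hlN, hl2⟩ : ∃ l ∈ N, ¬ IsPGroup 2 (zpowers v ⊔ zpowers (l * v * l⁻¹) : Subgroup G) := by
    by_contra hall
    push Not at hall
    set X := (zpowers v).subgroupOf N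
    have hsub : ∀ g : N, IsPGroup 2 ↥(X ⊔ X.map (MulAut.conj g).toMonoidHom) := fun g => by
      have hmap : (X ⊔ X.map (MulAut.conj g).toMonoidHom).map N.subtype ≤
          zpowers v ⊔ zpowers ((g : G) * v * (g : G)⁻¹) := by
        rw [Subgroup.map_sup]
        refine sup_le_sup ?_ ?_
        · rintro _ ⟨a, ha, rfl⟩; exact ha
        · rintro _ ⟨_, ⟨a, ha, rfl⟩, rfl⟩
          obtain ⟨n, hn⟩ := mem_zpowers_iff.1 (mem_subgroupOf.1 ha)
          refine mem_zpowers_iff.2 ⟨n, ?_⟩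
          rw [conj_zpow, hn]
          simp
      exact ((hall g g.2).to_le hmap).of_equiv
        (equivMapOfInjective _ _ N.subtype_injective).symm
    obtain ⟨M, hM, hM2, hXM⟩ := CfsgLib.Involutions.baerSuzuki X hsub
    refine hvP (hl.core (M.map N.subtype) (hM2.map _) (map_subtype_le _) ?_
      ⟨⟨v, hvN⟩, hXM (mem_subgroupOf.2 (mem_zpowers v)), rfl⟩)
    rintro g hg _ ⟨u, hu, rfl⟩
    exact ⟨⟨g, hg⟩ * u * ⟨g, hg⟩⁻¹, hM.conj_mem _ hu ⟨g, hg⟩, rfl⟩
  set w := l * v * l⁻¹ with hw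
  set C := centralizer ({v} : Set G)
  set C' := centralizer ({w} : Set G)
  have hbot : C ⊓ C' ⊓ P = ⊥ := by
    rw [eq_bot_iff_forall]
    rintro e ⟨⟨hev, hew⟩, heP⟩
    by_contra he
    refine hl2 ((hc.five.isPGroup_centralizer_two he (hl.pow_four hc (hl.lt.le heP))).to_le
      (sup_le (zpowers_le.2 ?_) (zpowers_le.2 ?_)))
    · exact mem_centralizer_singleton_iff.2 (mem_centralizer_singleton_iff.1 hev).symm
    · exact mem_centralizer_singleton_iff.2 (mem_centralizer_singleton_iff.1 hew).symm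
  have hC' : C'.relIndex P = C.relIndex P := by
    have hP : P.map (MulAut.conj l).toMonoidHom = P := mem_normalizer_iff_map_conj_eq.1 hlN
    have hCm : C.map (MulAut.conj l).toMonoidHom = C' := by
      ext x
      constructor
      · rintro ⟨a, ha, rfl⟩
        rw [SetLike.mem_coe, mem_centralizer_singleton_iff] at ha
        refine mem_centralizer_singleton_iff.2 ?_
        show l * a * l⁻¹ * w = w * (l * a * l⁻¹)
        calc l * a * l⁻¹ * (l * v * l⁻¹) = l * (a * v) * l⁻¹ := by group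
          _ = l * (v * a) * l⁻¹ := by rw [ha]
          _ = _ := by rw [hw]; group
      · intro hx
        refine ⟨l⁻¹ * x * l, mem_centralizer_singleton_iff.2 ?_, by simp [mul_assoc]⟩
        have := mem_centralizer_singleton_iff.1 hx
        calc l⁻¹ * x * l * v = l⁻¹ * (x * w) * l := by rw [hw]; group
          _ = l⁻¹ * (w * x) * l := by rw [this]
          _ = v * (l⁻¹ * x * l) := by rw [hw]; group
    calc C'.relIndex P
        = (C.map (MulAut.conj l).toMonoidHom).relIndex (P.map (MulAut.conj l).toMonoidHom) := by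
          rw [hP, hCm]
      _ = C.relIndex P := relIndex_map_map_of_injective _ _ (MulAut.conj l).injective
  calc Nat.card P = (C ⊓ C').relIndex P := by
        rw [← inf_relIndex_right (C ⊓ C') P, hbot, relIndex_bot_left]
    _ ≤ C.relIndex P * C'.relIndex P := relIndex_inf_le
    _ = _ := by rw [hC', pow_two]

theorem Loc.relIndex_cases (hl : Loc P T) (hc : Ctx G) :
    P.relIndex T = 2 ∨ P.relIndex T = 4 ∧ ∃ y ∈ normalizer (P : Set G), orderOf y = 5 := by
  have h := card_mul_relIndex hl.lt.le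
  rcases (hl.facts hc).1 with e | ⟨e, hy⟩
  · exact Or.inl (mul_left_cancel₀ Nat.card_pos.ne' (h.trans (e.trans (mul_comm _ _))))
  · exact Or.inr ⟨mul_left_cancel₀ Nat.card_pos.ne' (h.trans (e.trans (mul_comm _ _))), hy⟩

/-- The configuration of two two-local subgroups sharing a Sylow subgroup. -/
structure Config (P₁ P₂ T : Subgroup G) (q : ℕ) : Prop where
  loc₁ : Loc P₁ T
  loc₂ : Loc P₂ T
  q_cases : q = 2 ∨ q = 4
  card₁ : Nat.card P₁ = q ^ 2
  card₂ : Nat.card P₂ = q ^ 2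
  cardT : Nat.card T = q ^ 3
  cardC : Nat.card (P₁ ⊓ P₂ : Subgroup G) = q
  exp₁ : ∀ x ∈ P₁, x * x = 1
  exp₂ : ∀ x ∈ P₂, x * x = 1
  comm₁ : ∀ a ∈ P₁, ∀ b ∈ P₁, a * b = b * a
  comm₂ : ∀ a ∈ P₂, ∀ b ∈ P₂, a * b = b * a
  prod : ∀ x ∈ T, ∃ a ∈ P₁, ∃ b ∈ P₂, x = a * b
  invol : ∀ x ∈ T, x * x = 1 → x ∈ P₁ ∨ x ∈ P₂
  maximal : ∀ U : Subgroup G, IsPGroup 2 U → T ≤ U → U = T

theorem Config.mem_of_union {q : ℕ} (hk : Config P₁ P₂ T q) {E : Subgroup G} (hE : E ≤ T)
    (hexp : ∀ x ∈ E, x * x = 1) (hcard : Nat.card E = q ^ 2) : E = P₁ ∨ E = P₂ := by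
  have hEsub : ∀ x ∈ E, x ∈ P₁ ∨ x ∈ P₂ := fun x hx => hk.invol x (hE hx) (hexp x hx)
  by_cases h : E ≤ P₁
  · exact Or.inl (eq_of_le_of_card_ge h (by rw [hcard, hk.card₁]))
  · refine Or.inr (eq_of_le_of_card_ge (fun x hx => ?_) (by rw [hcard, hk.card₂]))
    obtain ⟨z, hz, hz1⟩ := SetLike.not_le_iff_exists.1 h
    have hz2 := (hEsub z hz).resolve_left hz1
    rcases hEsub x hx with hx1 | hx2
    · rcases hEsub (x * z) (mul_mem hx hz) with h' | h'
      · exact absurd (by simpa using mul_mem (inv_mem hx1) h') hz1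
      · simpa using mul_mem h' (inv_mem hz2)
    · exact hx2

theorem maximal_of (hc : Ctx G) (h1 : Loc P₁ T) (h2 : Loc P₂ T) (hne : P₁ ≠ P₂) {q : ℕ}
    (hc1 : Nat.card P₁ = q ^ 2) (hc2 : Nat.card P₂ = q ^ 2) (he1 : ∀ x ∈ P₁, x * x = 1)
    (he2 : ∀ x ∈ P₂, x * x = 1) (hinv : ∀ x ∈ T, x * x = 1 → x ∈ P₁ ∨ x ∈ P₂)
    {U : Subgroup G} (hU : IsPGroup 2 U) (hle : T ≤ U) : U = T := by
  haveI : Fact (Nat.Prime 2) := ⟨Nat.prime_two⟩
  by_contra hUT
  -- an element of `U` normalising `T`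
  haveI := hU.isNilpotent
  have hlt : T.subgroupOf U < ⊤ := lt_top_iff_ne_top.2 fun e =>
    hUT (le_antisymm (subgroupOf_eq_top.1 e) hle)
  obtain ⟨u, hu, huT⟩ := SetLike.exists_of_lt (Group.normalizerCondition_of_isNilpotent _ hlt)
  rw [mem_subgroupOf] at huT
  have hconjT : ∀ a ∈ T, (u : G) * a * (u : G)⁻¹ ∈ T := fun a ha =>
    mem_subgroupOf.1 ((mem_normalizer_iff.1 hu ⟨a, hle ha⟩).1 (mem_subgroupOf.2 ha))
  -- an element of `U` normalising one of the two subgroups lies in `T`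
  have hmem : ∀ {Q : Subgroup G}, Loc Q T → ∀ g ∈ U, g ∈ normalizer (Q : Set G) → g ∈ T := by
    intro Q hQ g hgU hgN
    have := hQ.eq_of_le (U := U ⊓ normalizer (Q : Set G)) (hU.to_le inf_le_left)
      (le_inf hle hQ.leN) inf_le_right
    exact this ▸ mem_inf.2 ⟨hgU, hgN⟩
  -- the two subgroups are the only elementary ones of their order
  have hmap : ∀ {Q : Subgroup G}, Loc Q T → Nat.card Q = q ^ 2 → (∀ x ∈ Q, x * x = 1) →
      Q.map (MulAut.conj (u : G)).toMonoidHom ≠ Q ∧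
        (Q.map (MulAut.conj (u : G)).toMonoidHom = P₁ ∨
          Q.map (MulAut.conj (u : G)).toMonoidHom = P₂) := by
    intro Q hQ hcQ heQ
    refine ⟨fun e => huT (hmem hQ _ u.2 (mem_normalizer_iff_map_conj_eq.2 e)), ?_⟩
    set E := Q.map (MulAut.conj (u : G)).toMonoidHom
    have hET : E ≤ T := by rintro _ ⟨a, ha, rfl⟩; exact hconjT a (hQ.lt.le ha)
    have hexp : ∀ x ∈ E, x * x = 1 := by
      rintro _ ⟨a, ha, rfl⟩
      rw [← map_mul, heQ a ha, map_one]
    have hcard : Nat.card E = q ^ 2 :=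
      (Subgroup.card_map_of_injective (MulAut.conj (u : G)).injective).trans hcQ
    have hEsub : ∀ x ∈ E, x ∈ P₁ ∨ x ∈ P₂ := fun x hx => hinv x (hET hx) (hexp x hx)
    by_cases h : E ≤ P₁
    · exact Or.inl (eq_of_le_of_card_ge h (by rw [hcard, hc1]))
    · refine Or.inr (eq_of_le_of_card_ge (fun x hx => ?_) (by rw [hcard, hc2]))
      obtain ⟨z, hz, hz1⟩ := SetLike.not_le_iff_exists.1 h
      have hz2 := (hEsub z hz).resolve_left hz1
      rcases hEsub x hx with hx1 | hx2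
      · rcases hEsub (x * z) (mul_mem hx hz) with h' | h'
        · exact absurd (by simpa using mul_mem (inv_mem hx1) h') hz1
        · simpa using mul_mem h' (inv_mem hz2)
      · exact hx2
  have hswap1 : P₁.map (MulAut.conj (u : G)).toMonoidHom = P₂ :=
    (hmap h1 hc1 he1).2.resolve_left (hmap h1 hc1 he1).1
  have hswap2 : P₂.map (MulAut.conj (u : G)).toMonoidHom = P₁ :=
    (hmap h2 hc2 he2).2.resolve_right (hmap h2 hc2 he2).1
  have huuN : (u : G) * u ∈ normalizer (P₁ : Set G) := by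
    rw [mem_normalizer_iff_map_conj_eq]
    conv_rhs => rw [← hswap2, ← hswap1, Subgroup.map_map]
    congr 1
    ext x
    simp [mul_assoc]
  have huuT : (u : G) * u ∈ T := hmem h1 _ (mul_mem u.2 u.2) huuN
  have h4 : ∀ g ∈ U, g * g ∈ T → g * g ∈ P₁ ∨ g * g ∈ P₂ := fun g hg hgT =>
    hinv _ hgT (by
      rw [show g * g * (g * g) = g ^ 4 by simp only [pow_succ, pow_zero, one_mul, mul_assoc]]
      exact hc.five.pow_four hU hg)
  have huu : (u : G) * u ∈ P₁ ∧ (u : G) * u ∈ P₂ := by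
    have hfix : (MulAut.conj (u : G)).toMonoidHom ((u : G) * u) = (u : G) * u := by simp [mul_assoc]
    rcases h4 _ u.2 huuT with h | h
    · exact ⟨h, hswap1 ▸ ⟨_, h, hfix⟩⟩
    · exact ⟨hswap2 ▸ ⟨_, h, hfix⟩, h⟩
  obtain ⟨a, ha, ha2⟩ := SetLike.not_le_iff_exists.1 (show ¬ P₁ ≤ P₂ from fun h =>
    hne (eq_of_le_of_card_ge h (by rw [hc1, hc2])))
  set a' := (u : G) * a * (u : G)⁻¹ with ha'
  have ha'2 : a' ∈ P₂ := hswap1 ▸ ⟨a, ha, rfl⟩
  have ha'1 : a' ∉ P₁ := fun h => ha2 (by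
    rw [← hswap2] at h
    obtain ⟨b, hb, hbe⟩ := h
    exact ((MulAut.conj (u : G)).injective (show MulAut.conj (u : G) b = MulAut.conj (u : G) a from hbe)) ▸ hb)
  have hg : (a * (u : G)) * (a * u) = a * a' * ((u : G) * u) := by rw [ha']; group
  have hgT : (a * (u : G)) * (a * u) ∈ T := by
    rw [hg]
    exact mul_mem (mul_mem (h1.lt.le ha) (h2.lt.le ha'2)) huuT
  rcases h4 _ (mul_mem (hle (h1.lt.le ha)) u.2) hgT with h | h
  · rw [hg] at h
    refine ha'1 ?_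
    rw [show a' = a⁻¹ * (a * a' * ((u : G) * u) * ((u : G) * u)⁻¹) by group]
    exact mul_mem (inv_mem ha) (mul_mem h (inv_mem huu.1))
  · rw [hg] at h
    refine ha2 ?_
    rw [show a = a * a' * ((u : G) * u) * ((u : G) * u)⁻¹ * a'⁻¹ by group]
    exact mul_mem (mul_mem h (inv_mem huu.2)) (inv_mem ha'2)

/-- Two distinct two-local subgroups with a common Sylow subgroup. -/
theorem pair (hc : Ctx G) (h1 : Loc P₁ T) (h2 : Loc P₂ T) (hne : P₁ ≠ P₂) :
    ∃ q, Config P₁ P₂ T q := by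
  haveI : Fact (Nat.Prime 2) := ⟨Nat.prime_two⟩
  haveI : Fact (Nat.Prime 5) := ⟨by norm_num⟩
  -- neither centre lies in the other core
  have hiff : ∀ {A B : Subgroup G}, Loc A T → Loc B T → cenInv B ≤ A → cenInv A ≤ B := by
    intro A B hA hB hle v hv
    exact hB.centralizer_cenInv hc v (hB.leN (hA.lt.le hv.1)) fun w hw => (hv.2.2 w (hle hw)).symm
  have hn1 : ¬ cenInv P₁ ≤ P₂ := fun h => false_of_commuting hc h1 h2 hne h (hiff h2 h1 h)
  have hn2 : ¬ cenInv P₂ ≤ P₁ := fun h => hn1 (hiff h1 h2 h)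
  -- the bound
  have bound : ∀ {A B : Subgroup G}, Loc A T → Loc B T → ∀ v ∈ cenInv A, v ∉ B →
      Nat.card B ≤ (centralizer ({v} : Set G)).relIndex B ^ 2 ∧
        (centralizer ({v} : Set G)).relIndex B ≤ A.relIndex B ∧ A.relIndex B ≤ A.relIndex T := by
    intro A B hA hB v hv hvB
    refine ⟨hB.card_le_sq hc hv.2.1 (hB.leN (hA.lt.le hv.1)) hvB,
      relIndex_le_of_le_left (fun a ha => mem_centralizer_singleton_iff.2 (hv.2.2 a ha))
        Subgroup.index_ne_zero_of_finite, relIndex_le_of_le_right hB.lt.le Subgroup.index_ne_zero_of_finite⟩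
  obtain ⟨v₁, hv₁, hv₁'⟩ := SetLike.not_le_iff_exists.1 hn1
  obtain ⟨v₂, hv₂, hv₂'⟩ := SetLike.not_le_iff_exists.1 hn2
  -- small and divisible
  have small : ∀ {A B : Subgroup G}, Loc A T → Loc B T → (∃ v ∈ cenInv A, v ∉ B) →
      Nat.card B ≤ A.relIndex T ^ 2 := by
    intro A B hA hB ⟨v, hv, hvB⟩
    obtain ⟨b1, b2, b3⟩ := bound hA hB v hv hvB
    exact b1.trans (Nat.pow_le_pow_left (b2.trans b3) 2)
  have two_pow : ∀ {A : Subgroup G}, IsPGroup 2 A → ∀ n, Nat.card A ≤ 2 ^ n →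
      ∃ j ≤ n, Nat.card A = 2 ^ j := by
    intro A hA n hn
    obtain ⟨j, hj⟩ := IsPGroup.iff_card.1 hA
    exact ⟨j, (Nat.pow_le_pow_iff_right (by norm_num)).1 (hj ▸ hn), hj⟩
  have four : ∀ {A : Subgroup G}, Loc A T → Nat.card A ≤ 4 →
      ∀ W : Subgroup G, W ≤ A → W ≠ ⊥ → (∀ g ∈ normalizer (A : Set G), g ∈ normalizer (W : Set G)) →
      Nat.card W = 4 := by
    intro A hA h4 W hW hWne hWn
    obtain ⟨-, ⟨p, hp35, y, hyN, hy⟩, -⟩ := hA.facts hc
    haveI : Fact p.Prime := ⟨by rcases hp35 with rfl | rfl <;> norm_num⟩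
    have hd := dvd_card_sub_one hc.five (hA.twoP.to_le hW) (by omega) hy (hWn y hyN)
    obtain ⟨j, hj2, hj⟩ := two_pow (hA.twoP.to_le hW) 2 ((card_le_of_le hW).trans h4)
    have hne1 : Nat.card W ≠ 1 := fun e => hWne (card_eq_one.1 e)
    rw [hj] at hd hne1 ⊢
    interval_cases j <;> rcases hp35 with rfl | rfl <;> revert hd hne1 <;> norm_num
  have sixteen : ∀ {A : Subgroup G}, Loc A T → Nat.card A ≤ 16 →
      (∃ y ∈ normalizer (A : Set G), orderOf y = 5) →
      ∀ W : Subgroup G, W ≤ A → W ≠ ⊥ → (∀ g ∈ normalizer (A : Set G), g ∈ normalizer (W : Set G)) →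
      Nat.card W = 16 := by
    intro A hA h16 ⟨y, hyN, hy⟩ W hW hWne hWn
    have hd := dvd_card_sub_one hc.five (hA.twoP.to_le hW) (by norm_num) hy (hWn y hyN)
    obtain ⟨j, hj2, hj⟩ := two_pow (hA.twoP.to_le hW) 4 ((card_le_of_le hW).trans h16)
    have hne1 : Nat.card W ≠ 1 := fun e => hWne (card_eq_one.1 e)
    rw [hj] at hd hne1 ⊢
    interval_cases j <;> revert hd hne1 <;> norm_num
  have hVn : ∀ A : Subgroup G, ∀ g ∈ normalizer (A : Set G), g ∈ normalizer (cenInv A : Set G) := by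
    intro A g hg
    rw [mem_normalizer_iff_map_conj_eq]
    refine eq_of_le_of_card_ge ?_ (Nat.le_of_eq (Nat.card_congr
      (equivMapOfInjective _ _ (MulAut.conj g).injective).toEquiv))
    rintro _ ⟨a, ha, rfl⟩
    exact cenInv_conj hg ha
  have hcard1 := card_mul_relIndex h1.lt.le
  have hcard2 := card_mul_relIndex h2.lt.le
  have hs2 := small h1 h2 ⟨v₁, hv₁, hv₁'⟩
  have hs1 := small h2 h1 ⟨v₂, hv₂, hv₂'⟩
  have hne1' : cenInv P₁ ≠ ⊥ := cenInv_ne_bot h1.twoP h1.ne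
  have hne2' : cenInv P₂ ≠ ⊥ := cenInv_ne_bot h2.twoP h2.ne
  -- the order
  obtain ⟨q, hq, hq1, hq2, hc1, hc2, hV1, hV2⟩ : ∃ q, (q = 2 ∨ q = 4) ∧ P₁.relIndex T = q ∧
      P₂.relIndex T = q ∧ Nat.card P₁ = q ^ 2 ∧ Nat.card P₂ = q ^ 2 ∧
      Nat.card (cenInv P₁) = q ^ 2 ∧ Nat.card (cenInv P₂) = q ^ 2 := by
    rcases h1.relIndex_cases hc with e1 | ⟨e1, y1⟩
    · rw [e1] at hs2
      have k2 := four h2 hs2 P₂ le_rfl h2.ne fun _ h => h
      rcases h2.relIndex_cases hc with e2 | ⟨e2, y, hyN, hy⟩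
      · rw [e2] at hs1
        exact ⟨2, Or.inl rfl, e1, e2, four h1 hs1 P₁ le_rfl h1.ne (fun _ h => h), k2,
          four h1 hs1 _ (cenInv_le _) hne1' (hVn _), four h2 hs2 _ (cenInv_le _) hne2' (hVn _)⟩
      · have := dvd_card_sub_one hc.five h2.twoP (by norm_num) hy hyN
        rw [k2] at this
        norm_num at this
    · rcases h2.relIndex_cases hc with e2 | ⟨e2, y2⟩
      · rw [e2] at hs1
        obtain ⟨y, hyN, hy⟩ := y1
        have k1 := four h1 hs1 P₁ le_rfl h1.ne fun _ h => h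
        have := dvd_card_sub_one hc.five h1.twoP (by norm_num) hy hyN
        rw [k1] at this
        norm_num at this
      · rw [e1] at hs2
        rw [e2] at hs1
        exact ⟨4, Or.inr rfl, e1, e2, sixteen h1 hs1 y1 P₁ le_rfl h1.ne (fun _ h => h),
          sixteen h2 hs2 y2 P₂ le_rfl h2.ne (fun _ h => h),
          sixteen h1 hs1 y1 _ (cenInv_le _) hne1' (hVn _),
          sixteen h2 hs2 y2 _ (cenInv_le _) hne2' (hVn _)⟩
  have hVe1 : cenInv P₁ = P₁ := eq_of_le_of_card_ge (cenInv_le _) (by rw [hV1, hc1])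
  have hVe2 : cenInv P₂ = P₂ := eq_of_le_of_card_ge (cenInv_le _) (by rw [hV2, hc2])
  have he1 : ∀ x ∈ P₁, x * x = 1 := fun x hx => (hVe1.ge hx).2.1
  have he2 : ∀ x ∈ P₂, x * x = 1 := fun x hx => (hVe2.ge hx).2.1
  have hm1 : ∀ a ∈ P₁, ∀ b ∈ P₁, a * b = b * a := fun a ha b hb => (hVe1.ge hb).2.2 a ha
  have hm2 : ∀ a ∈ P₂, ∀ b ∈ P₂, a * b = b * a := fun a ha b hb => (hVe2.ge hb).2.2 a ha
  have hcT : Nat.card T = q ^ 3 := by rw [← hcard1, hc1, hq1]; ring
  -- the intersection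
  have hrel : P₁.relIndex P₂ = q ∧ ∀ v ∈ P₁, v ∉ P₂ → ∀ b ∈ P₂, b * v = v * b → b ∈ P₁ := by
    have hkey : ∀ v ∈ P₁, v ∉ P₂ → (centralizer ({v} : Set G)).relIndex P₂ = q ∧
        P₁.relIndex P₂ = q := by
      intro v hv hv'
      obtain ⟨b1, b2, b3⟩ := bound h1 h2 v (hVe1.ge hv) hv'
      rw [hc2] at b1
      rw [hq1] at b3
      have hle : q ≤ (centralizer ({v} : Set G)).relIndex P₂ :=
        (Nat.pow_le_pow_iff_left (by norm_num : 2 ≠ 0)).1 b1
      omega
    refine ⟨(hkey v₁ hv₁.1 hv₁').2, fun v hv hv' b hb hbv => ?_⟩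
    obtain ⟨k1, k2⟩ := hkey v hv hv'
    have hle : P₁ ⊓ P₂ ≤ centralizer ({v} : Set G) ⊓ P₂ := le_inf
      (fun a ha => mem_centralizer_singleton_iff.2 (hm1 a ha.1 v hv)) inf_le_right
    have hq0 : 0 < q := by omega
    have := eq_of_le_of_card_ge hle (Nat.le_of_eq (mul_right_cancel₀ hq0.ne' (by
      have i1 := card_inf_mul_relIndex (centralizer ({v} : Set G)) P₂
      have i2 := card_inf_mul_relIndex P₁ P₂
      rw [k1] at i1
      rw [k2] at i2
      exact i1.trans i2.symm)))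
    exact (this.ge (mem_inf.2 ⟨mem_centralizer_singleton_iff.2 hbv, hb⟩)).1
  have hC : Nat.card (P₁ ⊓ P₂ : Subgroup G) = q := by
    have := card_inf_mul_relIndex P₁ P₂
    rw [hrel.1, hc2, pow_two] at this
    exact mul_right_cancel₀ (by omega) this
  have hprod : ∀ x ∈ T, ∃ a ∈ P₁, ∃ b ∈ P₂, x = a * b := by
    intro x hx
    haveI : (P₁.subgroupOf T).Normal :=
      (normal_subgroupOf_iff_le_normalizer h1.lt.le).2 h1.leN
    have hsup : P₁.subgroupOf T ⊔ P₂.subgroupOf T = ⊤ := by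
      refine index_eq_one.1 ?_
      have i1 := relIndex_mul_index (le_sup_left : P₁.subgroupOf T ≤ P₁.subgroupOf T ⊔ P₂.subgroupOf T)
      rw [relIndex_sup_left, relIndex_subgroupOf h2.lt.le, hrel.1,
        show (P₁.subgroupOf T).index = q from hq1] at i1
      exact (mul_eq_left₀ (by omega)).1 i1
    have hmem : (⟨x, hx⟩ : T) ∈ ((P₁.subgroupOf T ⊔ P₂.subgroupOf T : Subgroup T) : Set T) :=
      hsup.ge (mem_top _)
    rw [normal_mul] at hmem
    obtain ⟨a, ha, b, hb, hab⟩ := hmem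
    exact ⟨a, ha, b, hb, (congrArg Subtype.val hab).symm⟩
  have hinv : ∀ x ∈ T, x * x = 1 → x ∈ P₁ ∨ x ∈ P₂ := by
    intro x hx hxx
    obtain ⟨a, ha, b, hb, rfl⟩ := hprod x hx
    by_cases ha2 : a ∈ P₂
    · exact Or.inr (mul_mem ha2 hb)
    · refine Or.inl (mul_mem ha (hrel.2 a ha ha2 b hb ?_))
      calc b * a = (a * a) * (b * a) * (b * b) := by rw [he1 a ha, he2 b hb]; group
        _ = a * (a * b * (a * b)) * b := by group
        _ = a * b := by rw [hxx, mul_one]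
  exact ⟨q, h1, h2, hq, hc1, hc2, hcT, hC, he1, he2, hm1, hm2, hprod, hinv,
    fun U hU hle => maximal_of hc h1 h2 hne hc1 hc2 he1 he2 hinv hU hle⟩

namespace Config

variable {q : ℕ}

theorem centralizer_eq (hk : Config P₁ P₂ T q) (hc : Ctx G) {z : G} (hz : z ∈ P₁ ⊓ P₂)
    (hz1 : z ≠ 1) : centralizer ({z} : Set G) = T := by
  refine hk.maximal _ (hc.five.isPGroup_centralizer_two hz1
    (hk.loc₁.pow_four hc (hk.loc₁.lt.le hz.1))) fun x hx => mem_centralizer_singleton_iff.2 ?_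
  obtain ⟨a, ha, b, hb, rfl⟩ := hk.prod x hx
  rw [mul_assoc, hk.comm₂ b hb z hz.2, ← mul_assoc, hk.comm₁ a ha z hz.1, mul_assoc]

/-- In the small configuration an involution has dihedral centralizer of order eight. -/
theorem dihedral (hk : Config P₁ P₂ T 2) (hc : Ctx G) :
    ∃ z : G, orderOf z = 2 ∧ Nonempty (centralizer ({z} : Set G) ≃* DihedralGroup 4) := by
  haveI : Fact (Nat.Prime 2) := ⟨Nat.prime_two⟩
  obtain ⟨z, hz⟩ := exists_prime_orderOf_dvd_card' (G := (P₁ ⊓ P₂ : Subgroup G)) 2 hk.cardC.symm.dvd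
  have hzo : orderOf (z : G) = 2 := by rw [orderOf_coe, hz]
  have hz1 : (z : G) ≠ 1 := fun e => by rw [e, orderOf_one] at hzo; omega
  have hne : P₁ ≠ P₂ := fun e => by
    have := hk.cardC; rw [e, inf_idem, hk.card₂] at this; norm_num at this
  obtain ⟨a, ha, ha2⟩ := SetLike.not_le_iff_exists.1 (show ¬ P₁ ≤ P₂ from fun h =>
    hne (eq_of_le_of_card_ge h (by rw [hk.card₁, hk.card₂])))
  obtain ⟨b, hb, hb1⟩ := SetLike.not_le_iff_exists.1 (show ¬ P₂ ≤ P₁ from fun h =>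
    hne.symm (eq_of_le_of_card_ge h (by rw [hk.card₁, hk.card₂])))
  have hao : orderOf a = 2 := orderOf_eq_prime (by rw [pow_two, hk.exp₁ a ha]) fun e => ha2 (e ▸ one_mem _)
  have hbo : orderOf b = 2 := orderOf_eq_prime (by rw [pow_two, hk.exp₂ b hb]) fun e => hb1 (e ▸ one_mem _)
  have habT : a * b ∈ T := mul_mem (hk.loc₁.lt.le ha) (hk.loc₂.lt.le hb)
  have hab : orderOf (a * b) = 4 := by
    have h4 := hk.loc₁.pow_four hc habT
    refine orderOf_eq_prime_pow (p := 2) (n := 1) ?_ (by norm_num; exact h4)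
    rw [pow_one, pow_two]
    intro h
    rcases hk.invol _ habT h with h' | h'
    · exact hb1 (by simpa using mul_mem (inv_mem ha) h')
    · exact ha2 (by simpa using mul_mem h' (inv_mem hb))
  obtain ⟨e⟩ := Cfsg.Agent.S0206.result a b hao hbo fun e => ha2 (e ▸ hb)
  rw [hab] at e
  have hcl : closure ({a, b} : Set G) = T := eq_of_le_of_card_ge
    ((closure_le _).2 (Set.insert_subset (hk.loc₁.lt.le ha) (Set.singleton_subset_iff.2 (hk.loc₂.lt.le hb))))
    (by rw [hk.cardT, Nat.card_congr e.toEquiv, DihedralGroup.nat_card]; norm_num)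
  exact ⟨z, hzo, ⟨(MulEquiv.subgroupCongr ((hk.centralizer_eq hc z.2 hz1).trans hcl.symm)).trans e⟩⟩

theorem orbit_eq (hl : Loc P T) (hc : Ctx G) (hcard : Nat.card P = 16)
    (h3 : ∃ y ∈ normalizer (P : Set G), orderOf y = 3)
    (h5 : ∃ y ∈ normalizer (P : Set G), orderOf y = 5) {v w : G} (hv : v ∈ P) (hv1 : v ≠ 1)
    (hw : w ∈ P) (hw1 : w ≠ 1) : ∃ g, g * v * g⁻¹ = w := by
  classical
  haveI : Fact (Nat.Prime 2) := ⟨Nat.prime_two⟩
  set N := normalizer (P : Set G)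
  let vN : N := ⟨v, le_normalizer hv⟩
  set O := MulAction.orbit (ConjAct N) vN
  have hidx : O.ncard * Nat.card (centralizer ({vN} : Set N)) = Nat.card N := by
    rw [nat_card_centralizer_nat_card_stabilizer, ← MulAction.index_stabilizer, mul_comm,
      card_mul_index]
    rfl
  have h2 : IsPGroup 2 (centralizer ({vN} : Set N)) :=
    (hc.five.subgroup N).isPGroup_centralizer_two (fun e => hv1 (congrArg Subtype.val e))
      (Subtype.ext (hl.pow_four hc (hl.lt.le hv)))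
  obtain ⟨k, hk⟩ := IsPGroup.iff_card.1 h2
  rw [hk] at hidx
  have h15 : 15 ∣ O.ncard := by
    have hd : ∀ p : ℕ, p.Prime → p ≠ 2 → (∃ y ∈ N, orderOf y = p) → p ∣ O.ncard := by
      intro p hp hp2 ⟨y, hy, hyo⟩
      have : p ∣ O.ncard * 2 ^ k := hidx ▸ hyo ▸ N.orderOf_dvd_natCard hy
      exact (Nat.Coprime.pow_right k ((Nat.coprime_primes hp Nat.prime_two).2 hp2)).dvd_of_dvd_mul_right this
    exact Nat.Coprime.mul_dvd_of_dvd_of_dvd (by norm_num : Nat.Coprime 3 5)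
      (hd 3 Nat.prime_three (by norm_num) h3) (hd 5 (by norm_num) (by norm_num) h5)
  set S : Set N := {x | (x : G) ∈ P ∧ x ≠ 1}
  have hsub : O ⊆ S := by
    rintro x ⟨g, rfl⟩
    refine ⟨?_, ?_⟩
    · simpa [ConjAct.smul_def] using (mem_normalizer_iff.1 (ConjAct.ofConjAct g).2 v).1 hv
    · intro e
      exact hv1 (congrArg Subtype.val (smul_eq_iff_eq_inv_smul g |>.1 e |>.trans (smul_one _)))
  have hS : S.ncard = 15 := by
    rw [← Set.ncard_image_of_injective S N.subtype_injective,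
      show (N.subtype '' S) = (P : Set G) \ {1} from ?_,
      Set.ncard_sdiff_singleton_of_mem P.one_mem, ← Nat.card_coe_set_eq]
    · exact (congrArg (· - 1) hcard).trans rfl
    ext x
    refine ⟨?_, fun ⟨h, h'⟩ => ⟨⟨x, le_normalizer h⟩, ⟨h, fun e => h' (congrArg Subtype.val e)⟩, rfl⟩⟩
    rintro ⟨a, ⟨h, h'⟩, rfl⟩
    exact ⟨h, fun e => h' (Subtype.ext e)⟩
  have hpos : 0 < O.ncard := (Set.ncard_pos).2 ⟨vN, MulAction.mem_orbit_self _⟩
  have hOS : O = S := Set.eq_of_subset_of_ncard_le hsub (by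
    rw [hS]; exact Nat.le_of_dvd hpos h15)
  obtain ⟨g, hg⟩ := hOS.ge (show (⟨w, le_normalizer hw⟩ : N) ∈ S from
    ⟨hw, fun e => hw1 (congrArg Subtype.val e)⟩)
  exact ⟨(ConjAct.ofConjAct g : N), by simpa [ConjAct.smul_def] using congrArg Subtype.val hg⟩

/-- In the large configuration there is one class of involutions. -/
theorem one_class (hk : Config P₁ P₂ T 4) (hc : Ctx G) {v w : G} (hv : v ∈ T) (hv2 : orderOf v = 2)
    (hw : w ∈ T) (hw2 : orderOf w = 2) : ∃ g, g * v * g⁻¹ = w := by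
  obtain ⟨z, hz, hz1⟩ := (bot_or_exists_ne_one (P₁ ⊓ P₂)).resolve_left fun e => by
    have := hk.cardC; rw [e, card_bot] at this; omega
  -- both cores have normalizers with elements of orders three and five
  have key : ∀ {A B : Subgroup G}, Loc A T → Loc B T → Nat.card A = 16 → Nat.card B = 16 →
      (∀ x ∈ B, x * x = 1) → (∀ x ∈ T, ∃ a ∈ A, ∃ b ∈ B, x = a * b) → (∀ a ∈ A, a * a = 1) →
      ∀ x ∈ A, x ≠ 1 → ∀ x' ∈ A, x' ≠ 1 → ∃ g, g * x * g⁻¹ = x' := by
    intro A B hA hB hcA hcB heB hprod heA x hx hx1 x' hx' hx'1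
    have hcard := card_mul_relIndex hA.lt.le
    rw [hcA, hk.cardT] at hcard
    have hrel : A.relIndex T = 4 := by omega
    obtain ⟨hfour, -, hcy, -⟩ := hA.facts hc
    refine orbit_eq hA hc hcA ?_ ?_ hx hx1 hx' hx'1
    · rcases hcy with ⟨g, hg, hgen⟩ | ⟨y, hy, hyo, -⟩
      swap
      · exact ⟨y, hy, hyo⟩
      exfalso
      -- `T / A` would have at most two elements
      obtain ⟨a, ha, b, hb, rfl⟩ := hprod g hg
      haveI : (A.subgroupOf T).Normal := (normal_subgroupOf_iff_le_normalizer hA.lt.le).2 hA.leN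
      set π := QuotientGroup.mk' (A.subgroupOf T)
      have hbT : b ∈ T := hB.lt.le hb
      have hgb : π ⟨a * b, hg⟩ = π ⟨b, hbT⟩ := by
        rw [show (⟨a * b, hg⟩ : T) = ⟨a, hA.lt.le ha⟩ * ⟨b, hbT⟩ from rfl, map_mul,
          show π ⟨a, hA.lt.le ha⟩ = 1 from (QuotientGroup.eq_one_iff _).2 ha, one_mul]
      have hall : ∀ y : T ⧸ A.subgroupOf T, y ∈ zpowers (π ⟨b, hbT⟩) := fun y => by
        obtain ⟨t, rfl⟩ := QuotientGroup.mk'_surjective (A.subgroupOf T) y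
        obtain ⟨n, hn⟩ := hgen t t.2
        refine mem_zpowers_iff.2 ⟨-n, ?_⟩
        rw [← hgb, ← map_zpow]
        refine QuotientGroup.eq.2 (mem_subgroupOf.2 ?_)
        simpa using hn
      have h2 : Nat.card (zpowers (π ⟨b, hbT⟩)) ≤ 2 := by
        rw [Nat.card_zpowers]
        refine orderOf_le_of_pow_eq_one (by norm_num) ?_
        rw [← map_pow, show (⟨b, hbT⟩ : T) ^ 2 = 1 from Subtype.ext (by simp [pow_two, heB b hb]),
          map_one]
      have h4 : Nat.card (T ⧸ A.subgroupOf T) = 4 := hrel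
      rw [eq_top_iff' _ |>.2 hall, card_top, h4] at h2
      omega
    · rcases hfour with e | ⟨-, h⟩
      · rw [hk.cardT, hcA] at e; norm_num at e
      · exact h
  have toz : ∀ x ∈ T, orderOf x = 2 → ∃ g, g * x * g⁻¹ = z := by
    intro x hx hx2
    have hxx : x * x = 1 := by rw [← pow_two, ← hx2, pow_orderOf_eq_one]
    have hx1 : x ≠ 1 := fun e => by rw [e, orderOf_one] at hx2; omega
    rcases hk.invol x hx hxx with h | h
    · exact key hk.loc₁ hk.loc₂ hk.card₁ hk.card₂ hk.exp₂ hk.prod hk.exp₁ x h hx1 z hz.1 hz1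
    · refine key hk.loc₂ hk.loc₁ hk.card₂ hk.card₁ hk.exp₁ (fun y hy => ?_) hk.exp₂ x h hx1 z hz.2 hz1
      obtain ⟨a, ha, b, hb, hab⟩ := hk.prod y⁻¹ (inv_mem hy)
      exact ⟨b⁻¹, inv_mem hb, a⁻¹, inv_mem ha, by rw [← mul_inv_rev, ← hab, inv_inv]⟩
  obtain ⟨g₁, e₁⟩ := toz v hv hv2
  obtain ⟨g₂, e₂⟩ := toz w hw hw2
  exact ⟨g₂⁻¹ * g₁, by
    calc g₂⁻¹ * g₁ * v * (g₂⁻¹ * g₁)⁻¹ = g₂⁻¹ * (g₁ * v * g₁⁻¹) * g₂ := by group
      _ = w := by rw [e₁, ← e₂]; group⟩

end Config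

end CfsgLib.Recog.OrdersFive
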